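import Cfsg.Agent.R2.Spec.X7.N6.EGa
import Cfsg.Agent.R2.Spec.EE.SokG2
import Cfsg.Agent.R2.Spec.EE.SokF4
import Cfsg.Agent.R2.Spec.EE.SokE6
import Cfsg.Agent.R2.Spec.EE.SokE7
import Cfsg.Agent.R2.Spec.EE.SokE8
import Cfsg.Agent.R2.Spec.EE.SokTE6
import Cfsg.Agent.R2.Spec.EE.SokTD4
import Cfsg.Agent.R2.Spec.EE.SokTF4
import Cfsg.Agent.R2.Spec.EE.SokRee
import Cfsg.Agent.R2.Spec.EE.SokSz

/-!
# Box X7, `n = 6`, packet N6-EG (helper22, S3435): the primes of class five are good, `S` exceptional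

`LS.good5_exc` : from the tables of the packet EE.
-/

set_option autoImplicit false

namespace Cfsg.Agent.R2.Spec.X7.N6

open Subgroup Cfsg
open Cfsg.Agent.H426.LieFam Cfsg.Agent.R2.Spec Cfsg.Agent.R2.Spec.P1 Cfsg.Agent.R2.Spec.F1
open Cfsg.Agent.H72 Cfsg.Agent.H420.QR Cfsg.Agent.R2.Spec.E

universe u w

variable {t : Fam} {p f : ℕ} {L : Type w} [Group L] [Finite L] {G : Type u} [Group G] [Finite G]
variable {K : Subgroup G} [K.Normal] {S : Subgroup (G ⧸ K)} [S.Normal] {t' : Fam} {v f' : ℕ}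

/-- every exceptional group has a table with the property `isoT` -/
theorem exists_tab (hF : ExFrm G K S t' v f') : ∃ T k, EE.SOk T ↥S v k ∧ isoT T = true := by
  have hv := hF.prime
  have hS := hF.is
  have hx := hF.exc
  cases t' with
  | g2 => exact ⟨_, _, EE.sok_g2 hv hS, by decide +kernel⟩
  | f4 => exact ⟨_, _, EE.sok_f4 hv hS, by decide +kernel⟩
  | e6 => exact ⟨_, _, EE.sok_e6 hv hS, by decide +kernel⟩
  | e7 => exact ⟨_, _, EE.sok_e7 hv hS, by decide +kernel⟩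
  | e8 => exact ⟨_, _, EE.sok_e8 hv hS, by decide +kernel⟩
  | te6 => exact ⟨_, _, EE.sok_te6 hv hS, by decide +kernel⟩
  | td4 => exact ⟨_, _, EE.sok_td4 hv hS, by decide +kernel⟩
  | sz => exact ⟨_, _, EE.sok_sz hv hS, by decide +kernel⟩
  | tf4 => exact ⟨_, _, EE.sok_tf4 hv hS, by decide +kernel⟩
  | ree => exact ⟨_, _, EE.sok_ree hv hS, by decide +kernel⟩
  | psl n => exact hx.elim
  | psp n => exact hx.elim
  | psu n => exact hx.elim
  | oodd n => exact hx.elim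
  | oplus n => exact hx.elim
  | ominus n => exact hx.elim

/-- **N6-EG**: the primes of class five are good, `S` exceptional. -/
theorem LS.good5_exc (h : LS t p f L G) (hR : Red G K S) (hF : ExFrm G K S t' v f') (hp2 : p ≠ 2) (hvp : v ≠ p)
    (ht : T6 t) {c : ℕ} (hup : ∀ g : G, Up p (sg t (p ^ f)) c (orderOf g)) {r : ℕ} (hr : r.Prime)
    (hrc : cls t (p ^ f) r = 5) : ¬ r ∣ Nat.card K * S.index ∧ r ∣ Nat.card S :=
  good5_exc_of h hR hF hp2 hvp ht hup (exists_tab hF) hr hrc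

end Cfsg.Agent.R2.Spec.X7.N6
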