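import Mathlib
import Cfsg.Agent.R2.Spec.X7.N6.E2

/-!
# Box X7, `n = 6`, packet N6-E (helper9): more tools
-/

set_option autoImplicit false
set_option maxHeartbeats 1000000

namespace Cfsg.Agent.R2.Spec.X7.N6

variable {p q : ℕ} {s : ℤ} {c c5 M : ℕ}

namespace SixN

lemma q3_le (h : SixN p q s c c5 M) : 8 * q ^ 3 ≤ 5 * M := by
  have h1 := h.lo
  have h3 : (3 : ℤ) ≤ q := by exact_mod_cast h.q3
  have key : 8 * (q : ℤ) ^ 3 ≤ 5 * M := by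
    rcases h.c5_or with h2 | h2
    · rw [h2] at h1
      push_cast at h1
      nlinarith [mul_nonneg (by linarith : (0 : ℤ) ≤ (q : ℤ) - 3) (by positivity : (0 : ℤ) ≤ (q : ℤ) ^ 3)]
    · have h9 : (9 : ℤ) ≤ q := by exact_mod_cast h.q9 h2
      rw [h2] at h1
      push_cast at h1
      nlinarith [mul_nonneg (by linarith : (0 : ℤ) ≤ (q : ℤ) - 9) (by positivity : (0 : ℤ) ≤ (q : ℤ) ^ 3)]
  exact_mod_cast key

/-- coprimality from a relation -/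
lemma cop_of (h : SixN p q s c c5 M) {T N : ℕ} (hT : M ∣ T) {α β k : ℤ} (hr : α * T + β * N = k) (hk : k ≠ 0)
    (hk' : k.natAbs < 11) : Nat.Coprime N M := by
  refine Nat.Coprime.symm (Nat.coprime_of_dvd fun w hw hwM hwN => ?_)
  have h1 := h.prime_geE hw hwM
  have h2 : (w : ℤ) ∣ k := by
    rw [← hr]
    exact dvd_add ((Int.natCast_dvd_natCast.mpr (hwM.trans hT)).mul_left _)
      ((Int.natCast_dvd_natCast.mpr hwN).mul_left _)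
  have h3 := Nat.le_of_dvd (Int.natAbs_pos.mpr hk) (Int.natCast_dvd.mp h2)
  omega

/-- `G = c₅ (s - 1) / c` -/
lemma exists_G (h : SixN p q s c c5 M) : ∃ G : ℤ, c * G = c5 * (s - 1) ∧ G ≠ 0 ∧ 2 * |G| ≤ c5 * (q + 1) := by
  obtain ⟨t, ht⟩ := h.c_dvd
  have h5 := h.c5_pos
  have ht0 : t ≠ 0 := by
    rintro rfl
    exact h.s_ne (by rw [ht, mul_zero])
  refine ⟨c5 * t, by rw [ht]; ring, mul_ne_zero (by linarith) ht0, ?_⟩
  have h4 : |s - 1| ≤ q + 1 := by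
    have := abs_sub s 1
    rw [h.abs_s] at this
    simpa using this
  have hc : (2 : ℤ) ≤ c := by rcases h.c_or with h1 | h1 <;> rw [h1] <;> norm_num
  rw [abs_mul, abs_of_pos (by linarith : (0 : ℤ) < c5)]
  calc 2 * ((c5 : ℤ) * |t|) = c5 * (2 * |t|) := by ring
    _ ≤ c5 * (c * |t|) := by gcongr
    _ = c5 * |s - 1| := by rw [ht, abs_mul, abs_of_nonneg (by linarith : (0 : ℤ) ≤ c)]
    _ ≤ c5 * (q + 1) := by gcongr

lemma M_oddE (h : SixN p q s c c5 M) : Odd M := by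
  rw [← Nat.not_even_iff_odd]
  intro he
  have := h.prime_geE Nat.prime_two he.two_dvd
  omega

/-- **the exponent method** -/
theorem killE (h : SixN p q s c c5 M) {X k : ℕ} (hk : 0 < k) (hX : (X : ℤ) ∣ k * PI p s) {a1 a2 b1 b2 d e r u : ℕ}
    (hu : 0 < u) (h1 : a2 * u ^ d ≤ a1 * X) (h2 : b1 * M ≤ b2 * u ^ e) (hr : 4 * d = 13 * e + r)
    (hnum : a1 ^ 4 * k ^ 4 * (50 ^ 4 * 45 ^ 9) * b2 ^ 13 < 81 * 8 ^ 9 * a2 ^ 4 * b1 ^ 13 * u ^ r) : False := by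
  have h3 := h.size2 hk hX
  have h4 : (a2 * u ^ d) ^ 4 ≤ (a1 * X) ^ 4 := Nat.pow_le_pow_left h1 4
  have h5 : (b1 * M) ^ 13 ≤ (b2 * u ^ e) ^ 13 := Nat.pow_le_pow_left h2 13
  have h6 : (81 * 8 ^ 9 * a2 ^ 4 * b1 ^ 13 * u ^ r) * u ^ (13 * e) ≤
      (a1 ^ 4 * k ^ 4 * (50 ^ 4 * 45 ^ 9) * b2 ^ 13) * u ^ (13 * e) := by
    calc (81 * 8 ^ 9 * a2 ^ 4 * b1 ^ 13 * u ^ r) * u ^ (13 * e)
        = 81 * 8 ^ 9 * b1 ^ 13 * (a2 ^ 4 * u ^ (13 * e + r)) := by rw [pow_add]; ring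
      _ = 81 * 8 ^ 9 * b1 ^ 13 * (a2 * u ^ d) ^ 4 := by rw [← hr, mul_pow, ← pow_mul, mul_comm 4 d]
      _ ≤ 81 * 8 ^ 9 * b1 ^ 13 * (a1 * X) ^ 4 := Nat.mul_le_mul_left _ h4
      _ = a1 ^ 4 * b1 ^ 13 * (81 * 8 ^ 9 * X ^ 4) := by rw [mul_pow]; ring
      _ ≤ a1 ^ 4 * b1 ^ 13 * (k ^ 4 * (50 ^ 4 * 45 ^ 9 * M ^ 13)) := Nat.mul_le_mul_left _ h3
      _ = a1 ^ 4 * k ^ 4 * (50 ^ 4 * 45 ^ 9) * (b1 * M) ^ 13 := by rw [mul_pow b1 M]; ring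
      _ ≤ a1 ^ 4 * k ^ 4 * (50 ^ 4 * 45 ^ 9) * (b2 * u ^ e) ^ 13 := Nat.mul_le_mul_left _ h5
      _ = (a1 ^ 4 * k ^ 4 * (50 ^ 4 * 45 ^ 9) * b2 ^ 13) * u ^ (13 * e) := by
        rw [mul_pow b2 (u ^ e), ← pow_mul, mul_comm e 13]; ring
  have h7 := Nat.le_of_mul_le_mul_right h6 (pow_pos hu _)
  omega

end SixN

namespace SW

variable {W : ℕ → Prop}

/-- two orders divisible by a prime of `M` -/
theorem two_v (h : SW p q s c c5 M W) {w a b : ℕ} (hw : w.Prime) (hwM : w ∣ M) (hwa : w ∣ a) (hwb : w ∣ b)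
    (ha : W a) (hb : W b) {α β k : ℤ} (hr : α * a + β * b = k) (hk : k ≠ 0) :
    (a * b : ℤ) * 2 ≤ |k| * (c5 * (q + 1)) * M := by
  obtain ⟨G, hG, hG0, hG2⟩ := h.n.exists_G
  have hc0 : (c : ℤ) ≠ 0 := by rcases h.n.c_or with h1 | h1 <;> rw [h1] <;> norm_num
  have key : ∀ {E : ℕ}, w ∣ E → W E → (E : ℤ) ∣ G * M := by
    intro E hwE hE
    have h1 := h.up_prime hw hwM hwE hE
    rw [← hG, mul_assoc] at h1
    exact (mul_dvd_mul_iff_left hc0).mp h1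
  have h1 := mul_dvd_of (key hwa ha) (key hwb hb) hr
  have hM0 : (M : ℤ) ≠ 0 := by exact_mod_cast h.n.M_pos.ne'
  have h2 : k * (G * M) ≠ 0 := mul_ne_zero hk (mul_ne_zero hG0 hM0)
  have h3 := Int.le_of_dvd (abs_pos.mpr h2) ((dvd_abs _ _).mpr h1)
  rw [abs_mul, abs_mul, abs_of_nonneg (by positivity : (0 : ℤ) ≤ (M : ℤ))] at h3
  have hk0 := abs_nonneg k
  calc (a * b : ℤ) * 2 ≤ |k| * (|G| * M) * 2 := by gcongr
    _ = |k| * (2 * |G|) * M := by ring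
    _ ≤ |k| * (c5 * (q + 1)) * M := by gcongr

end SW

end Cfsg.Agent.R2.Spec.X7.N6
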