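import Mathlib
import Cfsg.Agent.R2.Spec.X7.N6.E3

/-!
# Box X7, `n = 6`, packet N6-E (helper9): coprimality tools
-/

set_option autoImplicit false
set_option maxHeartbeats 1000000

namespace Cfsg.Agent.R2.Spec.X7.N6

theorem cop_of_k {a b α β k : ℤ} (h : α * a + β * b = k) (hc : IsCoprime a k) : IsCoprime a b := by
  obtain ⟨x, y, hxy⟩ := hc
  exact ⟨x + y * α, y * β, by rw [← hxy, ← h]; ring⟩

theorem gmul {g a b N : ℤ} (ha : g * a ∣ N) (hb : g * b ∣ N) (h : IsCoprime a b) : g * (a * b) ∣ N := by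
  obtain ⟨x, hx⟩ := ha
  obtain ⟨y, hy⟩ := hb
  obtain ⟨α, β, hab⟩ := h
  exact ⟨α * y + β * x, by linear_combination (-N) * hab + α * a * hy + β * b * hx⟩

theorem cop2 {a : ℤ} (h : a % 2 = 1) : IsCoprime a 2 := ⟨1, -(a / 2), by omega⟩

theorem cop3 {a : ℤ} (h : a % 3 = 1 ∨ a % 3 = 2) : IsCoprime a 3 := by
  rcases h with h | h
  · exact ⟨1, -(a / 3), by omega⟩
  · exact ⟨-1, a / 3 + 1, by omega⟩

theorem cop5 {a : ℤ} (h : a % 5 = 1 ∨ a % 5 = 2 ∨ a % 5 = 3 ∨ a % 5 = 4) : IsCoprime a 5 := by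
  rcases h with h | h | h | h
  · exact ⟨1, -(a / 5), by omega⟩
  · exact ⟨3, -(3 * (a / 5) + 1), by omega⟩
  · exact ⟨2, -(2 * (a / 5) + 1), by omega⟩
  · exact ⟨-1, a / 5 + 1, by omega⟩

theorem SixN.cop_small {p q : ℕ} {s : ℤ} {c c5 M : ℕ} (h : SixN p q s c c5 M) {n : ℕ}
    (hn : ∀ r : ℕ, r.Prime → r ∣ n → r < 11) : Nat.Coprime M n :=
  Nat.coprime_of_dvd fun w hw hwM hwn => by
    have := h.prime_geE hw hwM
    have := hn w hw hwn
    omega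

end Cfsg.Agent.R2.Spec.X7.N6
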