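import Mathlib
import Cfsg.Agent.R2.Spec.X7.N6.E4
import Cfsg.Agent.R2.Spec.X4.H18.TD4
import Cfsg.Agent.H874.Pw.D4Cent
import Cfsg.Agent.H710.LtwoSL2

/-!
# Box X7, `n = 6`, packet N6-E (helper9): `S = ³D₄(u)`
-/

set_option autoImplicit false
set_option maxHeartbeats 1000000

namespace Cfsg.Agent.R2.Spec.X7.N6

open Cfsg.Agent.R2.Spec.X4.H18 (D4Dat)
open Cfsg.Agent.Cit.HexBase Cfsg.Agent.Cit.HexBase.HexGrp

variable {p q : ℕ} {s : ℤ} {c c5 M : ℕ} {W : ℕ → Prop} {v u : ℕ}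

/-- elements of order `v (u³ ± 1)` -/
theorem d4_vord {K : Type*} [Field K] [Fintype K] {v q : ℕ} (hv : v.Prime) (h2 : v ≠ 2) [CharP K v] (hq : 1 < q)
    (hK : Fintype.card K = q ^ 3) (hvq : v ∣ q) :
    (∃ x : ↥(Cfsg.Lie.twistedD4 K q), orderOf x = v * (q ^ 3 - 1)) ∧
      ∃ x : ↥(Cfsg.Lie.twistedD4 K q), orderOf x = v * (q ^ 3 + 1) := by
  obtain ⟨σ, hσ, ⟨c⟩⟩ := Cfsg.Agent.Cit.HexD4.exists_d4 hK
  have hfx : Nat.card ↥(fx σ) = q :=
    Cfsg.Agent.ChevalleyStructure.D4U.card_fix_field (φ := (σ : K →+* K)) hq hK hσ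
  have : Fintype ↥(fx σ) := Fintype.ofFinite _
  have h20 : (2 : K) ≠ 0 := by
    intro h
    have h3 : ((2 : ℕ) : K) = 0 := by exact_mod_cast h
    rw [CharP.cast_eq_zero_iff K v] at h3
    exact h2 ((Nat.prime_dvd_prime_iff_eq hv Nat.prime_two).mp h3)
  have hfv : Fact v.Prime := ⟨hv⟩
  obtain ⟨y, hy⟩ : ∃ y : Matrix.SpecialLinearGroup (Fin 2) ↥(fx σ), orderOf y = v := by
    apply exists_prime_orderOf_dvd_card'
    rw [Cfsg.Agent.ClassicalGeometry.PSL2Basic.card_SL2, ← Nat.card_eq_fintype_card, hfx]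
    exact hvq.mul_right _
  have hy' : orderOf (c.p4 y) = v := by rw [orderOf_injective _ c.p4_inj, hy]
  have hq3 : v ∣ q ^ 3 := hvq.trans (dvd_pow_self q (by norm_num))
  have key : ∀ {a : Matrix.SpecialLinearGroup (Fin 2) K} {n : ℕ}, orderOf a = n → ¬ v ∣ n →
      ∃ x : ↥(Cfsg.Lie.twistedD4 K q), orderOf x = v * n := by
    intro a n ha hn
    have ha' : orderOf (c.pb a) = n := by rw [orderOf_injective _ (c.pb_inj h20), ha]
    refine ⟨c.pb a * c.p4 y, ?_⟩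
    have hcm : Commute (c.pb a) (c.p4 y) := c.comm_pb_p4 a y
    rw [hcm.orderOf_mul_eq_mul_orderOf_of_coprime (by
      rw [ha', hy']
      exact ((Nat.Prime.coprime_iff_not_dvd hv).mpr hn).symm), ha', hy', mul_comm]
  have h1 : 1 < q ^ 3 := Nat.one_lt_pow (by norm_num) hq
  constructor
  · obtain ⟨a, ha⟩ := Cfsg.Agent.H710.SLTwo.exists_order_sub_one K
    rw [hK] at ha
    refine key ha fun hd => ?_
    have h3 : v ∣ q ^ 3 - (q ^ 3 - 1) := Nat.dvd_sub hq3 hd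
    rw [show q ^ 3 - (q ^ 3 - 1) = 1 by omega] at h3
    exact hv.one_lt.ne' (Nat.dvd_one.1 h3)
  · obtain ⟨a, ha⟩ := Cfsg.Agent.H710.SLTwo.exists_order_add_one K
    rw [hK] at ha
    refine key ha fun hd => ?_
    have h3 := (Nat.dvd_add_right hq3).1 hd
    exact hv.one_lt.ne' (Nat.dvd_one.1 h3)

/-- the element orders of `³D₄(u)` used in the finite check -/
def lowD4 (_v u : ℕ) : List ℕ := [u ^ 4 - u ^ 2 + 1, (u ^ 3 - 1) * (u + 1), (u ^ 3 + 1) * (u - 1)]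

theorem chkD4 : chk 42 40 3 lowD4 (fun _ _ => [0]) = true := by decide +kernel

theorem d4n1 {q u : ℤ} (hq : 3 ≤ q) (hu : 3 ≤ u) (k2 : u ^ 2 - u ≤ 10 * q + 12) (k : 3 * (q ^ 3 * (q - 1)) < 20 * u ^ 4) :
    q ≤ 42 ∧ u ≤ 40 := by
  have k3 : u ^ 2 ≤ 15 * q + 18 := by nlinarith
  have k4 : 3 * (q ^ 3 * (q - 1)) < 20 * (15 * q + 18) ^ 2 := by
    have : u ^ 4 ≤ (15 * q + 18) ^ 2 := by
      calc u ^ 4 = (u ^ 2) ^ 2 := by ring
        _ ≤ (15 * q + 18) ^ 2 := by gcongr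
    linarith
  have k5 : q ≤ 42 := by
    by_contra hcon
    push Not at hcon
    obtain ⟨t, rfl⟩ : ∃ t, q = t + 43 := ⟨q - 43, by ring⟩
    have ht : 0 ≤ t := by linarith
    nlinarith [pow_nonneg ht 4, pow_nonneg ht 3, pow_nonneg ht 2]
  exact ⟨k5, by nlinarith⟩

theorem d4n2 {q u M : ℤ} (hq : 3 ≤ q) (hu : 3 ≤ u) (h1 : M < 2 * u * (q + 1)) (h2 : q ^ 3 * (q - 1) < 5 * M)
    (h3 : 4 * u ^ 4 ≤ 3 * (5 * (q + 1) * M)) : q ≤ 42 ∧ u ≤ 40 := by
  have hu0 : 0 < u := by linarith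
  have hq0 : 0 < q := by linarith
  have k2 : q ^ 3 < 20 * u := by
    have k : (q - 1) * q ^ 3 < (q - 1) * (20 * u) := by
      have e1 : 5 * M < 10 * u * (q + 1) := by linarith
      have e2 : 10 * u * (q + 1) ≤ (q - 1) * (20 * u) := by nlinarith
      linarith
    exact lt_of_mul_lt_mul_left k (by linarith)
  have k4 : u ^ 3 < 15 * q ^ 2 := by
    have e1 : 4 * u ^ 4 < 3 * (5 * (q + 1) * (2 * u * (q + 1))) := by
      refine lt_of_le_of_lt h3 ?_
      have : 0 < 5 * (q + 1) := by linarith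
      have := mul_lt_mul_of_pos_left h1 this
      linarith
    have e2 : u * (4 * u ^ 3) < u * (30 * (q + 1) ^ 2) := by linarith
    have e3 := lt_of_mul_lt_mul_left e2 hu0.le
    nlinarith
  have k5 : q < 6 := by
    by_contra hcon
    push Not at hcon
    have k7 : (q ^ 3) ^ 3 < (20 * u) ^ 3 := by gcongr
    have k8 : q ^ 2 * q ^ 7 < q ^ 2 * 120000 := by
      calc q ^ 2 * q ^ 7 = (q ^ 3) ^ 3 := by ring
        _ < (20 * u) ^ 3 := k7
        _ = 8000 * u ^ 3 := by ring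
        _ ≤ 8000 * (15 * q ^ 2) := by gcongr
        _ = q ^ 2 * 120000 := by ring
    have k9 := lt_of_mul_lt_mul_left k8 (by positivity)
    have k10 : (6 : ℤ) ^ 7 ≤ q ^ 7 := by gcongr
    linarith
  refine ⟨by linarith, ?_⟩
  by_contra hcon
  push Not at hcon
  have k7 : (40 : ℤ) ^ 3 ≤ u ^ 3 := by gcongr
  nlinarith

theorem d4n3 {q u M : ℤ} (hq : 3 ≤ q) (hu : 3 ≤ u) (h1 : M < 2 * u * ((q + 1) ^ 2 + 1)) (h2 : q ^ 3 * (q - 1) < 5 * M)
    (h3 : 2 * u ^ 4 ≤ 3 * ((q ^ 3 + 1) * (q + 1))) : q ≤ 42 ∧ u ≤ 40 := by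
  have hu0 : 0 < u := by linarith
  have hq0 : 0 < q := by linarith
  have k3 : q < 19 := by
    by_contra hcon
    push Not at hcon
    have k5 : q ^ 2 < 12 * u := by
      by_contra hc
      push Not at hc
      have e1 : q ^ 3 * (q - 1) < 10 * u * ((q + 1) ^ 2 + 1) := by linarith
      have e2 : 12 * u * ((q + 1) ^ 2 + 1) ≤ q ^ 2 * ((q + 1) ^ 2 + 1) := by gcongr
      have e3 : q ^ 2 * (12 * (q * (q - 1))) < q ^ 2 * (10 * ((q + 1) ^ 2 + 1)) := by linarith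
      have e4 := lt_of_mul_lt_mul_left e3 (by positivity)
      nlinarith
    have k6 : (q ^ 2) ^ 4 < (12 * u) ^ 4 := by gcongr
    have k6' : 10368 * (3 * ((q ^ 3 + 1) * (q + 1))) ≤ q ^ 4 * 34000 := by
      obtain ⟨t, rfl⟩ : ∃ t, q = t + 19 := ⟨q - 19, by ring⟩
      have ht : 0 ≤ t := by linarith
      nlinarith [pow_nonneg ht 4, pow_nonneg ht 3, pow_nonneg ht 2]
    have k7 : q ^ 4 * q ^ 4 < q ^ 4 * 34000 := by
      calc q ^ 4 * q ^ 4 = (q ^ 2) ^ 4 := by ring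
        _ < (12 * u) ^ 4 := k6
        _ = 10368 * (2 * u ^ 4) := by ring
        _ ≤ 10368 * (3 * ((q ^ 3 + 1) * (q + 1))) := by gcongr
        _ ≤ q ^ 4 * 34000 := k6'
    have k8 := lt_of_mul_lt_mul_left k7 (by positivity)
    have k9 : (19 : ℤ) ^ 4 ≤ q ^ 4 := by gcongr
    linarith
  refine ⟨by linarith, ?_⟩
  by_contra hcon
  push Not at hcon
  have k7 : (40 : ℤ) ^ 4 ≤ u ^ 4 := by gcongr
  have k9 : (q ^ 3 + 1) * (q + 1) ≤ (19 ^ 3 + 1) * (19 + 1) := by gcongr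
  linarith

theorem nat_of_le {q u a b : ℕ} (h : (q : ℤ) ≤ a ∧ (u : ℤ) ≤ b) : q ≤ a ∧ u ≤ b :=
  ⟨by exact_mod_cast h.1, by exact_mod_cast h.2⟩

/-- **the bounds** -/
theorem d4_bound (h : SW p q s c c5 M W) (hu : 3 ≤ u) {T N : ℕ} {α β γ : ℤ} (hMT : M ∣ T) (hT : W T) (hN : W N)
    (hrel : α * T + β * N = γ) (hcop : Nat.Coprime N M) (hβ : |β| ≤ u) (hT3 : 2 * u ^ 4 ≤ 3 * T)
    (hN3 : 2 * u ^ 4 ≤ 3 * N) (hγ : |γ| * ((u : ℤ) ^ 2 - u) ≤ N) (hTle : T ≤ u ^ 4 + u ^ 3)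
    (hαγ : IsCoprime α γ) (hα : (u : ℤ) - 1 ≤ |α|) (hβγ : |β| < |γ|) (hβ0 : β ≠ 0) : q ≤ 42 ∧ u ≤ 40 := by
  have hq3 := h.n.q3
  have hqz : (3 : ℤ) ≤ q := by exact_mod_cast hq3
  have huz : (3 : ℤ) ≤ u := by exact_mod_cast hu
  have hc5 := h.n.c5_pos
  have hc5' : (c5 : ℤ) ≤ 5 := by rcases h.n.c5_or with h2 | h2 <;> rw [h2] <;> norm_num
  have hM0 := h.n.M_pos
  have hT0 : 0 < T := by
    have : 0 < u ^ 4 := pow_pos (by omega) 4
    omega
  have hMle := Nat.le_of_dvd hT0 hMT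
  have hu43 : 3 * (u ^ 4 + u ^ 3) ≤ 4 * u ^ 4 := by
    have : 3 * u ^ 3 ≤ u ^ 4 := by
      calc 3 * u ^ 3 ≤ u * u ^ 3 := Nat.mul_le_mul_right _ hu
        _ = u ^ 4 := by ring
    omega
  have hM4 : 3 * M ≤ 4 * u ^ 4 := by omega
  have hlo := h.n.lo
  have hMz : (0 : ℤ) < M := by exact_mod_cast hM0
  have hlo5 : (q : ℤ) ^ 3 * (q - 1) < 5 * M := by
    have h1 : (c5 : ℤ) * M ≤ 5 * M := by gcongr
    have h2 : (0 : ℤ) ≤ q * (q - 1) := by
      have : (0 : ℤ) ≤ (q : ℤ) - 1 := by linarith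
      positivity
    linarith
  by_cases hbig : q ^ 3 < N
  · by_cases hex : q = 3 ∧ N ≤ 72
    · have h1 : u ^ 4 ≤ 108 := by omega
      have h2 : u < 4 := by
        by_contra hcon
        have : 4 ^ 4 ≤ u ^ 4 := Nat.pow_le_pow_left (not_lt.mp hcon) 4
        omega
      omega
    have hq3' : q = 3 → 72 < N := by
      intro hq
      by_contra hcon
      exact hex ⟨hq, by omega⟩
    obtain ⟨e, he⟩ := id hMT
    have hup := h.up _ hT
    rw [he] at hup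
    have he1 := h.n.e_le (h.n.up_top hup)
    have hc2 : (2 : ℤ) ≤ c := by rcases h.n.c_or with h1 | h1 <;> rw [h1] <;> norm_num
    have hez : (0 : ℤ) ≤ e := by positivity
    have hTM : 2 * (T : ℤ) ≤ 5 * (q + 1) * M := by
      have e1 : (T : ℤ) = M * e := by exact_mod_cast he
      rw [e1]
      have h1 : 2 * (e : ℤ) ≤ 5 * (q + 1) := by
        calc 2 * (e : ℤ) ≤ c * e := by gcongr
          _ ≤ c5 * (q + 1) := he1
          _ ≤ 5 * (q + 1) := by gcongr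
      nlinarith
    have hT3z : 2 * (u : ℤ) ^ 4 ≤ 3 * T := by exact_mod_cast hT3
    have hN3z : 2 * (u : ℤ) ^ 4 ≤ 3 * N := by exact_mod_cast hN3
    have hM4z : 3 * (M : ℤ) ≤ 4 * (u : ℤ) ^ 4 := by exact_mod_cast hM4
    have hu0 : (0 : ℤ) < (u : ℤ) := by linarith
    rw [he] at hrel
    have hsmall : |α| ≤ 5 → q ≤ 42 ∧ u ≤ 40 := by
      intro h5
      have hu6 : u ≤ 6 := by
        have : (u : ℤ) ≤ 6 := by linarith
        exact_mod_cast this
      have h6 : u ^ 4 ≤ 6 ^ 4 := Nat.pow_le_pow_left hu6 4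
      have h7 := h.n.M_lo
      have h8 : q < 10 := by
        by_contra hcon
        have : 10 ^ 4 ≤ q ^ 4 := Nat.pow_le_pow_left (not_lt.mp hcon) 4
        omega
      omega
    have hdv : α ∣ c5 * γ → q ≤ 42 ∧ u ≤ 40 := by
      intro hd
      have h1 : α ∣ c5 := hαγ.dvd_of_dvd_mul_right hd
      have h2 := Int.le_of_dvd (by linarith) ((abs_dvd α _).mpr h1)
      exact hsmall (by linarith)
    rcases h.n.bracket' (e := e) (h.up _ hN) hcop hbig hq3' hrel with h1 | h1 | ⟨h1, h1'⟩ | h1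
    · -- small
      have hg0 : 0 < |γ| := lt_of_le_of_lt (abs_nonneg β) hβγ
      have k1 : (u : ℤ) ^ 2 - u ≤ 2 * (c5 * (q + 1) + 1) := by
        refine le_of_mul_le_mul_left ?_ hg0
        calc |γ| * ((u : ℤ) ^ 2 - u) ≤ N := hγ
          _ ≤ 2 * (c5 * (q + 1) + 1) * |γ| := h1
          _ = |γ| * (2 * (c5 * (q + 1) + 1)) := by ring
      have k2 : (u : ℤ) ^ 2 - u ≤ 10 * q + 12 := by nlinarith
      exact nat_of_le (d4n1 hqz huz k2 (by linarith))
    · -- `M < 2 |β| (q + 1)`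
      have k1 : (M : ℤ) < 2 * u * (q + 1) := by
        calc (M : ℤ) < 2 * |β| * (q + 1) := h1
          _ ≤ 2 * u * (q + 1) := by gcongr
      exact nat_of_le (d4n2 hqz huz k1 hlo5 (by linarith))
    · -- the third case
      have k1 : (M : ℤ) < 2 * u * ((q + 1) ^ 2 + 1) := by
        calc (M : ℤ) < 2 * |β| * ((q + 1) ^ 2 + 1) := h1
          _ ≤ 2 * u * ((q + 1) ^ 2 + 1) := by gcongr
      have k2 : 2 * (u : ℤ) ^ 4 ≤ 3 * ((q ^ 3 + 1) * (q + 1)) := by linarith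
      exact nat_of_le (d4n3 hqz huz k1 hlo5 k2)
    · rcases h1 with ⟨-, j, -, h2⟩ | ⟨h2, -⟩ | ⟨h2, -⟩ | ⟨h2, -⟩ | ⟨h2, -⟩
      · exfalso
        have h3 : γ ∣ β := ⟨c * j, by linarith⟩
        have h4 := Int.le_of_dvd (abs_pos.mpr hβ0) ((abs_dvd_abs γ β).mpr h3)
        linarith
      · exact hdv ⟨e, h2⟩
      · exact hdv ⟨e, h2⟩
      · exact hdv ⟨e * (s ^ 2 + 2 * s + 2), by rw [h2]; ring⟩
      · exact hdv ⟨e * (s + 1), by rw [h2]; ring⟩
  · -- `N ≤ q ^ 3`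
    have hb : N ≤ q ^ 3 := not_lt.mp hbig
    have h1 : 2 * u ^ 4 ≤ 3 * q ^ 3 := by omega
    have h2 : M ≤ 2 * q ^ 3 := by omega
    have h3 : q < 12 := by
      by_contra hcon
      have k1 : (12 : ℤ) ≤ q := by exact_mod_cast not_lt.mp hcon
      have k2 : (M : ℤ) ≤ 2 * q ^ 3 := by exact_mod_cast h2
      have k3 : (0 : ℤ) < (q : ℤ) ^ 3 := by positivity
      nlinarith
    have h4 : u ≤ 40 := by
      by_contra hcon
      have k1 : 40 ^ 4 ≤ u ^ 4 := Nat.pow_le_pow_left (by omega) 4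
      have k2 : q ^ 3 ≤ 12 ^ 3 := Nat.pow_le_pow_left h3.le 3
      omega
    exact ⟨by omega, h4⟩

theorem not_td4D {S : Type*} [Group S] [Finite S] (hS : Sec p q s c c5 M S) (D : D4Dat v u S) (hvp : v ≠ p)
    (hvo : v ≠ 2 → (∃ x : S, orderOf x = v * (u ^ 3 - 1)) ∧ ∃ x : S, orderOf x = v * (u ^ 3 + 1)) : False := by
  have h := hS.sw
  have hM17 := h.n.M_gt
  have hu2 := D.u2
  have hvu := D.vu
  have hv0 := D.vp.pos
  by_cases hu : 3 ≤ u
  swap
  · have hu' : u = 2 := by omega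
    obtain ⟨x, hx⟩ := hS.elt
    have h1 : M ∣ Nat.card S := by rw [← hx]; exact orderOf_dvd_natCard x
    rw [D.card, hu'] at h1
    have h2 : M ∣ (2 ^ 12 * 3 ^ 4 * 7 ^ 2) * 13 := by
      norm_num at h1 ⊢
      exact h1
    have h3 : Nat.Coprime M (2 ^ 12 * 3 ^ 4 * 7 ^ 2) := by
      refine h.n.cop_small fun r hr hd => ?_
      rcases hr.dvd_mul.1 hd with h4 | h4
      · rcases hr.dvd_mul.1 h4 with h5 | h5
        · have := Nat.le_of_dvd (by norm_num) (hr.dvd_of_dvd_pow h5)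
          omega
        · have := Nat.le_of_dvd (by norm_num) (hr.dvd_of_dvd_pow h5)
          omega
      · have := Nat.le_of_dvd (by norm_num) (hr.dvd_of_dvd_pow h4)
        omega
    have h4 := Nat.le_of_dvd (by norm_num) (h3.dvd_of_dvd_mul_left h2)
    omega
  have huz : (3 : ℤ) ≤ u := by exact_mod_cast hu
  have hvle : v ≤ u := Nat.le_of_dvd (by omega) hvu
  have hu3 : 1 < u ^ 3 := Nat.one_lt_pow (by norm_num) (by omega)
  have hle : u ^ 2 ≤ u ^ 4 := Nat.pow_le_pow_right (by omega) (by norm_num)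
  have e12 : ((u ^ 4 - u ^ 2 + 1 : ℕ) : ℤ) = (u : ℤ) ^ 4 - u ^ 2 + 1 := by
    rw [Nat.cast_add, Nat.cast_sub hle]; push_cast; ring
  have eA : (((u ^ 3 - 1) * (u + 1) : ℕ) : ℤ) = ((u : ℤ) ^ 3 - 1) * (u + 1) := by
    rw [Nat.cast_mul, Nat.cast_sub (by omega)]; push_cast; ring
  have eB : (((u ^ 3 + 1) * (u - 1) : ℕ) : ℤ) = ((u : ℤ) ^ 3 + 1) * (u - 1) := by
    rw [Nat.cast_mul, Nat.cast_sub (by omega)]; push_cast; ring
  -- the three tori
  have main : (M ∣ u ^ 4 - u ^ 2 + 1 ∨ M ∣ (u ^ 3 - 1) * (u + 1) ∨ M ∣ (u ^ 3 + 1) * (u - 1)) → False := by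
    intro hM
    have p3 : (0 : ℤ) ≤ (u : ℤ) ^ 3 := by positivity
    have m3 : (0 : ℤ) ≤ ((u : ℤ) - 3) * (u : ℤ) ^ 3 := mul_nonneg (by linarith) p3
    have m2 : (0 : ℤ) ≤ ((u : ℤ) - 3) * (u : ℤ) ^ 2 := mul_nonneg (by linarith) (by positivity)
    have m1 : (0 : ℤ) ≤ ((u : ℤ) - 3) * (u : ℤ) := mul_nonneg (by linarith) (by linarith)
    have t12 : 2 * u ^ 4 ≤ 3 * (u ^ 4 - u ^ 2 + 1) := by
      have : (2 : ℤ) * (u : ℤ) ^ 4 ≤ 3 * ((u ^ 4 - u ^ 2 + 1 : ℕ) : ℤ) := by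
        rw [e12]
        nlinarith
      exact_mod_cast this
    have tA : 2 * u ^ 4 ≤ 3 * ((u ^ 3 - 1) * (u + 1)) := by
      have : (2 : ℤ) * (u : ℤ) ^ 4 ≤ 3 * (((u ^ 3 - 1) * (u + 1) : ℕ) : ℤ) := by
        rw [eA]
        nlinarith
      exact_mod_cast this
    have tB : 2 * u ^ 4 ≤ 3 * ((u ^ 3 + 1) * (u - 1)) := by
      have : (2 : ℤ) * (u : ℤ) ^ 4 ≤ 3 * (((u ^ 3 + 1) * (u - 1) : ℕ) : ℤ) := by
        rw [eB]
        nlinarith
      exact_mod_cast this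
    have hb : q ≤ 42 ∧ u ≤ 40 := by
      rcases hM with hM | hM | hM
      · refine d4_bound h hu hM D.ex12 D.exA (α := u) (β := -(u - 1)) (γ := u ^ 2 + u - 1)
          (by rw [e12, eA]; ring) ?_ ?_ t12 tA ?_ ?_ ⟨u + 1, -1, by ring⟩ ?_ ?_ ?_
        · exact h.n.cop_of hM (α := u ^ 2 + 1) (β := -u ^ 2 + u - 1) (k := 2) (by rw [e12, eA]; ring) (by norm_num)
            (by norm_num)
        · rw [abs_neg, abs_of_nonneg (by linarith)]
          linarith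
        · rw [abs_of_nonneg (by nlinarith), eA]
          nlinarith
        · have : u ^ 2 ≥ 1 := Nat.one_le_pow _ _ (by omega)
          have : u ^ 3 ≥ 1 := by omega
          omega
        · rw [abs_of_nonneg (by linarith)]
          linarith
        · rw [abs_neg, abs_of_nonneg (by linarith), abs_of_nonneg (by nlinarith)]
          nlinarith
        · intro h0
          have : (u : ℤ) = 1 := by linarith
          linarith
      · refine d4_bound h hu hM D.exA D.ex12 (α := -(u - 1)) (β := u) (γ := u ^ 2 + u - 1)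
          (by rw [e12, eA]; ring) ?_ ?_ tA t12 ?_ ?_ ⟨u + 2, 1, by ring⟩ ?_ ?_ ?_
        · exact h.n.cop_of hM (α := -u ^ 2 + u - 1) (β := u ^ 2 + 1) (k := 2) (by rw [e12, eA]; ring) (by norm_num)
            (by norm_num)
        · rw [abs_of_nonneg (by linarith)]
        · rw [abs_of_nonneg (by nlinarith), e12]
          nlinarith
        · have : (((u ^ 3 - 1) * (u + 1) : ℕ) : ℤ) ≤ ((u ^ 4 + u ^ 3 : ℕ) : ℤ) := by
            rw [eA]
            push_cast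
            nlinarith
          exact_mod_cast this
        · rw [abs_neg, abs_of_nonneg (by linarith)]
        · rw [abs_of_nonneg (by linarith), abs_of_nonneg (by nlinarith)]
          nlinarith
        · linarith
      · refine d4_bound h hu hM D.exB D.ex12 (α := u + 1) (β := -u) (γ := u ^ 2 - u - 1)
          (by rw [e12, eB]; ring) ?_ ?_ tB t12 ?_ ?_ ⟨-(u - 2), 1, by ring⟩ ?_ ?_ ?_
        · exact h.n.cop_of hM (α := -u ^ 2 - u - 1) (β := u ^ 2 + 1) (k := 2) (by rw [e12, eB]; ring) (by norm_num)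
            (by norm_num)
        · rw [abs_neg, abs_of_nonneg (by linarith)]
        · rw [abs_of_nonneg (by nlinarith), e12]
          nlinarith
        · have : (((u ^ 3 + 1) * (u - 1) : ℕ) : ℤ) ≤ ((u ^ 4 + u ^ 3 : ℕ) : ℤ) := by
            rw [eB]
            push_cast
            nlinarith
          exact_mod_cast this
        · rw [abs_of_nonneg (by linarith)]
          linarith
        · rw [abs_neg, abs_of_nonneg (by linarith), abs_of_nonneg (by nlinarith)]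
          nlinarith
        · linarith
    refine h.chk_false chkD4 (by norm_num) (by norm_num) D.vp D.pw hvp hb.1 hb.2 hu ?_
      ⟨0, List.mem_singleton.mpr rfl, dvd_zero M⟩
    intro E hE
    simp only [lowD4, List.mem_cons, List.not_mem_nil, or_false] at hE
    rcases hE with rfl | rfl | rfl
    · exact D.ex12
    · exact D.exA
    · exact D.exB
  obtain ⟨x, hx⟩ := hS.elt
  have h0 := D.up hu x
  rw [hx] at h0
  have f3 : u ^ 3 - 1 = (u ^ 2 + u + 1) * (u - 1) := by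
    obtain ⟨t, rfl⟩ : ∃ t, u = t + 1 := ⟨u - 1, by omega⟩
    have : (t + 1) ^ 3 = ((t + 1) ^ 2 + (t + 1) + 1) * t + 1 := by ring
    rw [Nat.add_sub_cancel]
    omega
  have f3' : u ^ 3 + 1 = (u ^ 2 - u + 1) * (u + 1) := by
    have h1 : u ≤ u ^ 2 := Nat.le_self_pow two_ne_zero u
    zify [h1]
    ring
  by_cases hvM : v ∣ M
  · have h11 := h.n.prime_geE D.vp hvM
    have hnd : ∀ {n : ℕ}, v ∣ n → v ∣ n + 1 → False := by
      intro n h1 h2
      have := (Nat.dvd_add_right h1).1 h2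
      exact D.vp.one_lt.ne' (Nat.dvd_one.1 this)
    have hMle : M ≤ v * (u ^ 3 + 1) := by
      have k1 : v * (u ^ 3 - 1) ≤ v * (u ^ 3 + 1) := Nat.mul_le_mul_left _ (by omega)
      have k2 : v ^ 2 ≤ v * (u ^ 3 + 1) := by
        rw [pow_two]
        have : u ≤ u ^ 3 := Nat.le_self_pow (by norm_num) u
        exact Nat.mul_le_mul_left _ (by omega)
      have hd3 : v ∣ u ^ 3 := hvu.trans (dvd_pow_self u (by norm_num))
      rcases h0 with h0 | h0 | h0 | h0 | h0 | (h0 | ⟨-, h0⟩) | ⟨h0, -⟩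
      · exfalso
        have h1 : (v : ℤ) ∣ (u : ℤ) ^ 4 - u ^ 2 + 1 := by
          rw [← e12]
          exact_mod_cast hvM.trans h0
        have h2 : (v : ℤ) ∣ 1 := by
          obtain ⟨t, ht⟩ := hvu
          have h3 : (u : ℤ) = v * t := by exact_mod_cast ht
          have h4 : (1 : ℤ) = ((u : ℤ) ^ 4 - u ^ 2 + 1) - v * (t * (u ^ 3 - u)) := by rw [h3]; ring
          rw [h4]
          exact dvd_sub h1 (dvd_mul_right _ _)
        have := Int.le_of_dvd one_pos h2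
        omega
      · exfalso
        rcases D.vp.dvd_mul.1 (hvM.trans h0) with h1 | h1
        · exact hnd h1 (by rw [Nat.sub_add_cancel hu3.le]; exact hd3)
        · exact hnd hvu h1
      · exfalso
        rcases D.vp.dvd_mul.1 (hvM.trans h0) with h1 | h1
        · exact hnd hd3 h1
        · exact hnd h1 (by rw [Nat.sub_add_cancel (by omega)]; exact hvu)
      · exact (Nat.le_of_dvd (Nat.mul_pos hv0 (by omega)) h0).trans k1
      · exact Nat.le_of_dvd (Nat.mul_pos hv0 (by omega)) h0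
      · exact (Nat.le_of_dvd (pow_pos hv0 2) h0).trans k2
      · omega
      · omega
    obtain ⟨w1, w2⟩ := hvo (by omega)
    have k1 := h.two_v D.vp hvM (a := v * (u ^ 3 + 1)) (b := v * (u ^ 3 - 1)) (dvd_mul_right _ _) (dvd_mul_right _ _)
      w2 w1 (α := 1) (β := -1) (k := 2 * v) (by
        push_cast [Nat.cast_sub hu3.le]
        ring) (by have : (v : ℤ) ≠ 0 := by exact_mod_cast hv0.ne'
                  exact mul_ne_zero two_ne_zero this)
    have hvz : (0 : ℤ) < v := by exact_mod_cast hv0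
    have hc5 := h.n.c5_pos
    have hc5' : (c5 : ℤ) ≤ 5 := by rcases h.n.c5_or with h2 | h2 <;> rw [h2] <;> norm_num
    have hqz : (3 : ℤ) ≤ q := by exact_mod_cast h.n.q3
    rw [abs_of_pos (by linarith)] at k1
    push_cast [Nat.cast_sub hu3.le] at k1
    have hMz : (M : ℤ) ≤ v * ((u : ℤ) ^ 3 + 1) := by exact_mod_cast hMle
    have k2 : ((v : ℤ) * (u ^ 3 + 1) * (v * (u ^ 3 - 1))) * 2 ≤ 2 * v * (c5 * (q + 1)) * (v * (u ^ 3 + 1)) := by
      refine k1.trans ?_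
      gcongr
    have k3 : (2 * (v : ℤ) ^ 2 * (u ^ 3 + 1)) * (u ^ 3 - 1) ≤ (2 * (v : ℤ) ^ 2 * (u ^ 3 + 1)) * (c5 * (q + 1)) := by
      linarith
    have k4 := le_of_mul_le_mul_left k3 (by positivity)
    have k5 : (u : ℤ) ^ 3 ≤ 5 * q + 6 := by nlinarith
    have k6 : (v : ℤ) ≤ u := by exact_mod_cast hvle
    have k7 : (11 : ℤ) ≤ v := by exact_mod_cast h11
    have k8 : 121 * (u : ℤ) ≤ u ^ 3 := by
      have : (11 : ℤ) ≤ u := by linarith
      nlinarith [mul_nonneg (by linarith : (0 : ℤ) ≤ (u : ℤ) - 11) (by linarith : (0 : ℤ) ≤ (u : ℤ) + 11)]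
    have k9 : 121 * (M : ℤ) ≤ (5 * q + 6) * (5 * q + 7) := by
      calc 121 * (M : ℤ) ≤ 121 * (v * ((u : ℤ) ^ 3 + 1)) := by gcongr
        _ ≤ 121 * (u * ((u : ℤ) ^ 3 + 1)) := by gcongr
        _ = (121 * u) * ((u : ℤ) ^ 3 + 1) := by ring
        _ ≤ (5 * q + 6) * ((u : ℤ) ^ 3 + 1) := by
          have : 121 * (u : ℤ) ≤ 5 * q + 6 := by linarith
          gcongr
        _ ≤ (5 * q + 6) * (5 * q + 7) := by
          have : (u : ℤ) ^ 3 + 1 ≤ 5 * q + 7 := by linarith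
          gcongr
    have k10 := h.n.q3_le
    have k11 : 8 * (q : ℤ) ^ 3 ≤ 5 * M := by exact_mod_cast k10
    nlinarith [mul_nonneg (by linarith : (0 : ℤ) ≤ (q : ℤ) - 3) (by positivity : (0 : ℤ) ≤ (q : ℤ) ^ 2),
      mul_nonneg (by linarith : (0 : ℤ) ≤ (q : ℤ) - 3) (by linarith : (0 : ℤ) ≤ (q : ℤ))]
  · have hcv : Nat.Coprime M v := ((Nat.Prime.coprime_iff_not_dvd D.vp).mpr hvM).symm
    have hA : M ∣ u ^ 3 - 1 → False := fun hd => main (Or.inr (Or.inl (hd.mul_right _)))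
    have hB : M ∣ u ^ 3 + 1 → False := fun hd => main (Or.inr (Or.inr (hd.mul_right _)))
    have hone : ∀ k : ℕ, M ∣ v ^ k → False := by
      intro k hd
      have := Nat.Coprime.eq_one_of_dvd (hcv.pow_right k) hd
      omega
    have hcop4 : v = 2 → Nat.Coprime M 4 := by
      intro hv2
      rw [hv2] at hcv
      exact hcv.pow_right 2
    rcases h0 with h0 | h0 | h0 | h0 | h0 | (h0 | ⟨h0, -⟩) | ⟨hv2, h0 | h0⟩
    · exact main (Or.inl h0)
    · exact main (Or.inr (Or.inl h0))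
    · exact main (Or.inr (Or.inr h0))
    · exact hA (hcv.dvd_of_dvd_mul_left h0)
    · exact hB (hcv.dvd_of_dvd_mul_left h0)
    · exact hone 2 h0
    · exact hone 3 h0
    · exact hA (by rw [f3]; exact ((hcop4 hv2).dvd_of_dvd_mul_left h0).mul_right _)
    · exact hB (by rw [f3']; exact ((hcop4 hv2).dvd_of_dvd_mul_left h0).mul_right _)

open Cfsg.Agent.H426.LieFam in
theorem not_td4 {S : Type*} [Group S] [Finite S] (hS : Sec p q s c c5 M S) {v f : ℕ} (hI : Fam.Is v f S Fam.td4)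
    (hv : v.Prime) (hvp : v ≠ p) : False := by
  obtain ⟨F, _, _, _, hcard, ⟨e⟩⟩ := hI
  have hf := Cfsg.Agent.R2.Spec.X4.H18.f_pos_of_card hcard
  have D : D4Dat v (v ^ f) S := (Cfsg.Agent.R2.Spec.X4.H18.d4Dat hv hcard hf).congr e
  refine not_td4D hS D hvp fun h2 => ?_
  have := d4_vord hv h2 (Nat.one_lt_pow (by omega) hv.one_lt) hcard (dvd_pow_self v (by omega))
  obtain ⟨⟨x, hx⟩, ⟨y, hy⟩⟩ := this
  exact ⟨⟨e.symm x, by rw [MulEquiv.orderOf_eq]; exact hx⟩, ⟨e.symm y, by rw [MulEquiv.orderOf_eq]; exact hy⟩⟩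

end Cfsg.Agent.R2.Spec.X7.N6
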