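import Mathlib
import Cfsg.Agent.R2.Spec.X7.N6.E4
import Cfsg.Agent.R2.Spec.X4.H18.E6Dat

/-!
# Box X7, `n = 6`, packet N6-E (helper9): `S = E₆(u)`, `S = ²E₆(u)`
-/

set_option autoImplicit false
set_option maxHeartbeats 1000000

namespace Cfsg.Agent.R2.Spec.X7.N6

open Cfsg.Agent.R2.Spec.X4.H18 (E6Dat OmX pos_le pos_lt)

variable {p q : ℕ} {s : ℤ} {c c5 M : ℕ} {W : ℕ → Prop} {v u g : ℕ} {X : ℤ}

/-- the element orders of `E₆(u)`, `²E₆(u)` used in the finite check -/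
def lowX (X : ℤ) : List ℕ :=
  let g := if (X - 1) % 3 = 0 then 3 else 1
  [(X ^ 6 + X ^ 3 + 1).natAbs / g, ((X ^ 4 - X ^ 2 + 1) * (X ^ 2 + X + 1)).natAbs / g,
    ((X ^ 4 + 1) * (X ^ 2 - 1)).natAbs / g, ((X ^ 5 - 1) * (X + 1)).natAbs / g,
    ((X ^ 4 - 1) * (X ^ 2 - X + 1)).natAbs / g]

theorem chkE6 : chk 42 10 2 (fun _ u => lowX u) (fun _ _ => [0]) = true := by decide +kernel

theorem chkTE6 : chk 42 10 2 (fun _ u => lowX (-u)) (fun _ _ => [0]) = true := by decide +kernel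

theorem e6_dvd {N : ℤ} (X : ℤ) (h9 : X ^ 6 + X ^ 3 + 1 ∣ N) (h12 : (X ^ 4 - X ^ 2 + 1) * (X ^ 2 + X + 1) ∣ N)
    (h8 : (X ^ 4 + 1) * (X ^ 2 - 1) ∣ N) (h5 : (X ^ 5 - 1) * (X + 1) ∣ N) (h4 : (X ^ 4 - 1) * (X ^ 2 - X + 1) ∣ N) :
    (X ^ 4 - 1) * (X ^ 2 - X + 1) * (X ^ 2 + X + 1) * (X ^ 4 - X ^ 2 + 1) * (X ^ 4 + 1) *
      (X ^ 4 + X ^ 3 + X ^ 2 + X + 1) * (X ^ 6 + X ^ 3 + 1) ∣ 1080 * N := by
  have c3 : X ^ 2 + X + 1 ∣ N := (dvd_mul_left _ _).trans h12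
  have c12 : X ^ 4 - X ^ 2 + 1 ∣ N := (dvd_mul_right _ _).trans h12
  have c8 : X ^ 4 + 1 ∣ N := (dvd_mul_right _ _).trans h8
  have c5 : X ^ 4 + X ^ 3 + X ^ 2 + X + 1 ∣ N := by
    refine dvd_trans ⟨(X - 1) * (X + 1), by ring⟩ h5
  have y2 := mul_dvd_of h4 c3 (α := -2 * X - 1) (β := 2 * X ^ 5 - 3 * X ^ 4 + 2 * X ^ 3 + 2 * X ^ 2 - 6 * X + 5) (k := 6)
    (by ring)
  have y3 := mul_dvd_of y2 (c12.mul_left 6) (α := X ^ 2 - 2) (β := -X ^ 6 + 3 * X ^ 2 + 4) (k := 6) (by ring)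
  have y4 := mul_dvd_of y3 ((c8.mul_left 6).mul_left 6) (α := -1) (β := X ^ 8 - X ^ 4 + 1) (k := 2) (by ring)
  have y5 := mul_dvd_of y4 (((c5.mul_left 6).mul_left 6).mul_left 2) (α := -4 * X ^ 3 - 3 * X ^ 2 - 2 * X - 6)
    (β := 4 * X ^ 15 - X ^ 14 - X ^ 13 + 4 * X ^ 12 - 2 * X ^ 11 + 3 * X ^ 10 - 2 * X ^ 9 + 3 * X ^ 8 - 2 * X ^ 7 -
      2 * X ^ 6 + 3 * X ^ 5 - 2 * X ^ 4 - X ^ 3 - X ^ 2 - X - 1) (k := 5) (by ring)
  have y6 := mul_dvd_of y5 ((((h9.mul_left 6).mul_left 6).mul_left 2).mul_left 5) (α := -X ^ 5 + X ^ 2)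
    (β := X ^ 19 + X ^ 18 + X ^ 17 - X ^ 16 - X ^ 14 - 2 * X ^ 12 + X ^ 9 - X ^ 7 - X ^ 5 + X ^ 4 - 2 * X ^ 3 + X ^ 2 + 3)
    (k := 3) (by ring)
  have e : (3 : ℤ) * (5 * (2 * (6 * (6 * N)))) = 1080 * N := by ring
  rwa [e] at y6

theorem dle {m : ℕ} {P B : ℤ} (h : (m : ℤ) ∣ P) (h0 : P ≠ 0) (h1 : P ≤ B) (h2 : -P ≤ B) : (m : ℤ) ≤ B :=
  (Int.le_of_dvd (abs_pos.mpr h0) ((dvd_abs _ _).mpr h)).trans (abs_le.mpr ⟨by linarith, h1⟩)

theorem dlp {m : ℕ} {P B : ℤ} (h : (m : ℤ) ∣ P) (h0 : 0 < P) (h1 : P ≤ B) : (m : ℤ) ≤ B :=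
  dle h h0.ne' h1 (by linarith)

theorem dln {m : ℕ} {P B : ℤ} (h : (m : ℤ) ∣ P) (h0 : 0 < -P) (h1 : -P ≤ B) : (m : ℤ) ≤ B :=
  dlp ((dvd_neg).mpr h) h0 h1

set_option linter.unusedTactic false in
theorem omX_le {n b m : ℕ} (hX : X = u ∨ X = -u) (hu : 2 ≤ u) (hv : v.Prime) (hvu : v ≤ u) (h : OmX v X n b m)
    (hv11 : b ≠ 0 → 11 ≤ v) : (n : ℤ) ≤ ((u : ℤ) ^ 4 + u) * (u ^ 2 + u + 1) := by
  obtain ⟨t, ht⟩ : ∃ t : ℕ, u = t + 2 := ⟨u - 2, by omega⟩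
  have htz : (u : ℤ) = t + 2 := by rw [ht]; push_cast; ring
  have s0 : (m : ℤ) ≤ ((u : ℤ) ^ 4 + u) * (u ^ 2 + u + 1) := by
    rcases hX with hX | hX <;> rw [htz] at hX ⊢ <;> subst hX
    · rcases h.s0 with h0 | h0 | h0 | h0 | h0 | h0
      all_goals
        refine dlp h0 (pos_lt (by ring_nf; positivity)) (pos_le (by ring_nf; positivity))
    · rcases h.s0 with h0 | h0 | h0 | h0 | h0 | h0
      all_goals
        refine dlp h0 (pos_lt (by ring_nf; positivity)) (pos_le (by ring_nf; positivity))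
  by_cases hb : b = 0
  · rw [h.eq, hb, pow_zero, one_mul]
    exact s0
  have h11 := hv11 hb
  have hvz : (v : ℤ) ≤ u := by exact_mod_cast hvu
  rcases Nat.lt_or_ge b 2 with hb1 | hb2
  · have hb' : b = 1 := by omega
    have s1 : (m : ℤ) ≤ ((u : ℤ) ^ 3 + 1) * (u ^ 2 + u + 1) := by
      rcases hX with hX | hX <;> rw [htz] at hX ⊢ <;> subst hX
      · rcases h.s1 hb with h0 | h0 | h0 | h0 | h0
        all_goals
          refine dlp h0 (pos_lt (by ring_nf; positivity)) (pos_le (by ring_nf; positivity))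
      · rcases h.s1 hb with h0 | h0 | h0 | h0 | h0
        · refine dlp h0 (pos_lt (by ring_nf; positivity)) (pos_le (by ring_nf; positivity))
        · refine dlp h0 (pos_lt (by ring_nf; positivity)) (pos_le (by ring_nf; positivity))
        · refine dln h0 (pos_lt (by ring_nf; positivity)) (pos_le (by ring_nf; positivity))
        · refine dln h0 (pos_lt (by ring_nf; positivity)) (pos_le (by ring_nf; positivity))
        · refine dlp h0 (pos_lt (by ring_nf; positivity)) (pos_le (by ring_nf; positivity))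
    rw [h.eq, hb', pow_one]
    push_cast
    calc (v : ℤ) * m ≤ u * (((u : ℤ) ^ 3 + 1) * (u ^ 2 + u + 1)) := by gcongr
      _ = ((u : ℤ) ^ 4 + u) * (u ^ 2 + u + 1) := by ring
  · have h8 : v ^ 1 ≤ v ^ (b - 1) := Nat.pow_le_pow_right hv.pos (by omega)
    rw [pow_one] at h8
    have hm1 := h.s6 hb (by omega)
    have hle := h.le hb
    have hb' : b = 2 := by
      by_contra hcon
      have h9 : v ^ 2 ≤ v ^ (b - 1) := Nat.pow_le_pow_right hv.pos (by omega)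
      have h10 : 11 ^ 2 ≤ v ^ 2 := Nat.pow_le_pow_left h11 2
      omega
    have s2 : (m : ℤ) ≤ (u : ℤ) + 1 := by
      rcases hX with hX | hX <;> rw [htz] at hX ⊢ <;> subst hX
      · exact dlp hm1 (by linarith [(by positivity : (0 : ℤ) ≤ t)]) (by linarith)
      · exact dln hm1 (by linarith [(by positivity : (0 : ℤ) ≤ t)]) (by linarith)
    rw [h.eq, hb']
    push_cast
    have h9 : (v : ℤ) ^ 2 ≤ u ^ 2 := by gcongr
    calc (v : ℤ) ^ 2 * m ≤ (u : ℤ) ^ 2 * (u + 1) := by gcongr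
      _ ≤ ((u : ℤ) ^ 4 + u) * (u ^ 2 + u + 1) := by
        rw [htz]
        exact pos_le (by ring_nf; positivity)

theorem not_e6D {S : Type*} [Group S] [Finite S] (hS : Sec p q s c c5 M S) (D : E6Dat v u g X S) (hvp : v ≠ p) :
    False := by
  have h := hS.sw
  obtain ⟨f, hf, huf⟩ := D.pw
  have hu2 : 2 ≤ u := by
    rw [huf]
    exact D.vp.two_le.trans (Nat.le_self_pow (by omega) v)
  have hvle : v ≤ u := by
    rw [huf]
    exact Nat.le_self_pow (by omega) v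
  have huz : (2 : ℤ) ≤ u := by exact_mod_cast hu2
  have hMle : (M : ℤ) ≤ ((u : ℤ) ^ 4 + u) * (u ^ 2 + u + 1) := by
    obtain ⟨x, hx⟩ := hS.elt
    obtain ⟨b, m, hOm⟩ := D.up x
    rw [hx] at hOm
    refine omX_le D.hX hu2 D.vp hvle hOm fun hb => ?_
    refine h.n.prime_geE D.vp ?_
    rw [hOm.eq]
    exact (dvd_pow_self v hb).mul_right _
  have hgm : g = if (X - 1) % 3 = 0 then 3 else 1 := by
    rcases D.hg with ⟨h1, h2⟩ | ⟨h1, h2⟩
    · rw [if_neg (fun h3 => h2 (Int.dvd_of_emod_eq_zero h3)), h1]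
    · rw [if_pos (Int.emod_eq_zero_of_dvd h2), h1]
  have hg0 : 0 < g := by rcases D.hg with ⟨h1, -⟩ | ⟨h1, -⟩ <;> omega
  have hg3 : (g : ℤ) ∣ 3 := by
    rcases D.hg with ⟨h1, -⟩ | ⟨h1, -⟩
    · rw [h1]; exact ⟨3, by norm_num⟩
    · rw [h1]; exact ⟨1, by norm_num⟩
  rcases Nat.lt_or_ge u 11 with hsm | hbig
  · have hq : q ≤ 42 := by
      by_contra hcon
      have k1 := h.n.M_lo
      have k2 : 43 ^ 4 ≤ q ^ 4 := Nat.pow_le_pow_left (by omega) 4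
      have hu9 : u ≤ 9 := by
        by_contra hc
        have h10 : u = 10 := by omega
        rw [h10] at huf
        have h3 : v ∣ 10 := by rw [huf]; exact dvd_pow_self v (by omega)
        have h4 : (2 : ℕ) ∣ v ^ f := by rw [← huf]; norm_num
        have h5 : (5 : ℕ) ∣ v ^ f := by rw [← huf]; norm_num
        have h6 := (Nat.prime_dvd_prime_iff_eq Nat.prime_two D.vp).mp (Nat.prime_two.dvd_of_dvd_pow h4)
        have h7 := (Nat.prime_dvd_prime_iff_eq (by norm_num : Nat.Prime 5) D.vp).mp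
          ((by norm_num : Nat.Prime 5).dvd_of_dvd_pow h5)
        omega
      have k3 : ((u : ℤ) ^ 4 + u) * (u ^ 2 + u + 1) ≤ (9 ^ 4 + 9) * (9 ^ 2 + 9 + 1) := by
        have : (u : ℤ) ≤ 9 := by exact_mod_cast hu9
        gcongr
      have k4 : M ≤ 597870 := by
        have : (M : ℤ) ≤ 597870 := by linarith
        exact_mod_cast this
      omega
    have key : ∀ {P : ℤ} {n : ℕ}, (∃ x : S, (g : ℤ) * (orderOf x : ℕ) = P) → n = P.natAbs / g → ∃ x : S, orderOf x = n := by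
      rintro P n ⟨x, hx⟩ rfl
      refine ⟨x, ?_⟩
      rw [← hx, Int.natAbs_mul, Int.natAbs_natCast, Int.natAbs_natCast, Nat.mul_div_cancel_left _ hg0]
    have hlow : ∀ E ∈ lowX X, ∃ x : S, orderOf x = E := by
      intro E hE
      simp only [lowX, ← hgm, List.mem_cons, List.not_mem_nil, or_false] at hE
      rcases hE with hE | hE | hE | hE | hE
      · exact key D.ex9 hE
      · exact key D.ex12 hE
      · exact key D.ex8 hE
      · exact key D.ex5 hE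
      · exact key D.ex4 hE
    rcases D.hX with hX | hX
    · rw [hX] at hlow
      exact h.chk_false chkE6 (by norm_num) (by norm_num) D.vp D.pw hvp hq (by omega) hu2 hlow
        ⟨0, List.mem_singleton.mpr rfl, dvd_zero M⟩
    · rw [hX] at hlow
      exact h.chk_false chkTE6 (by norm_num) (by norm_num) D.vp D.pw hvp hq (by omega) hu2 hlow
        ⟨0, List.mem_singleton.mpr rfl, dvd_zero M⟩
  · -- large
    have key : ∀ {P : ℤ}, (∃ x : S, (g : ℤ) * (orderOf x : ℕ) = P) → P ∣ 3 * PI p s := by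
      rintro P ⟨x, rfl⟩
      exact mul_dvd_mul hg3 (h.dvd_PI ⟨x, rfl⟩)
    have hX := e6_dvd X (key D.ex9) (key D.ex12) (key D.ex8) (key D.ex5) (key D.ex4)
    have hu11 : (11 : ℤ) ≤ u := by exact_mod_cast hbig
    have x2 : X ^ 2 = (u : ℤ) ^ 2 := by rcases D.hX with h1 | h1 <;> rw [h1] <;> ring
    have x4 : X ^ 4 = (u : ℤ) ^ 4 := by rcases D.hX with h1 | h1 <;> rw [h1] <;> ring
    have x6 : X ^ 6 = (u : ℤ) ^ 6 := by rcases D.hX with h1 | h1 <;> rw [h1] <;> ring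
    have x3 : -(u : ℤ) ^ 3 ≤ X ^ 3 := by
      rcases D.hX with h1 | h1
      · rw [h1]
        have : (0 : ℤ) ≤ (u : ℤ) ^ 3 := by positivity
        linarith
      · rw [h1]
        exact le_of_eq (by ring)
    have x1 : -(u : ℤ) ≤ X := by rcases D.hX with h1 | h1 <;> rw [h1]; linarith
    set Y : ℤ := (X ^ 4 - 1) * (X ^ 2 - X + 1) * (X ^ 2 + X + 1) * (X ^ 4 - X ^ 2 + 1) * (X ^ 4 + 1) *
      (X ^ 4 + X ^ 3 + X ^ 2 + X + 1) * (X ^ 6 + X ^ 3 + 1) with hY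
    have hYlow : (1596000 : ℤ) * (u : ℤ) ^ 26 ≤ 1771561 * Y := by
      have u3 : (11 : ℤ) ^ 3 ≤ (u : ℤ) ^ 3 := by gcongr
      have u2 : (11 : ℤ) ^ 2 ≤ (u : ℤ) ^ 2 := by gcongr
      have k1 : (u : ℤ) ^ 8 ≤ (X ^ 4 - 1) * ((X ^ 2 - X + 1) * (X ^ 2 + X + 1)) := by
        have e : (X ^ 4 - 1) * ((X ^ 2 - X + 1) * (X ^ 2 + X + 1)) = (X ^ 4 - 1) * (X ^ 4 + X ^ 2 + 1) := by ring
        rw [e, x4, x2]
        have : (u : ℤ) ^ 2 + 1 ≤ u ^ 6 := by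
          have e1 : (u : ℤ) ^ 6 = u ^ 3 * u ^ 3 := by ring
          have e2 : (u : ℤ) ^ 2 ≤ u ^ 3 := by nlinarith [sq_nonneg (u : ℤ)]
          nlinarith
        nlinarith
      have k2 : (120 : ℤ) * (u : ℤ) ^ 4 ≤ 121 * (X ^ 4 - X ^ 2 + 1) := by
        rw [x4, x2]
        nlinarith [mul_nonneg (by linarith : (0 : ℤ) ≤ (u : ℤ) ^ 2 - 11 ^ 2) (by positivity : (0 : ℤ) ≤ (u : ℤ) ^ 2)]
      have k3 : (u : ℤ) ^ 4 ≤ X ^ 4 + 1 := by rw [x4]; linarith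
      have k4 : (10 : ℤ) * (u : ℤ) ^ 4 ≤ 11 * (X ^ 4 + X ^ 3 + X ^ 2 + X + 1) := by
        rw [x4, x2]
        nlinarith [mul_nonneg (by linarith : (0 : ℤ) ≤ (u : ℤ) - 11) (by positivity : (0 : ℤ) ≤ (u : ℤ) ^ 3)]
      have k5 : (1330 : ℤ) * (u : ℤ) ^ 6 ≤ 1331 * (X ^ 6 + X ^ 3 + 1) := by
        rw [x6]
        nlinarith [mul_nonneg (by linarith : (0 : ℤ) ≤ (u : ℤ) ^ 3 - 11 ^ 3) (by positivity : (0 : ℤ) ≤ (u : ℤ) ^ 3)]
      have z1 : (0 : ℤ) ≤ (u : ℤ) ^ 8 := by positivity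
      have z2 : (0 : ℤ) ≤ 120 * (u : ℤ) ^ 4 := by positivity
      have z3 : (0 : ℤ) ≤ (u : ℤ) ^ 4 := by positivity
      have z4 : (0 : ℤ) ≤ 10 * (u : ℤ) ^ 4 := by positivity
      have z5 : (0 : ℤ) ≤ 1330 * (u : ℤ) ^ 6 := by positivity
      have m1 := mul_le_mul k1 k2 z2 (z1.trans k1)
      have m2 := mul_le_mul m1 k3 z3 (mul_nonneg (z1.trans k1) (z2.trans k2))
      have m3 := mul_le_mul m2 k4 z4 (mul_nonneg (mul_nonneg (z1.trans k1) (z2.trans k2)) (z3.trans k3))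
      have m4 := mul_le_mul m3 k5 z5
        (mul_nonneg (mul_nonneg (mul_nonneg (z1.trans k1) (z2.trans k2)) (z3.trans k3)) (z4.trans k4))
      rw [hY]
      linarith
    have hYpos : 0 < Y := by
      have : (0 : ℤ) < (u : ℤ) ^ 26 := by positivity
      linarith
    obtain ⟨Y', hY'⟩ : ∃ Y' : ℕ, (Y' : ℤ) = Y := ⟨Y.toNat, Int.toNat_of_nonneg hYpos.le⟩
    have hX' : (Y' : ℤ) ∣ (3240 : ℕ) * PI p s := by
      rw [hY']
      have e : ((3240 : ℕ) : ℤ) * PI p s = 1080 * (3 * PI p s) := by push_cast; ring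
      rw [e]
      exact hX
    refine h.n.killE (by norm_num) hX' (a1 := 1771561) (a2 := 1596000) (b1 := 161051) (b2 := 177156) (d := 26) (e := 6)
      (r := 26) (u := u) (by omega) ?_ ?_ (by norm_num) ?_
    · rw [← hY'] at hYlow
      exact_mod_cast hYlow
    · have k1 : 1331 * ((u : ℤ) ^ 4 + u) ≤ 1332 * (u : ℤ) ^ 4 := by
        have : (11 : ℤ) ^ 3 ≤ (u : ℤ) ^ 3 := by gcongr
        nlinarith
      have k2 : 121 * ((u : ℤ) ^ 2 + u + 1) ≤ 133 * (u : ℤ) ^ 2 := by nlinarith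
      have k3 : (161051 : ℤ) * M ≤ 177156 * (u : ℤ) ^ 6 := by
        calc (161051 : ℤ) * M ≤ 161051 * (((u : ℤ) ^ 4 + u) * (u ^ 2 + u + 1)) := by gcongr
          _ = (1331 * ((u : ℤ) ^ 4 + u)) * (121 * ((u : ℤ) ^ 2 + u + 1)) := by ring
          _ ≤ (1332 * (u : ℤ) ^ 4) * (133 * (u : ℤ) ^ 2) := by gcongr
          _ = 177156 * (u : ℤ) ^ 6 := by ring
      exact_mod_cast k3
    · have k1 : 11 ^ 26 ≤ u ^ 26 := Nat.pow_le_pow_left hbig 26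
      calc 1771561 ^ 4 * 3240 ^ 4 * (50 ^ 4 * 45 ^ 9) * 177156 ^ 13
          < 81 * 8 ^ 9 * 1596000 ^ 4 * 161051 ^ 13 * 11 ^ 26 := by norm_num
        _ ≤ 81 * 8 ^ 9 * 1596000 ^ 4 * 161051 ^ 13 * u ^ 26 := Nat.mul_le_mul_left _ k1

open Cfsg.Agent.H426.LieFam Cfsg.Agent.R2.Spec.X4.H18 in
theorem not_e6 {S : Type*} [Group S] [Finite S] (hS : Sec p q s c c5 M S) {v f : ℕ} (hI : Fam.Is v f S Fam.e6)
    (hv : v.Prime) (hvp : v ≠ p) : False := by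
  obtain ⟨F, _, _, _, hcard, ⟨e⟩⟩ := hI
  have hf := f_pos_of_card (n := 1) (by rw [hcard, pow_one])
  exact not_e6D hS ((e6Dat hv hcard hf).congr e) hvp

open Cfsg.Agent.H426.LieFam Cfsg.Agent.R2.Spec.X4.H18 in
theorem not_te6 {S : Type*} [Group S] [Finite S] (hS : Sec p q s c c5 M S) {v f : ℕ} (hI : Fam.Is v f S Fam.te6)
    (hv : v.Prime) (hvp : v ≠ p) : False := by
  obtain ⟨F, _, _, _, hcard, ⟨e⟩⟩ := hI
  exact not_e6D hS ((te6Dat hv hcard (f_pos_of_card hcard)).congr e) hvp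

end Cfsg.Agent.R2.Spec.X7.N6
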