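import Mathlib
import Cfsg.Agent.R2.Spec.X7.N6.E4
import Cfsg.Agent.R2.Spec.X4.H18.F4

/-!
# Box X7, `n = 6`, packet N6-E (helper9): `S = F₄(u)`
-/

set_option autoImplicit false
set_option maxHeartbeats 1000000

namespace Cfsg.Agent.R2.Spec.X7.N6

open Cfsg.Agent.R2.Spec.X4.H18 (F4Dat f4c12 f4cA f4cB f4cC)

variable {p q : ℕ} {s : ℤ} {c c5 M : ℕ} {W : ℕ → Prop} {v u : ℕ}

/-- the element orders of `F₄(u)` used in the finite check -/
def lowF4 (_v u : ℕ) : List ℕ :=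
  [u ^ 4 - u ^ 2 + 1, u ^ 4 + 1, (u ^ 3 - 1) * (u + 1), (u ^ 3 + 1) * (u - 1), (u ^ 2 + 1) * (u - 1)]

theorem chkF4 : chk 29 19 3 lowF4 (fun _ _ => [0]) = true := by decide +kernel

theorem f4_dvd {N : ℤ} (u : ℤ) (h12 : u ^ 4 - u ^ 2 + 1 ∣ N) (h8 : u ^ 4 + 1 ∣ N)
    (hA : (u ^ 3 - 1) * (u + 1) ∣ N) (hB : (u ^ 3 + 1) * (u - 1) ∣ N) (hC : (u ^ 2 + 1) * (u - 1) ∣ N) :
    (u ^ 6 - 1) * (u ^ 2 + 1) * (u ^ 4 + 1) * (u ^ 4 - u ^ 2 + 1) ∣ 4 * N := by
  have m2 : u % 2 = 0 ∨ u % 2 = 1 := by omega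
  have m3 : u % 3 = 0 ∨ u % 3 = 1 ∨ u % 3 = 2 := by omega
  have x0 : u ^ 6 - 1 ∣ N := by
    have h1 : (u ^ 2 - 1) * (u ^ 2 + u + 1) ∣ N := by
      have : (u ^ 2 - 1) * (u ^ 2 + u + 1) = (u ^ 3 - 1) * (u + 1) := by ring
      rwa [this]
    have h2 : (u ^ 2 - 1) * (u ^ 2 - u + 1) ∣ N := by
      have : (u ^ 2 - 1) * (u ^ 2 - u + 1) = (u ^ 3 + 1) * (u - 1) := by ring
      rwa [this]
    have h3 : IsCoprime (u ^ 2 + u + 1) (u ^ 2 - u + 1) := by
      refine cop_of_k (α := -u + 1) (β := u + 1) (k := 2) (by ring) (cop2 ?_)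
      rcases m2 with h | h <;> simp [pow_two, Int.add_emod, Int.mul_emod, h]
    have h4 := gmul h1 h2 h3
    have : (u ^ 2 - 1) * ((u ^ 2 + u + 1) * (u ^ 2 - u + 1)) = u ^ 6 - 1 := by ring
    rwa [this] at h4
  have c1 : u ^ 2 + 1 ∣ N := (dvd_mul_right _ _).trans hC
  have x1 : (u ^ 6 - 1) * (u ^ 2 + 1) ∣ 2 * N :=
    mul_dvd_of x0 c1 (α := -1) (β := u ^ 4 - u ^ 2 + 1) (by ring)
  have x2 : (u ^ 6 - 1) * (u ^ 2 + 1) * (u ^ 4 + 1) ∣ 2 * (2 * N) :=
    mul_dvd_of x1 (h8.mul_left 2) (α := u ^ 2) (β := -u ^ 6 - u ^ 4 + u ^ 2 + 2) (by ring)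
  have h5 : IsCoprime (u ^ 4 - u ^ 2 + 1) ((u ^ 6 - 1) * (u ^ 2 + 1) * (u ^ 4 + 1)) := by
    refine cop_of_k (α := -2 * u ^ 10 - 3 * u ^ 8 - 2 * u ^ 6 + 2 * u ^ 4 + 6 * u ^ 2 + 5) (β := 2 * u ^ 2 - 1) (k := 2 * 3)
      (by ring) (IsCoprime.mul_right (cop2 ?_) (cop3 ?_))
    · rcases m2 with h | h
      · have : u ^ 4 - u ^ 2 + 1 = 2 * ((u / 2) * (u ^ 3 - u)) + 1 := by
          have : u = 2 * (u / 2) := by omega
          linear_combination (u ^ 3 - u) * this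
        omega
      · have : u ^ 4 - u ^ 2 + 1 = 2 * (u ^ 2 * ((u / 2) * (u + 1))) + 1 := by
          have : u = 2 * (u / 2) + 1 := by omega
          linear_combination (u ^ 2 * (u + 1)) * this
        omega
    · rcases m3 with h | h | h
      · have : u ^ 4 - u ^ 2 + 1 = 3 * ((u / 3) * (u ^ 3 - u)) + 1 := by
          have : u = 3 * (u / 3) := by omega
          linear_combination (u ^ 3 - u) * this
        omega
      · have : u ^ 4 - u ^ 2 + 1 = 3 * (u ^ 2 * ((u / 3) * (u + 1))) + 1 := by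
          have : u = 3 * (u / 3) + 1 := by omega
          linear_combination (u ^ 2 * (u + 1)) * this
        omega
      · have : u ^ 4 - u ^ 2 + 1 = 3 * (u ^ 2 * ((u / 3 + 1) * (u - 1))) + 1 := by
          have : u = 3 * (u / 3) + 2 := by omega
          linear_combination (u ^ 2 * (u - 1)) * this
        omega
  have h6 := h5.symm.mul_dvd x2 ((h12.mul_left 2).mul_left 2)
  have e : (2 : ℤ) * (2 * N) = 4 * N := by ring
  rwa [e] at h6

theorem not_f4D {S : Type*} [Group S] [Finite S] (hS : Sec p q s c c5 M S) (D : F4Dat v u S) (hvp : v ≠ p) : False := by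
  have h := hS.sw
  have hM17 := h.n.M_gt
  have hu2 := D.u2
  have hvu := D.vu
  have hv0 := D.vp.pos
  have huz : (2 : ℤ) ≤ u := by exact_mod_cast hu2
  have hvle : v ≤ u := Nat.le_of_dvd (by omega) hvu
  -- the upper bound
  have hMle : M ≤ u * ((u + 1) * (u ^ 2 + 1)) := by
    obtain ⟨x, hx⟩ := hS.elt
    obtain ⟨b, m, hOm⟩ := D.up x
    rw [hx] at hOm
    have b3 : 1 ≤ u ^ 3 := Nat.one_le_pow _ _ (by omega)
    have b2 : 1 ≤ u ^ 2 := Nat.one_le_pow _ _ (by omega)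
    have b4 : 1 ≤ u ^ 4 := Nat.one_le_pow _ _ (by omega)
    have s2 : u ^ 2 ≤ u ^ 4 := Nat.pow_le_pow_right (by omega) (by norm_num)
    have E1 : u * ((u + 1) * (u ^ 2 + 1)) = u ^ 4 + u ^ 3 + u ^ 2 + u := by ring
    by_cases hb : b = 0
    · have hMm : M = m := by rw [hOm.eq, hb, pow_zero, one_mul]
      have h0 := hOm.s0
      rw [← hMm] at h0
      rw [E1]
      rcases h0 with h0 | h0 | h0 | h0 | h0
      · have := Nat.le_of_dvd (by omega) h0; omega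
      · have := Nat.le_of_dvd (by omega) h0; omega
      · have := Nat.le_of_dvd (by
          have : 2 ^ 4 ≤ u ^ 4 := Nat.pow_le_pow_left hu2 4
          omega) h0; omega
      · have h1 := Nat.le_of_dvd (Nat.mul_pos (by
          have : 2 ^ 3 ≤ u ^ 3 := Nat.pow_le_pow_left hu2 3
          omega) (by omega)) h0
        have h2 : (u ^ 3 - 1) * (u + 1) ≤ u ^ 3 * (u + 1) := Nat.mul_le_mul_right _ (by omega)
        have h3 : u ^ 3 * (u + 1) = u ^ 4 + u ^ 3 := by ring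
        omega
      · have h1 := Nat.le_of_dvd (Nat.mul_pos (by omega) (by omega)) h0
        have h2 : (u ^ 3 + 1) * (u - 1) ≤ (u ^ 3 + 1) * u := Nat.mul_le_mul_left _ (by omega)
        have h3 : (u ^ 3 + 1) * u = u ^ 4 + u := by ring
        omega
    · have hvM : v ∣ M := by
        rw [hOm.eq]
        exact (dvd_pow_self v hb).mul_right _
      have h11 := h.n.prime_geE D.vp hvM
      rcases Nat.lt_or_ge b 2 with hb1 | hb2
      · have hb' : b = 1 := by omega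
        have hMm : M = v * m := by rw [hOm.eq, hb', pow_one]
        have hm : m ≤ (u + 1) * (u ^ 2 + 1) := by
          have E2 : (u + 1) * (u ^ 2 + 1) = u ^ 3 + u ^ 2 + u + 1 := by ring
          rcases hOm.s1 hb with h0 | h0 | h0 | h0 | h0
          · have := Nat.le_of_dvd (by
              have : 2 ^ 3 ≤ u ^ 3 := Nat.pow_le_pow_left hu2 3
              omega) h0; omega
          · have := Nat.le_of_dvd (by omega) h0; omega
          · have h1 := Nat.le_of_dvd (Nat.mul_pos (by omega) (by omega)) h0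
            have h2 : (u ^ 2 + 1) * (u - 1) ≤ (u ^ 2 + 1) * (u + 1) := Nat.mul_le_mul_left _ (by omega)
            rw [mul_comm (u + 1)]
            omega
          · have h1 := Nat.le_of_dvd (Nat.mul_pos (by omega) (by omega)) h0
            rw [mul_comm (u + 1)]
            omega
          · have := Nat.le_of_dvd (by
              have : 2 ^ 2 ≤ u ^ 2 := Nat.pow_le_pow_left hu2 2
              omega) h0; omega
        rw [hMm]
        exact Nat.mul_le_mul hvle hm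
      · have h8 : v ^ 1 ≤ v ^ (b - 1) := Nat.pow_le_pow_right hv0 (by omega)
        rw [pow_one] at h8
        have hm1 := hOm.s8 hb (by omega)
        have hle := hOm.le hb
        have hb' : b = 2 := by
          by_contra hcon
          have h9 : v ^ 2 ≤ v ^ (b - 1) := Nat.pow_le_pow_right hv0 (by omega)
          have h10 : 11 ^ 2 ≤ v ^ 2 := Nat.pow_le_pow_left h11 2
          omega
        rw [hOm.eq, hm1, hb', mul_one]
        have h9 : v ^ 2 ≤ u ^ 2 := Nat.pow_le_pow_left hvle 2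
        rw [E1]
        omega
  have d12 := h.dvd_PI D.ex12
  have d8 := h.dvd_PI D.ex8
  have dA := h.dvd_PI D.exA
  have dB := h.dvd_PI D.exB
  have dC := h.dvd_PI D.exC
  rw [f4c12] at d12
  rw [f4cA (by omega)] at dA
  rw [f4cB (by omega)] at dB
  rw [f4cC (by omega)] at dC
  have d8' : (u : ℤ) ^ 4 + 1 ∣ PI p s := by
    have e : ((u ^ 4 + 1 : ℕ) : ℤ) = (u : ℤ) ^ 4 + 1 := by push_cast; ring
    rwa [e] at d8
  rcases Nat.lt_or_ge u 20 with hsm | hbig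
  · -- small
    rcases Nat.lt_or_ge u 3 with h3 | h3
    · have hu' : u = 2 := by omega
      rw [hu'] at hMle
      have h1 := h.n.two_lt
      have h2 : (3 : ℤ) ≤ q := by exact_mod_cast h.n.q3
      have h4 : (M : ℤ) ≤ 30 := by exact_mod_cast hMle
      nlinarith
    have hq : q ≤ 29 := by
      by_contra hcon
      have k1 := h.n.M_lo
      have k2 : 30 ^ 4 ≤ q ^ 4 := Nat.pow_le_pow_left (by omega) 4
      have k3 : u * ((u + 1) * (u ^ 2 + 1)) ≤ 19 * ((19 + 1) * (19 ^ 2 + 1)) := by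
        have : u ≤ 19 := by omega
        gcongr
      omega
    refine h.chk_false chkF4 (by norm_num) (by norm_num) D.vp D.pw hvp hq (by omega) h3 ?_
      ⟨0, List.mem_singleton.mpr rfl, dvd_zero M⟩
    intro E hE
    simp only [lowF4, List.mem_cons, List.not_mem_nil, or_false] at hE
    rcases hE with rfl | rfl | rfl | rfl | rfl
    · exact D.ex12
    · exact D.ex8
    · exact D.exA
    · exact D.exB
    · exact D.exC
  · have hX := f4_dvd (u : ℤ) d12 d8' dA dB dC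
    have hu20 : (20 : ℤ) ≤ u := by exact_mod_cast hbig
    obtain ⟨X, hXe⟩ : ∃ X : ℕ, (X : ℤ) = ((u : ℤ) ^ 6 - 1) * (u ^ 2 + 1) * (u ^ 4 + 1) * (u ^ 4 - u ^ 2 + 1) := by
      refine ⟨((u ^ 6 - 1) * (u ^ 2 + 1) * (u ^ 4 + 1) * (u ^ 4 - u ^ 2 + 1) : ℕ), ?_⟩
      have e1 : ((u ^ 6 - 1 : ℕ) : ℤ) = (u : ℤ) ^ 6 - 1 := by
        rw [Nat.cast_sub (Nat.one_le_pow _ _ (by omega))]
        push_cast
        ring
      rw [Nat.cast_mul, Nat.cast_mul, Nat.cast_mul, e1, f4c12]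
      push_cast
      ring
    have hX' : (X : ℤ) ∣ (4 : ℕ) * PI p s := by
      rw [hXe]
      exact hX
    refine h.n.killE (by norm_num) hX' (a1 := 400) (a2 := 399) (b1 := 8000) (b2 := 8421) (d := 16) (e := 4) (r := 12)
      (u := u) (by omega) ?_ ?_ (by norm_num) ?_
    · have key : (399 : ℤ) * u ^ 16 ≤ 400 * X := by
        rw [hXe]
        have k1 : (u : ℤ) ^ 8 ≤ (u ^ 6 - 1) * (u ^ 2 + 1) := by
          have : (u : ℤ) ^ 2 + 1 ≤ u ^ 6 := by
            have e1 : (u : ℤ) ^ 6 = u ^ 2 * u ^ 4 := by ring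
            have e2 : (20 : ℤ) ^ 4 ≤ u ^ 4 := by gcongr
            have e3 : (20 : ℤ) ^ 2 ≤ u ^ 2 := by gcongr
            nlinarith
          nlinarith
        have k2 : (399 : ℤ) * u ^ 4 ≤ 400 * (u ^ 4 - u ^ 2 + 1) := by
          have e3 : (20 : ℤ) ^ 2 ≤ u ^ 2 := by gcongr
          nlinarith [mul_nonneg (by linarith : (0 : ℤ) ≤ (u : ℤ) ^ 2 - 20 ^ 2) (by positivity : (0 : ℤ) ≤ (u : ℤ) ^ 2)]
        calc (399 : ℤ) * u ^ 16 = (u : ℤ) ^ 8 * (u : ℤ) ^ 4 * (399 * (u : ℤ) ^ 4) := by ring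
          _ ≤ (((u : ℤ) ^ 6 - 1) * (u ^ 2 + 1)) * ((u : ℤ) ^ 4 + 1) * (400 * ((u : ℤ) ^ 4 - u ^ 2 + 1)) := by
            have : (u : ℤ) ^ 4 ≤ u ^ 4 + 1 := by linarith
            have h0 : (0 : ℤ) ≤ (u ^ 6 - 1) * (u ^ 2 + 1) := le_trans (by positivity) k1
            gcongr
          _ = 400 * (((u : ℤ) ^ 6 - 1) * (u ^ 2 + 1) * (u ^ 4 + 1) * (u ^ 4 - u ^ 2 + 1)) := by ring
      exact_mod_cast key
    · have k1 : 20 * (u + 1) ≤ 21 * u := by omega
      have k2 : 400 * (u ^ 2 + 1) ≤ 401 * u ^ 2 := by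
        have : 20 ^ 2 ≤ u ^ 2 := Nat.pow_le_pow_left hbig 2
        omega
      calc 8000 * M ≤ 8000 * (u * ((u + 1) * (u ^ 2 + 1))) := Nat.mul_le_mul_left _ hMle
        _ = u * ((20 * (u + 1)) * (400 * (u ^ 2 + 1))) := by ring
        _ ≤ u * ((21 * u) * (401 * u ^ 2)) := by gcongr
        _ = 8421 * u ^ 4 := by ring
    · have k1 : 20 ^ 12 ≤ u ^ 12 := Nat.pow_le_pow_left hbig 12
      calc 400 ^ 4 * 4 ^ 4 * (50 ^ 4 * 45 ^ 9) * 8421 ^ 13 < 81 * 8 ^ 9 * 399 ^ 4 * 8000 ^ 13 * 20 ^ 12 := by norm_num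
        _ ≤ 81 * 8 ^ 9 * 399 ^ 4 * 8000 ^ 13 * u ^ 12 := Nat.mul_le_mul_left _ k1

open Cfsg.Agent.H426.LieFam in
theorem not_f4 {S : Type*} [Group S] [Finite S] (hS : Sec p q s c c5 M S) {v f : ℕ} (hI : Fam.Is v f S Fam.f4)
    (hv : v.Prime) (hvp : v ≠ p) : False := by
  obtain ⟨F, _, _, _, hcard, ⟨e⟩⟩ := hI
  have hf : 1 ≤ f := by
    by_contra hcon
    have h0 : f = 0 := by omega
    rw [h0, pow_zero] at hcard
    have := Fintype.one_lt_card (α := F)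
    omega
  exact not_f4D hS ((Cfsg.Agent.R2.Spec.X4.H18.f4Dat hv hcard hf).congr e) hvp

end Cfsg.Agent.R2.Spec.X7.N6
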