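import Mathlib
import Cfsg.Agent.R2.Spec.X7.N6.E3
import Cfsg.Agent.R2.Spec.X4.H18.G2

/-!
# Box X7, `n = 6`, packet N6-E (helper9): `S = G₂(u)`
-/

set_option autoImplicit false
set_option maxHeartbeats 1000000

namespace Cfsg.Agent.R2.Spec.X7.N6

open Cfsg.Agent.R2.Spec.X4.H18 (G2Dat)

variable {p q : ℕ} {s : ℤ} {c c5 M : ℕ} {W : ℕ → Prop} {v u : ℕ}

/-- the element orders of `G₂(u)` used in the finite check -/
def lowG2 (v u : ℕ) : List ℕ := [v * (u + 1), v * (u - 1), u ^ 2 - 1, u ^ 2 + u + 1, u ^ 2 - u + 1]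

theorem chkG2 : chk 25 265 3 lowG2 lowG2 = true := by decide +kernel

theorem g2_pair (h : SW p q s c c5 M W) (hu : 3 ≤ u) (hvp : ¬ p ∣ u) (h1 : W (u ^ 2 - 1)) (h3 : W (u ^ 2 + u + 1))
    (h6 : W (u ^ 2 - u + 1)) (hM : M ∣ u ^ 2 - 1 ∨ M ∣ u ^ 2 + u + 1 ∨ M ∣ u ^ 2 - u + 1) :
    (u : ℤ) ≤ 2 * c5 * (q + 1) + 3 := by
  have huz : (3 : ℤ) ≤ u := by exact_mod_cast hu
  have hsq : 9 ≤ u ^ 2 := by nlinarith
  have hle : u ≤ u ^ 2 := by nlinarith
  have e1 : ((u ^ 2 - 1 : ℕ) : ℤ) = (u : ℤ) ^ 2 - 1 := by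
    rw [Nat.cast_sub (by omega)]; push_cast; ring
  have e6 : ((u ^ 2 - u + 1 : ℕ) : ℤ) = (u : ℤ) ^ 2 - u + 1 := by
    rw [Nat.cast_add, Nat.cast_sub hle]; push_cast; ring
  have e3 : ((u ^ 2 + u + 1 : ℕ) : ℤ) = (u : ℤ) ^ 2 + u + 1 := by push_cast; ring
  have hqz : (3 : ℤ) ≤ q := by exact_mod_cast h.n.q3
  have hc5 := h.n.c5_pos
  have hMq : 8 * (q : ℤ) ^ 3 ≤ 5 * M := by exact_mod_cast h.n.q3_le
  have hM17 : (17 : ℤ) ≤ M := by exact_mod_cast h.n.M_gt
  -- the exception `q = 3`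
  by_cases hex : q = 3 ∧ u ≤ 9
  · have : (u : ℤ) ≤ 9 := by exact_mod_cast hex.2
    nlinarith
  have hN1 : q = 3 → 72 < u ^ 2 - 1 := by
    intro hq
    have : 10 ≤ u := by
      by_contra hcon
      exact hex ⟨hq, by omega⟩
    have : 100 ≤ u ^ 2 := by nlinarith
    omega
  have hN3 : q = 3 → 72 < u ^ 2 + u + 1 := by
    intro hq
    have := hN1 hq
    omega
  rcases hM with hM | hM | hM
  · obtain ⟨e, he⟩ := id hM
    have he0 : 0 < e := by
      rcases Nat.eq_zero_or_pos e with h0 | h0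
      · rw [h0] at he; omega
      · exact h0
    have hcop : Nat.Coprime (u ^ 2 + u + 1) M := h.n.cop_of hM (α := u * (u + 2))
      (β := 1 - (u + 2) * (u - 1)) (k := 3) (by rw [e1, e3]; ring) (by norm_num) (by norm_num)
    have hh := h.n.pair_lt (h.up _ h3) hcop (e := e) (by rw [← he]; omega) he0 hN3
    rw [← he, e1, e3] at hh
    by_contra hcon
    push Not at hcon
    nlinarith
  · obtain ⟨e, he⟩ := id hM
    have he0 : 0 < e := by
      rcases Nat.eq_zero_or_pos e with h0 | h0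
      · rw [h0] at he; omega
      · exact h0
    have hcop : Nat.Coprime (u ^ 2 - 1) M := h.n.cop_of hM (α := 1 - (u + 2) * (u - 1))
      (β := u * (u + 2)) (k := 3) (by rw [e1, e3]; ring) (by norm_num) (by norm_num)
    have hMle : (M : ℤ) ≤ (u : ℤ) ^ 2 + u + 1 := by
      rw [← e3]
      exact_mod_cast Nat.le_of_dvd (by omega) hM
    have hbig : q ^ 3 < u ^ 2 - 1 := by
      have : (q : ℤ) ^ 3 < ((u ^ 2 - 1 : ℕ) : ℤ) := by
        rw [e1]
        by_cases h4 : u = 3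
        · rw [h4] at hMle
          norm_num at hMle
          linarith
        · have : (4 : ℤ) ≤ u := by exact_mod_cast (by omega : 4 ≤ u)
          nlinarith
      exact_mod_cast this
    rcases h.n.pair_gt (h.up _ h1) hcop (e := e) (by rw [← he]; omega) hbig hN1 with hh | hh | ⟨j, hj1, hj2, hj3⟩
    · rw [← he, e1, e3] at hh
      by_contra hcon
      push Not at hcon
      nlinarith
    · exfalso
      rw [← he, e1, e3] at hh
      have h5 : (u : ℤ) + 2 ∣ 3 := by
        have h6 : (u : ℤ) + 2 ∣ (u : ℤ) ^ 2 + u + 1 := by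
          rw [← e3, he]
          push_cast
          rw [hh]
          exact ⟨M * c5, by ring⟩
        have h7 : (3 : ℤ) = ((u : ℤ) ^ 2 + u + 1) - (u + 2) * (u - 1) := by ring
        rw [h7]
        exact dvd_sub h6 (dvd_mul_right _ _)
      have := Int.le_of_dvd (by norm_num) h5
      linarith
    · exfalso
      rw [← he, e1, e3] at hj2
      rw [e1] at hj3
      have he1 : (0 : ℤ) < e := by exact_mod_cast he0
      have hjp : 0 < j := by nlinarith
      rcases h.n.c5_or with h5 | h5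
      · rw [h5] at hj1
        have hj : j = 1 := by
          have : j ≤ 1 := by push_cast at hj1; nlinarith
          omega
        rw [hj] at hj2
        apply hvp
        have h6 : (u : ℤ) = s * (s + 2) := by linarith
        have h7 : (p : ℤ) ∣ u := by rw [h6]; exact h.n.p_dvd.mul_right _
        exact_mod_cast h7
      · rw [h5] at hj1
        push_cast at hj1
        have hj : j = 1 ∨ j = 5 := by
          have h6 : j ∣ 5 := ⟨e, by linarith⟩
          have h7 : j.natAbs ∣ 5 := by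
            have := Int.natAbs_dvd_natAbs.mpr h6
            simpa using this
          rcases (Nat.dvd_prime (by norm_num : Nat.Prime 5)).mp h7 with h8 | h8 <;> omega
        rcases hj with hj | hj
        · rw [hj] at hj2
          apply hvp
          have h6 : (u : ℤ) = s * (s + 2) := by linarith
          have h7 : (p : ℤ) ∣ u := by rw [h6]; exact h.n.p_dvd.mul_right _
          exact_mod_cast h7
        · rw [hj] at hj2 hj3
          have h9 : (9 : ℤ) ≤ q := by exact_mod_cast h.n.q9 h5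
          have k1 : 5 * (5 * ((u : ℤ) ^ 2 - 1)) ≤ (s ^ 2 + 2 * s + 2) ^ 2 := by
            have : 5 * ((u : ℤ) + 2) = s ^ 2 + 2 * s + 2 := by linarith
            rw [← this]
            nlinarith
          rcases h.n.hs with h6 | h6
          · rw [h6] at k1 hj3
            have k2 : 5 * (((q : ℤ) ^ 3 - 1) * (q + 1)) ≤ ((q : ℤ) ^ 2 + 2 * q + 2) ^ 2 := by linarith
            nlinarith [mul_nonneg (by linarith : (0 : ℤ) ≤ (q : ℤ) - 9) (by positivity : (0 : ℤ) ≤ (q : ℤ) ^ 3),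
              mul_nonneg (by linarith : (0 : ℤ) ≤ (q : ℤ) - 9) (by positivity : (0 : ℤ) ≤ (q : ℤ) ^ 2),
              mul_nonneg (by linarith : (0 : ℤ) ≤ (q : ℤ) - 9) (by positivity : (0 : ℤ) ≤ (q : ℤ))]
          · rw [h6] at k1 hj3
            have k2 : 5 * ((-(q : ℤ)) ^ 3 - 1) * (-(q : ℤ) + 1) ≤ ((-(q : ℤ)) ^ 2 + 2 * -(q : ℤ) + 2) ^ 2 := by
              linarith
            nlinarith [mul_nonneg (by linarith : (0 : ℤ) ≤ (q : ℤ) - 9) (by positivity : (0 : ℤ) ≤ (q : ℤ) ^ 3),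
              mul_nonneg (by linarith : (0 : ℤ) ≤ (q : ℤ) - 9) (by positivity : (0 : ℤ) ≤ (q : ℤ) ^ 2),
              mul_nonneg (by linarith : (0 : ℤ) ≤ (q : ℤ) - 9) (by positivity : (0 : ℤ) ≤ (q : ℤ))]
  · obtain ⟨e, he⟩ := id hM
    have he0 : 0 < e := by
      rcases Nat.eq_zero_or_pos e with h0 | h0
      · rw [h0] at he; omega
      · exact h0
    have hcop : Nat.Coprime (u ^ 2 - 1) M := h.n.cop_of hM (α := 1 - (u - 2) * (u + 1))
      (β := u * (u - 2)) (k := 3) (by rw [e1, e6]; ring) (by norm_num) (by norm_num)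
    have hh := h.n.pair_lt (h.up _ h1) hcop (e := e) (by rw [← he]; omega) he0 hN1
    rw [← he, e1, e6] at hh
    by_contra hcon
    push Not at hcon
    nlinarith

theorem not_g2 {S : Type*} [Group S] [Finite S] (hS : Sec p q s c c5 M S) (D : G2Dat v u S) (hvp : v ≠ p) : False := by
  have h := hS.sw
  have hu := D.u3
  have huz : (3 : ℤ) ≤ u := by exact_mod_cast hu
  have hsq : 9 ≤ u ^ 2 := by nlinarith
  have hle : u ≤ u ^ 2 := by nlinarith
  obtain ⟨f, hf, hvf⟩ := D.pw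
  have hpu : ¬ p ∣ u := by
    intro hd
    rw [hvf] at hd
    exact hvp ((Nat.prime_dvd_prime_iff_eq h.n.hp D.vp).mp (h.n.hp.dvd_of_dvd_pow hd)).symm
  have hvu : v ≤ u := by rw [hvf]; exact Nat.le_self_pow (by omega) v
  have hv0 := D.vp.pos
  have hqz : (3 : ℤ) ≤ q := by exact_mod_cast h.n.q3
  have hc5 := h.n.c5_pos
  have hM17 := h.n.M_gt
  -- `M` divides one of the numbers
  have hhit : M ∣ v * (u + 1) ∨ M ∣ v * (u - 1) ∨ M ∣ u ^ 2 - 1 ∨ M ∣ u ^ 2 + u + 1 ∨ M ∣ u ^ 2 - u + 1 := by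
    obtain ⟨x, hx⟩ := hS.elt
    have h0 := D.up x
    rw [hx] at h0
    rcases h0 with h0 | h0 | h0 | h0 | h0 | ⟨-, h0⟩ | ⟨h1, h0⟩
    · exact Or.inl h0
    · exact Or.inr (Or.inl h0)
    · exact Or.inr (Or.inr (Or.inl h0))
    · exact Or.inr (Or.inr (Or.inr (Or.inl h0)))
    · exact Or.inr (Or.inr (Or.inr (Or.inr h0)))
    · exfalso
      obtain ⟨r, hr, hrM⟩ := Nat.exists_prime_and_dvd (show M ≠ 1 by omega)
      have h11 := h.n.prime_geE hr hrM
      have h2 : r ∣ 2 ^ 3 * 3 := by norm_num; exact hrM.trans h0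
      rcases hr.dvd_mul.1 h2 with h3 | h3
      · have := Nat.le_of_dvd (by norm_num) (hr.dvd_of_dvd_pow h3)
        omega
      · have := Nat.le_of_dvd (by norm_num) h3
        omega
    · exfalso
      obtain ⟨r, hr, hrM⟩ := Nat.exists_prime_and_dvd (show M ≠ 1 by omega)
      have h11 := h.n.prime_geE hr hrM
      have h2 := Nat.le_of_dvd hv0 (hr.dvd_of_dvd_pow (hrM.trans h0))
      omega
  have hle2 : M ≤ u ^ 2 + u + 1 := by
    have k1 : v * (u + 1) ≤ u * (u + 1) := Nat.mul_le_mul_right _ hvu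
    have k2 : u * (u + 1) = u ^ 2 + u := by ring
    have k3 : v * (u - 1) ≤ v * (u + 1) := Nat.mul_le_mul_left _ (by omega)
    rcases hhit with h0 | h0 | h0 | h0 | h0
    · have := Nat.le_of_dvd (Nat.mul_pos hv0 (by omega)) h0
      omega
    · have := Nat.le_of_dvd (Nat.mul_pos hv0 (by omega)) h0
      omega
    · have := Nat.le_of_dvd (by omega) h0
      omega
    · exact Nat.le_of_dvd (by omega) h0
    · have := Nat.le_of_dvd (by omega) h0
      omega
  have hu1 : (u : ℤ) ≤ 2 * c5 * (q + 1) + 3 := by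
    have hvodd : ∀ t : ℕ, t.Coprime v → M ∣ v * t → v ∣ M ∨ M ∣ t := by
      intro t ht hd
      by_cases hvM : v ∣ M
      · exact Or.inl hvM
      · right
        have : Nat.Coprime M v := ((Nat.Prime.coprime_iff_not_dvd D.vp).mpr hvM).symm
        exact this.dvd_of_dvd_mul_left hd
    have hmain : M ∣ u ^ 2 - 1 ∨ M ∣ u ^ 2 + u + 1 ∨ M ∣ u ^ 2 - u + 1 → (u : ℤ) ≤ 2 * c5 * (q + 1) + 3 :=
      g2_pair h hu hpu D.ex1 D.ex3 D.ex6
    have hfac : u ^ 2 - 1 = (u - 1) * (u + 1) := by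
      obtain ⟨t, rfl⟩ : ∃ t, u = t + 1 := ⟨u - 1, by omega⟩
      rw [Nat.add_sub_cancel]
      have : (t + 1) ^ 2 = t * (t + 1 + 1) + 1 := by ring
      omega
    have hvM : v ∣ M → (M : ℤ) ≤ v * (u + 1) → (u : ℤ) ≤ 2 * c5 * (q + 1) + 3 := by
      intro hvM hMle
      have k1 := h.two_v D.vp hvM (a := v * (u + 1)) (b := v * (u - 1)) (dvd_mul_right _ _) (dvd_mul_right _ _)
        D.exP D.exM (α := 1) (β := -1) (k := 2 * v) (by
          push_cast [Nat.cast_sub (show 1 ≤ u by omega)]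
          ring) (by have : (v : ℤ) ≠ 0 := by exact_mod_cast hv0.ne'
                    exact mul_ne_zero two_ne_zero this)
      have hvz : (0 : ℤ) < v := by exact_mod_cast hv0
      rw [abs_of_pos (by linarith)] at k1
      push_cast [Nat.cast_sub (show 1 ≤ u by omega)] at k1
      have k2 : ((v : ℤ) * (u + 1) * (v * (u - 1))) * 2 ≤ 2 * v * (c5 * (q + 1)) * (v * (u + 1)) := by
        refine k1.trans ?_
        gcongr
      have k3 : (2 * (v : ℤ) ^ 2 * (u + 1)) * (u - 1) ≤ (2 * (v : ℤ) ^ 2 * (u + 1)) * (c5 * (q + 1)) := by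
        linarith
      have k4 := le_of_mul_le_mul_left k3 (by positivity)
      nlinarith
    rcases hhit with h0 | h0 | h0
    · by_cases hd : v ∣ M
      · refine hvM hd ?_
        exact_mod_cast Nat.le_of_dvd (Nat.mul_pos hv0 (by omega)) h0
      · have h1 : Nat.Coprime M v := ((Nat.Prime.coprime_iff_not_dvd D.vp).mpr hd).symm
        exact hmain (Or.inl (by rw [hfac]; exact (h1.dvd_of_dvd_mul_left h0).mul_left _))
    · by_cases hd : v ∣ M
      · refine hvM hd ?_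
        have k3 : v * (u - 1) ≤ v * (u + 1) := Nat.mul_le_mul_left _ (by omega)
        exact_mod_cast (Nat.le_of_dvd (Nat.mul_pos hv0 (by omega)) h0).trans k3
      · have h1 : Nat.Coprime M v := ((Nat.Prime.coprime_iff_not_dvd D.vp).mpr hd).symm
        exact hmain (Or.inl (by rw [hfac]; exact (h1.dvd_of_dvd_mul_left h0).mul_right _))
    · exact hmain h0
  have hlo := h.n.lo
  have hMz : (M : ℤ) ≤ (u : ℤ) ^ 2 + u + 1 := by exact_mod_cast hle2
  have hbd : q ≤ 25 ∧ u ≤ 265 := by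
    have hu0 : (0 : ℤ) ≤ u := by positivity
    rcases h.n.c5_or with h5 | h5
    · rw [h5] at hlo hu1
      push_cast at hlo hu1
      have k1 : (M : ℤ) ≤ (2 * q + 5) ^ 2 + (2 * q + 5) + 1 := by nlinarith
      have k2 : (q : ℤ) ≤ 25 := by
        by_contra hcon
        push Not at hcon
        nlinarith [mul_nonneg (by linarith : (0 : ℤ) ≤ (q : ℤ) - 25) (by positivity : (0 : ℤ) ≤ (q : ℤ) ^ 3),
          mul_nonneg (by linarith : (0 : ℤ) ≤ (q : ℤ) - 25) (by positivity : (0 : ℤ) ≤ (q : ℤ) ^ 2),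
          mul_nonneg (by linarith : (0 : ℤ) ≤ (q : ℤ) - 25) (by positivity : (0 : ℤ) ≤ (q : ℤ))]
      have k3 : (u : ℤ) ≤ 265 := by linarith
      exact ⟨by exact_mod_cast k2, by exact_mod_cast k3⟩
    · rw [h5] at hlo hu1
      push_cast at hlo hu1
      have k1 : (M : ℤ) ≤ (10 * q + 13) ^ 2 + (10 * q + 13) + 1 := by nlinarith
      have k2 : (q : ℤ) < 25 := by
        by_contra hcon
        push Not at hcon
        nlinarith [mul_nonneg (by linarith : (0 : ℤ) ≤ (q : ℤ) - 25) (by positivity : (0 : ℤ) ≤ (q : ℤ) ^ 3),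
          mul_nonneg (by linarith : (0 : ℤ) ≤ (q : ℤ) - 25) (by positivity : (0 : ℤ) ≤ (q : ℤ) ^ 2),
          mul_nonneg (by linarith : (0 : ℤ) ≤ (q : ℤ) - 25) (by positivity : (0 : ℤ) ≤ (q : ℤ))]
      have k3 : (u : ℤ) ≤ 265 := by linarith
      exact ⟨by exact_mod_cast k2.le, by exact_mod_cast k3⟩
  refine h.chk_false chkG2 (by norm_num) (by norm_num) D.vp ⟨f, hf, hvf⟩ hvp hbd.1 hbd.2 hu ?_ ?_
  · intro E hE
    simp only [lowG2, List.mem_cons, List.not_mem_nil, or_false] at hE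
    rcases hE with rfl | rfl | rfl | rfl | rfl
    · exact D.exP
    · exact D.exM
    · exact D.ex1
    · exact D.ex3
    · exact D.ex6
  · have hmem : ∀ n : ℕ, (n = v * (u + 1) ∨ n = v * (u - 1) ∨ n = u ^ 2 - 1 ∨ n = u ^ 2 + u + 1 ∨ n = u ^ 2 - u + 1) →
        n ∈ lowG2 v u := by
      intro n hn
      simp only [lowG2, List.mem_cons, List.not_mem_nil, or_false]
      exact hn
    rcases hhit with h0 | h0 | h0 | h0 | h0
    · exact ⟨_, hmem _ (Or.inl rfl), h0⟩
    · exact ⟨_, hmem _ (Or.inr (Or.inl rfl)), h0⟩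
    · exact ⟨_, hmem _ (Or.inr (Or.inr (Or.inl rfl))), h0⟩
    · exact ⟨_, hmem _ (Or.inr (Or.inr (Or.inr (Or.inl rfl)))), h0⟩
    · exact ⟨_, hmem _ (Or.inr (Or.inr (Or.inr (Or.inr rfl)))), h0⟩

end Cfsg.Agent.R2.Spec.X7.N6
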