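import Mathlib
import Cfsg.Agent.R2.Spec.X7.N6.E3
import Cfsg.Agent.R2.Spec.X4.H18.SzRee

/-!
# Box X7, `n = 6`, packet N6-E (helper9): `S = Sz(u)`, `S = Ree(u)`
-/

set_option autoImplicit false
set_option maxHeartbeats 1000000

namespace Cfsg.Agent.R2.Spec.X7.N6

open Cfsg.Agent.H426.LieFam
open Cfsg.Agent.R2.Spec.X4.H18 (SzD ReeD ord_iff)

variable {p q : ℕ} {s : ℤ} {c c5 M : ℕ}

/-- the element orders of `Sz(2 y²)` -/
def lowSz (y : ℕ) : List ℕ := [2 * y ^ 2 - 1, 2 * y ^ 2 + 2 * y + 1, 2 * y ^ 2 - 2 * y + 1]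

theorem chkSz : ((List.range 9).all fun m => (m == 0) || chkQ 36 2 (lowSz (2 ^ m)) (lowSz (2 ^ m))) = true := by
  decide +kernel

theorem not_szD {S : Type*} [Group S] [Finite S] {y : ℕ} (hS : Sec p q s c c5 M S) (D : SzD y S) : False := by
  have h := hS.sw
  obtain ⟨m, hm, hy⟩ := D.pw
  have hy2 : 2 ≤ y := by
    rw [hy]
    exact Nat.le_self_pow (by omega) 2
  have hyz : (2 : ℤ) ≤ y := by exact_mod_cast hy2
  have hsq : 2 * y ≤ y ^ 2 := by nlinarith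
  have e0 : ((2 * y ^ 2 - 1 : ℕ) : ℤ) = 2 * (y : ℤ) ^ 2 - 1 := by
    rw [Nat.cast_sub (by omega)]; push_cast; ring
  have em : ((2 * y ^ 2 - 2 * y + 1 : ℕ) : ℤ) = 2 * (y : ℤ) ^ 2 - 2 * y + 1 := by
    rw [Nat.cast_add, Nat.cast_sub (by omega)]; push_cast; ring
  have ep : ((2 * y ^ 2 + 2 * y + 1 : ℕ) : ℤ) = 2 * (y : ℤ) ^ 2 + 2 * y + 1 := by push_cast; ring
  have hqz : (3 : ℤ) ≤ q := by exact_mod_cast h.n.q3
  have hc5 := h.n.c5_pos
  have hMq : 8 * (q : ℤ) ^ 3 ≤ 5 * M := by exact_mod_cast h.n.q3_le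
  have hM17 : (17 : ℤ) ≤ M := by exact_mod_cast h.n.M_gt
  have hhit : M ∣ 2 * y ^ 2 - 1 ∨ M ∣ 2 * y ^ 2 + 2 * y + 1 ∨ M ∣ 2 * y ^ 2 - 2 * y + 1 := by
    obtain ⟨x, hx⟩ := hS.elt
    rw [← hx]
    exact D.ub x (by rw [hx]; exact h.n.M_oddE)
  have hMle : (M : ℤ) ≤ 2 * (y : ℤ) ^ 2 + 2 * y + 1 := by
    rw [← ep]
    rcases hhit with h0 | h0 | h0
    · have := Nat.le_of_dvd (by omega) h0
      exact_mod_cast (by omega : M ≤ 2 * y ^ 2 + 2 * y + 1)
    · exact_mod_cast Nat.le_of_dvd (by omega) h0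
    · have := Nat.le_of_dvd (by omega) h0
      exact_mod_cast (by omega : M ≤ 2 * y ^ 2 + 2 * y + 1)
  have hu1 : (y : ℤ) ≤ 2 * c5 * (q + 1) + 2 := by
    by_cases hex : q = 3 ∧ y ≤ 7
    · have : (y : ℤ) ≤ 7 := by exact_mod_cast hex.2
      nlinarith
    have hN0 : q = 3 → 72 < 2 * y ^ 2 - 1 := by
      intro hq
      have : 8 ≤ y := by
        by_contra hcon
        exact hex ⟨hq, by omega⟩
      have : 64 ≤ y ^ 2 := by nlinarith
      omega
    have hNp : q = 3 → 72 < 2 * y ^ 2 + 2 * y + 1 := by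
      intro hq
      have := hN0 hq
      omega
    rcases hhit with hM | hM | hM
    · obtain ⟨e, he⟩ := id hM
      have he0 : 0 < e := by
        rcases Nat.eq_zero_or_pos e with h0 | h0
        · rw [h0] at he; omega
        · exact h0
      have hcop : Nat.Coprime (2 * y ^ 2 + 2 * y + 1) M := h.n.cop_of hM (α := y)
        (β := -(y - 1)) (k := 1) (by rw [e0, ep]; ring) (by norm_num) (by norm_num)
      have hh := h.n.pair_lt (h.up _ D.op) hcop (e := e) (by rw [← he]; omega) he0 hNp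
      rw [← he, e0, ep] at hh
      by_contra hcon
      push Not at hcon
      nlinarith
    · obtain ⟨e, he⟩ := id hM
      have he0 : 0 < e := by
        rcases Nat.eq_zero_or_pos e with h0 | h0
        · rw [h0] at he; omega
        · exact h0
      have hcop : Nat.Coprime (2 * y ^ 2 - 1) M := h.n.cop_of hM (α := -(y - 1))
        (β := y) (k := 1) (by rw [e0, ep]; ring) (by norm_num) (by norm_num)
      have hbig : q ^ 3 < 2 * y ^ 2 - 1 := by
        have : (q : ℤ) ^ 3 < ((2 * y ^ 2 - 1 : ℕ) : ℤ) := by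
          rw [e0]
          by_cases h4 : y = 2
          · rw [h4] at hMle
            norm_num at hMle
            linarith
          · have : (3 : ℤ) ≤ y := by exact_mod_cast (by omega : 3 ≤ y)
            nlinarith
        exact_mod_cast this
      rcases h.n.pair_gt (h.up _ D.o0) hcop (e := e) (by rw [← he]; omega) hbig hN0 with hh | hh | ⟨j, -, hj2, -⟩
      · rw [← he, e0, ep] at hh
        by_contra hcon
        push Not at hcon
        nlinarith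
      · exfalso
        rw [← he, e0, ep] at hh
        have h6 : (2 : ℤ) * (y ^ 2 + y) + 1 = M * (c5 * (2 * (y + 1))) := by
          have h7 : ((M * e : ℕ) : ℤ) = 2 * (y : ℤ) ^ 2 + 2 * y + 1 := by rw [← he, ep]
          push_cast at h7
          rw [hh] at h7
          linear_combination -h7
        have h8 : (2 : ℤ) * (M * (c5 * (y + 1)) - (y ^ 2 + y)) = 1 := by linear_combination -h6
        omega
      · exfalso
        rw [← he, e0, ep] at hj2
        obtain ⟨k, hk⟩ := h.n.odd_s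
        rw [hk] at hj2
        have h8 : (2 : ℤ) * (j * (y + 1) - (2 * k ^ 2 + 2 * k + 2 * k + 2)) = 1 := by linear_combination hj2
        omega
    · obtain ⟨e, he⟩ := id hM
      have he0 : 0 < e := by
        rcases Nat.eq_zero_or_pos e with h0 | h0
        · rw [h0] at he; omega
        · exact h0
      have hcop : Nat.Coprime (2 * y ^ 2 - 1) M := h.n.cop_of hM (α := y + 1)
        (β := -y) (k := 1) (by rw [e0, em]; ring) (by norm_num) (by norm_num)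
      have hh := h.n.pair_lt (h.up _ D.o0) hcop (e := e) (by rw [← he]; omega) he0 hN0
      rw [← he, e0, em] at hh
      by_contra hcon
      push Not at hcon
      nlinarith
  have hlo := h.n.lo
  have hbd : q ≤ 36 ∧ y ≤ 382 := by
    have hu0 : (0 : ℤ) ≤ y := by positivity
    rcases h.n.c5_or with h5 | h5
    · rw [h5] at hlo hu1
      push_cast at hlo hu1
      have k1 : (M : ℤ) ≤ 2 * (2 * q + 4) ^ 2 + 2 * (2 * q + 4) + 1 := by nlinarith
      have k2 : (q : ℤ) ≤ 36 := by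
        by_contra hcon
        push Not at hcon
        nlinarith [mul_nonneg (by linarith : (0 : ℤ) ≤ (q : ℤ) - 36) (by positivity : (0 : ℤ) ≤ (q : ℤ) ^ 3),
          mul_nonneg (by linarith : (0 : ℤ) ≤ (q : ℤ) - 36) (by positivity : (0 : ℤ) ≤ (q : ℤ) ^ 2),
          mul_nonneg (by linarith : (0 : ℤ) ≤ (q : ℤ) - 36) (by positivity : (0 : ℤ) ≤ (q : ℤ))]
      have k3 : (y : ℤ) ≤ 382 := by linarith
      exact ⟨by exact_mod_cast k2, by exact_mod_cast k3⟩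
    · rw [h5] at hlo hu1
      push_cast at hlo hu1
      have k1 : (M : ℤ) ≤ 2 * (10 * q + 12) ^ 2 + 2 * (10 * q + 12) + 1 := by nlinarith
      have k2 : (q : ℤ) ≤ 36 := by
        by_contra hcon
        push Not at hcon
        nlinarith [mul_nonneg (by linarith : (0 : ℤ) ≤ (q : ℤ) - 36) (by positivity : (0 : ℤ) ≤ (q : ℤ) ^ 3),
          mul_nonneg (by linarith : (0 : ℤ) ≤ (q : ℤ) - 36) (by positivity : (0 : ℤ) ≤ (q : ℤ) ^ 2),
          mul_nonneg (by linarith : (0 : ℤ) ≤ (q : ℤ) - 36) (by positivity : (0 : ℤ) ≤ (q : ℤ))]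
      have k3 : (y : ℤ) ≤ 382 := by linarith
      exact ⟨by exact_mod_cast k2, by exact_mod_cast k3⟩
  have hm9 : m < 9 := by
    by_contra hcon
    have k1 : 2 ^ 9 ≤ 2 ^ m := Nat.pow_le_pow_right (by norm_num) (not_lt.mp hcon)
    have := hbd.2
    omega
  have h1 := chkSz
  rw [List.all_eq_true] at h1
  have h2 := h1 m (by rw [List.mem_range]; exact hm9)
  have h3 : (m == 0) = false := by rw [beq_eq_false_iff_ne]; omega
  rw [h3, ← hy, Bool.false_or] at h2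
  have h4 := h.chkQ_false (Q := 36) (v := 2) (low := lowSz y) (hit := lowSz y) hbd.1 (by norm_num)
    (fun h0 => h.n.hp2 h0.symm) (by
      intro E hE
      simp only [lowSz, List.mem_cons, List.not_mem_nil, or_false] at hE
      rcases hE with rfl | rfl | rfl
      · exact D.o0
      · exact D.op
      · exact D.om) (by
      have hmem : ∀ n : ℕ, (n = 2 * y ^ 2 - 1 ∨ n = 2 * y ^ 2 + 2 * y + 1 ∨ n = 2 * y ^ 2 - 2 * y + 1) →
          n ∈ lowSz y := by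
        intro n hn
        simp only [lowSz, List.mem_cons, List.not_mem_nil, or_false]
        exact hn
      rcases hhit with h0 | h0 | h0
      · exact ⟨_, hmem _ (Or.inl rfl), h0⟩
      · exact ⟨_, hmem _ (Or.inr (Or.inl rfl)), h0⟩
      · exact ⟨_, hmem _ (Or.inr (Or.inr rfl)), h0⟩)
  rw [h4] at h2
  exact Bool.noConfusion h2

theorem not_sz {S : Type*} [Group S] [Finite S] (hS : Sec p q s c c5 M S) {v f : ℕ} (hI : Fam.Is v f S Fam.sz) :
    False := by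
  obtain ⟨-, m, hm, -, F, _, _, hF, ⟨e⟩⟩ := hI
  obtain ⟨e'⟩ := Cfsg.Agent.OddCyclic.ClaimC.SzIso.iso hm hF
  have e1 := e.trans e'.symm
  obtain ⟨h1, h2, h3, h4⟩ := Cfsg.Agent.H372.SzSpec.spec (F := F) hm hF
  have E1 : 2 ^ (2 * m + 1) = 2 * (2 ^ m) ^ 2 := by ring
  have E2 : 2 ^ (m + 1) = 2 * 2 ^ m := by ring
  rw [E1] at h1 h2 h3 h4
  rw [E2] at h1 h3 h4
  refine not_szD hS (y := 2 ^ m) ⟨⟨m, hm, rfl⟩, fun x hx => ?_, (ord_iff e1 _).2 h2, (ord_iff e1 _).2 h3,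
    (ord_iff e1 _).2 h4⟩
  have := h1 (e1 x) (by rwa [MulEquiv.orderOf_eq])
  rwa [MulEquiv.orderOf_eq] at this

/-! ### `Ree(u)`, `u = 3 t²` -/

/-- the element orders of `Ree(3 t²)` -/
def lowRee (t : ℕ) : List ℕ := [3 * t ^ 2 - 1, (3 * t ^ 2 + 1) / 2, 3 * t ^ 2 + 3 * t + 1, 3 * t ^ 2 - 3 * t + 1]

theorem chkRee : ((List.range 5).all fun m => (m == 0) || chkQ 18 3 (lowRee (3 ^ m)) (lowRee (3 ^ m))) = true := by
  decide +kernel

theorem not_reeD {S : Type*} [Group S] [Finite S] {t : ℕ} (hS : Sec p q s c c5 M S) (D : ReeD t S) (hp3 : 3 ≠ p) :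
    False := by
  have h := hS.sw
  obtain ⟨m, hm, hy⟩ := D.pw
  have ht3 : 3 ≤ t := by
    rw [hy]
    exact Nat.le_self_pow (by omega) 3
  have htz : (3 : ℤ) ≤ t := by exact_mod_cast ht3
  have hsq : 3 * t ≤ t ^ 2 := by nlinarith
  have hodd : t % 2 = 1 := by
    rw [hy, Nat.pow_mod]
    simp
  have hD1 : 2 * ((3 * t ^ 2 + 1) / 2) = 3 * t ^ 2 + 1 := by
    refine Nat.mul_div_cancel' (Nat.dvd_of_mod_eq_zero ?_)
    rw [Nat.add_mod, Nat.mul_mod, Nat.pow_mod, hodd]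
  have o0 : ∃ x : S, orderOf x = 3 * t ^ 2 - 1 := (D.sp _).mpr (Or.inr (Or.inr (Or.inl dvd_rfl)))
  have o1 : ∃ x : S, orderOf x = (3 * t ^ 2 + 1) / 2 := (D.sp _).mpr (Or.inr (Or.inr (Or.inr (Or.inl dvd_rfl))))
  have om : ∃ x : S, orderOf x = 3 * t ^ 2 - 3 * t + 1 :=
    (D.sp _).mpr (Or.inr (Or.inr (Or.inr (Or.inr (Or.inl dvd_rfl)))))
  have op : ∃ x : S, orderOf x = 3 * t ^ 2 + 3 * t + 1 :=
    (D.sp _).mpr (Or.inr (Or.inr (Or.inr (Or.inr (Or.inr dvd_rfl)))))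
  have e0 : ((3 * t ^ 2 - 1 : ℕ) : ℤ) = 3 * (t : ℤ) ^ 2 - 1 := by
    rw [Nat.cast_sub (by omega)]; push_cast; ring
  have em : ((3 * t ^ 2 - 3 * t + 1 : ℕ) : ℤ) = 3 * (t : ℤ) ^ 2 - 3 * t + 1 := by
    rw [Nat.cast_add, Nat.cast_sub (by omega)]; push_cast; ring
  have ep : ((3 * t ^ 2 + 3 * t + 1 : ℕ) : ℤ) = 3 * (t : ℤ) ^ 2 + 3 * t + 1 := by push_cast; ring
  set D1 := (3 * t ^ 2 + 1) / 2 with hD1d
  have e1 : (2 : ℤ) * (D1 : ℕ) = 3 * (t : ℤ) ^ 2 + 1 := by exact_mod_cast hD1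
  have hhit : M ∣ 3 * t ^ 2 - 1 ∨ M ∣ D1 ∨ M ∣ 3 * t ^ 2 + 3 * t + 1 ∨ M ∣ 3 * t ^ 2 - 3 * t + 1 := by
    obtain ⟨x, hx⟩ := hS.elt
    have h0 := (D.sp M).mp ⟨x, hx⟩
    have h17 := h.n.M_gt
    rcases h0 with h0 | h0 | h0 | h0 | h0 | h0
    · have := Nat.le_of_dvd (by norm_num) h0
      omega
    · have := Nat.le_of_dvd (by norm_num) h0
      omega
    · exact Or.inl h0
    · exact Or.inr (Or.inl h0)
    · exact Or.inr (Or.inr (Or.inr h0))
    · exact Or.inr (Or.inr (Or.inl h0))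
  have hMle : M ≤ 3 * t ^ 2 + 3 * t + 1 := by
    rcases hhit with h0 | h0 | h0 | h0
    · have := Nat.le_of_dvd (by omega) h0
      omega
    · have := Nat.le_of_dvd (by omega) h0
      omega
    · exact Nat.le_of_dvd (by omega) h0
    · have := Nat.le_of_dvd (by omega) h0
      omega
  rcases Nat.lt_or_ge t 243 with hsm | hbig
  · -- finite check
    have hm5 : m < 5 := by
      by_contra hcon
      have k1 : 3 ^ 5 ≤ 3 ^ m := Nat.pow_le_pow_right (by norm_num) (not_lt.mp hcon)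
      omega
    have ht81 : t ≤ 81 := by
      rw [hy]
      calc 3 ^ m ≤ 3 ^ 4 := Nat.pow_le_pow_right (by norm_num) (by omega)
        _ = 81 := by norm_num
    have hq18 : q ≤ 18 := by
      by_contra hcon
      have k1 := h.n.M_lo
      have k2 : 19 ^ 4 ≤ q ^ 4 := Nat.pow_le_pow_left (by omega) 4
      have k3 : t ^ 2 ≤ 81 ^ 2 := Nat.pow_le_pow_left ht81 2
      omega
    have h1 := chkRee
    rw [List.all_eq_true] at h1
    have h2 := h1 m (by rw [List.mem_range]; exact hm5)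
    have h3 : (m == 0) = false := by rw [beq_eq_false_iff_ne]; omega
    rw [h3, ← hy, Bool.false_or] at h2
    have h4 := h.chkQ_false (Q := 18) (v := 3) (low := lowRee t) (hit := lowRee t) hq18 (by norm_num)
      hp3 (by
        intro E hE
        simp only [lowRee, List.mem_cons, List.not_mem_nil, or_false] at hE
        rcases hE with rfl | rfl | rfl | rfl
        · exact o0
        · exact o1
        · exact op
        · exact om) (by
        have hmem : ∀ n : ℕ, (n = 3 * t ^ 2 - 1 ∨ n = D1 ∨ n = 3 * t ^ 2 + 3 * t + 1 ∨ n = 3 * t ^ 2 - 3 * t + 1) →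
            n ∈ lowRee t := by
          intro n hn
          simp only [lowRee, List.mem_cons, List.not_mem_nil, or_false]
          exact hn
        rcases hhit with h0 | h0 | h0 | h0
        · exact ⟨_, hmem _ (Or.inl rfl), h0⟩
        · exact ⟨_, hmem _ (Or.inr (Or.inl rfl)), h0⟩
        · exact ⟨_, hmem _ (Or.inr (Or.inr (Or.inl rfl))), h0⟩
        · exact ⟨_, hmem _ (Or.inr (Or.inr (Or.inr rfl))), h0⟩)
    rw [h4] at h2
    exact Bool.noConfusion h2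
  · -- the exponent
    have d0 := h.dvd_PI o0
    have d1 := h.dvd_PI o1
    have dm := h.dvd_PI om
    have dp := h.dvd_PI op
    obtain ⟨k, hk⟩ : ∃ k : ℤ, (t : ℤ) = 2 * k + 1 := ⟨((t / 2 : ℕ) : ℤ), by
      have : t = 2 * (t / 2) + 1 := by omega
      exact_mod_cast this⟩
    have x1 : (((3 * t ^ 2 - 1 : ℕ) : ℤ) * (D1 : ℕ)) ∣ 2 * PI p s :=
      mul_dvd_of d0 d1 (α := -1) (β := 2) (by rw [e0]; linear_combination e1)
    have x2 : (((3 * t ^ 2 - 3 * t + 1 : ℕ) : ℤ) * ((3 * t ^ 2 + 3 * t + 1 : ℕ) : ℤ)) ∣ 1 * PI p s :=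
      mul_dvd_of dm dp (α := 1 + k) (β := -k) (by
        rw [em, ep]
        linear_combination (3 * (t : ℤ)) * hk)
    have x3 := mul_dvd_of x1 ((one_mul (PI p s) ▸ x2).mul_left 2)
      (α := -2 * ((3 * (t : ℤ) ^ 2 + 1) * (3 * t ^ 4) + 1)) (β := (3 * (t : ℤ) ^ 2 + 2) * (3 * t ^ 4)) (k := 1) (by
        rw [em, ep, e0]
        linear_combination (-((3 * (t : ℤ) ^ 2 + 1) * (3 * t ^ 4) + 1) * (3 * (t : ℤ) ^ 2 - 1)) * e1)
    rw [one_mul] at x3
    have hX : ((((3 * t ^ 2 - 1) * D1) * ((3 * t ^ 2 - 3 * t + 1) * (3 * t ^ 2 + 3 * t + 1)) : ℕ) : ℤ) ∣ (2 : ℕ) * PI p s := by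
      push_cast at x3 ⊢
      exact x3
    have t2 : 243 * t ≤ t ^ 2 := by nlinarith
    refine h.n.killE (by norm_num) hX (a1 := 2) (a2 := 80) (b1 := 81) (b2 := 246) (d := 8) (e := 2) (r := 6) (u := t)
      (by omega) ?_ (by omega) (by norm_num) ?_
    · have : (80 : ℤ) * t ^ 8 ≤ 2 * (((3 * t ^ 2 - 1 : ℕ) : ℤ) * (D1 : ℕ) * (((3 * t ^ 2 - 3 * t + 1 : ℕ) : ℤ) *
          ((3 * t ^ 2 + 3 * t + 1 : ℕ) : ℤ))) := by
        rw [em, ep, e0]
        have k1 : 2 * ((3 * (t : ℤ) ^ 2 - 1) * (D1 : ℕ) * ((3 * (t : ℤ) ^ 2 - 3 * t + 1) * (3 * (t : ℤ) ^ 2 + 3 * t + 1)))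
            = (9 * (t : ℤ) ^ 4 - 1) * (9 * t ^ 4 - 3 * t ^ 2 + 1) := by
          linear_combination ((3 * (t : ℤ) ^ 2 - 1) * ((3 * (t : ℤ) ^ 2 - 3 * t + 1) * (3 * (t : ℤ) ^ 2 + 3 * t + 1))) * e1
        rw [k1]
        have k2 : (27 : ℤ) ≤ t ^ 2 := by nlinarith
        have k3 : (0 : ℤ) ≤ (t : ℤ) ^ 6 := by positivity
        nlinarith [mul_nonneg (by linarith : (0 : ℤ) ≤ (t : ℤ) ^ 2 - 27) k3]
      exact_mod_cast this
    · have k1 : 243 ^ 6 ≤ t ^ 6 := Nat.pow_le_pow_left hbig 6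
      calc 2 ^ 4 * 2 ^ 4 * (50 ^ 4 * 45 ^ 9) * 246 ^ 13 < 81 * 8 ^ 9 * 80 ^ 4 * 81 ^ 13 * 243 ^ 6 := by norm_num
        _ ≤ 81 * 8 ^ 9 * 80 ^ 4 * 81 ^ 13 * t ^ 6 := Nat.mul_le_mul_left _ k1

theorem not_ree {S : Type*} [Group S] [Finite S] (hS : Sec p q s c c5 M S) {v f : ℕ} (hI : Fam.Is v f S Fam.ree)
    (hvp : v ≠ p) : False := by
  obtain ⟨hv, m, hm, -, K, _, _, hK, ⟨e⟩⟩ := hI
  have hsp := Cfsg.Agent.S1159.result (K := K) hm hK
  have E1 : 3 ^ (2 * m + 1) = 3 * (3 ^ m) ^ 2 := by ring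
  have E2 : 3 ^ (m + 1) = 3 * 3 ^ m := by ring
  rw [E1, E2] at hsp
  refine not_reeD hS (t := 3 ^ m) ⟨⟨m, hm, rfl⟩, fun d => ?_⟩ (fun h3 => hvp (by rw [hv, h3]))
  rw [ord_iff e]
  exact hsp d

end Cfsg.Agent.R2.Spec.X7.N6
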