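import Mathlib
import Cfsg.Agent.R2.Spec.X7.N6.EG2
import Cfsg.Agent.R2.Spec.X7.N6.ESz
import Cfsg.Agent.R2.Spec.X7.N6.ED4
import Cfsg.Agent.R2.Spec.X7.N6.EF4
import Cfsg.Agent.R2.Spec.X7.N6.EE6
import Cfsg.Agent.R2.Spec.X7.N6.EE8
import Cfsg.Agent.R2.Spec.X7.N6.ETF4
import Cfsg.Agent.R2.Spec.F1.ExcFld

/-!
# Box X7, `n = 6`, packet N6-E (helper9): `S` is not exceptional

`not_exc` : no exceptional group over a field of characteristic `v ≠ p` is a section as in `Sec`.
-/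

set_option autoImplicit false
set_option maxHeartbeats 1000000

namespace Cfsg.Agent.R2.Spec.X7.N6

open Cfsg Cfsg.Agent.H426.LieFam Cfsg.Agent.R2.Spec

variable {p q : ℕ} {s : ℤ} {c c5 M : ℕ}

theorem not_g2' {S : Type*} [Group S] [Finite S] (hS : Sec p q s c c5 M S) {v f : ℕ} (hI : Fam.Is v f S Fam.g2)
    (hv : v.Prime) (hvp : v ≠ p) : False := by
  obtain ⟨h3, F, _, _, _, hcard, ⟨e⟩⟩ := hI
  exact not_g2 hS ((Cfsg.Agent.R2.Spec.X4.H18.g2Dat hv hcard h3).congr e) hvp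

theorem not_tf4 {S : Type*} [Group S] [Finite S] (hS : Sec p q s c c5 M S) {v f : ℕ} (hI : Fam.Is v f S Fam.tf4) :
    False := by
  obtain ⟨-, m, hm, -, K, _, _, hK, ⟨e⟩⟩ := hI
  refine not_tf4D hm hK hS.sw ?_ ?_
  · rintro E ⟨x, rfl⟩
    exact ⟨e x, orderOf_injective e.toMonoidHom e.injective x⟩
  · intro x
    exact ⟨e.symm x, orderOf_injective e.symm.toMonoidHom e.symm.injective x⟩

/-- **N6-E**: the section is not exceptional. -/
theorem not_exc {S : Type*} [Group S] [Finite S] (h : Sec p q s c c5 M S) {v f : ℕ} {t : Fam} (hv : v.Prime)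
    (hvp : v ≠ p) (ht : F1.Exc t) (hI : Fam.Is v f S t) : False := by
  cases t with
  | g2 => exact not_g2' h hI hv hvp
  | f4 => exact not_f4 h hI hv hvp
  | e6 => exact not_e6 h hI hv hvp
  | te6 => exact not_te6 h hI hv hvp
  | td4 => exact not_td4 h hI hv hvp
  | tf4 => exact not_tf4 h hI
  | e7 => exact not_e7 h hI hv hvp
  | e8 => exact not_e8 h hI hv
  | sz => exact not_sz h hI
  | ree => exact not_ree h hI hvp
  | psl n => exact ht.elim
  | psp n => exact ht.elim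
  | psu n => exact ht.elim
  | oodd n => exact ht.elim
  | oplus n => exact ht.elim
  | ominus n => exact ht.elim

end Cfsg.Agent.R2.Spec.X7.N6
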