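import Cfsg.Agent.R2.Spec.X7.N6.NTE

/-!
# Box X7, `n = 6`, packet N6-NT (helper22, S3435): a prime of `M` is not adjacent to the characteristic of `S`
-/

set_option autoImplicit false
set_option linter.unusedSectionVars false

namespace Cfsg.Agent.R2.Spec.X7.N6

open Subgroup Cfsg
open Cfsg.Agent.H426.LieFam Cfsg.Agent.R2.Spec Cfsg.Agent.R2.Spec.P1 Cfsg.Agent.R2.Spec.F1
open Cfsg.Agent.H72 Cfsg.Agent.H420.QR Cfsg.Agent.R2.Spec.E

universe u w

variable {t : Fam} {p f : ℕ} {L : Type w} [Group L] [Finite L] {G : Type u} [Group G] [Finite G]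
variable {K : Subgroup G} [K.Normal] {S : Subgroup (G ⧸ K)} [S.Normal] {t' : Fam} {v f' : ℕ} {c c5 M : ℕ}

theorem pow4_le_of_lowS {t' : Fam} {u i m : ℕ} (hu : 2 ≤ u) (hr : 4 ≤ rk t') (hi : P1.top t' i)
    (hm : szE t' = m - 2) (hm6 : 6 ≤ m) : u ^ 4 ≤ 8 * ttor t' u i := by
  refine le_trans ?_ (lowS hu hr hi)
  rw [hm]
  exact Nat.pow_le_pow_right (by omega) (by omega)

theorem aux5a {w g T : ℕ} (hw : 1 ≤ w) (hg : g ≤ 5) (h : T * (g * w) = (w + 1) ^ 5 - 1) : (w + 1) ^ 4 ≤ 8 * T := by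
  have h1 : T * (g * w) ≤ T * (5 * w) := Nat.mul_le_mul_left _ (Nat.mul_le_mul_right _ hg)
  have h2 : (w + 1) ^ 5 = (w + 1) ^ 4 * w + (w + 1) ^ 4 := by ring
  have h3 : 16 ≤ (w + 1) ^ 4 := by
    calc 16 = 2 ^ 4 := by norm_num
      _ ≤ (w + 1) ^ 4 := Nat.pow_le_pow_left (by omega) 4
  have h4 : (w + 1) ^ 4 * (5 * w) ≤ 8 * T * (5 * w) := by
    have e1 : (w + 1) ^ 4 * (5 * w) = 5 * ((w + 1) ^ 4 * w) := by ring
    have e2 : 8 * T * (5 * w) = 8 * (T * (5 * w)) := by ring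
    rw [e1, e2]
    omega
  exact Nat.le_of_mul_le_mul_right h4 (by omega)

theorem aux5b {u g T W : ℕ} (hu : 2 ≤ u) (hg : g ≤ 5) (hW : u ^ 4 ≤ W + 1) (h : T * g = W) : u ^ 4 ≤ 8 * T := by
  have h1 : T * g ≤ T * 5 := Nat.mul_le_mul_left _ hg
  have h3 : 16 ≤ u ^ 4 := by
    calc 16 = 2 ^ 4 := by norm_num
      _ ≤ u ^ 4 := Nat.pow_le_pow_left hu 4
  omega

theorem aux5c {u g T : ℕ} (hu : 2 ≤ u) (hg : g ≤ 5) (h : T * (g * (u + 1)) = u ^ 5 + 1) : u ^ 4 ≤ 8 * T := by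
  have h1 : T * (g * (u + 1)) ≤ T * (5 * (u + 1)) := Nat.mul_le_mul_left _ (Nat.mul_le_mul_right _ hg)
  have h2 : u ^ 5 = u ^ 4 * u := by ring
  have h3 : u ^ 4 * 2 ≤ u ^ 4 * u := Nat.mul_le_mul_left _ hu
  have h4 : u ^ 4 * (5 * (u + 1)) ≤ 8 * T * (5 * (u + 1)) := by
    have e1 : u ^ 4 * (5 * (u + 1)) = 5 * (u ^ 4 * u) + 5 * u ^ 4 := by ring
    have e2 : 8 * T * (5 * (u + 1)) = 8 * (T * (5 * (u + 1))) := by ring
    rw [e1, e2]
    omega
  exact Nat.le_of_mul_le_mul_right h4 (by omega)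

theorem u4_psl {m u i : ℕ} (hm : 5 ≤ m) (hu : 2 ≤ u) (hi : P1.top (.psl m) i) : u ^ 4 ≤ 8 * ttor (.psl m) u i := by
  rcases Nat.eq_or_lt_of_le hm with rfl | hm6
  · obtain ⟨h1, h2⟩ := val_psl (n := 5) (q := u) (by omega) hu
    have hg : Nat.gcd 5 (u - 1) ≤ 5 := Nat.gcd_le_left _ (by norm_num)
    obtain ⟨hi3, hi⟩ := hi
    rcases hi with rfl | hi
    · obtain ⟨w, rfl⟩ : ∃ w, u = w + 1 := ⟨u - 1, by omega⟩
      rw [Nat.add_sub_cancel] at h1 hg
      exact aux5a (by omega) hg h1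
    · obtain rfl : i = 5 - 1 := by omega
      exact aux5b hu hg (show u ^ 4 ≤ u ^ 4 - 1 + 1 by omega) h2
  · exact pow4_le_of_lowS hu (show 4 ≤ m by omega) hi (m := m) rfl hm6

theorem u4_psu {m u i : ℕ} (hm : 5 ≤ m) (hu : 2 ≤ u) (hi : P1.top (.psu m) i) : u ^ 4 ≤ 8 * ttor (.psu m) u i := by
  rcases Nat.eq_or_lt_of_le hm with rfl | hm6
  · obtain ⟨h1, h2⟩ := val_psu (n := 5) (q := u) (by omega) hu
    rw [if_neg (by norm_num)] at h1 h2
    have hg : Nat.gcd 5 (u + 1) ≤ 5 := Nat.gcd_le_left _ (by norm_num)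
    obtain ⟨hi3, hi⟩ := hi
    rcases hi with rfl | hi
    · exact aux5c hu hg h1
    · obtain rfl : i = 5 - 1 := by omega
      exact aux5b hu hg (show u ^ 4 ≤ u ^ 4 - 1 + 1 by omega) h2
  · exact pow4_le_of_lowS hu (show 4 ≤ m by omega) hi (m := m) rfl hm6

theorem cast_pred_dvd {u : ℕ} (hu : 2 ≤ u) : (((u - 1 : ℕ) : ℕ) : ℤ) ∣ (u : ℤ) ^ 2 - 1 := by
  have : ((u - 1 : ℕ) : ℤ) = (u : ℤ) - 1 := by push_cast [Nat.cast_sub (show 1 ≤ u by omega)]; ring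
  rw [this]
  exact ⟨u + 1, by ring⟩

theorem cast_succ_dvd {u : ℕ} : (((u + 1 : ℕ) : ℕ) : ℤ) ∣ (u : ℤ) ^ 2 - 1 := ⟨u - 1, by push_cast; ring⟩

namespace NTop

namespace Dat

variable {r z h T i : ℕ}

/-- `u - 1` or `u + 1` divides `d T` -/
theorem red (D : Dat t p f G K S t' v f' z h T i) (Y : NTop t p f L G K S t' v f' c c5 M r)
    (hT2 : T % 2 = 1) (hh2 : h % 2 = 1) (hr4 : 4 ≤ rk t') {d : ℕ} (hd : d ∣ 4)
    (hdv : v ^ f' - 1 ∣ T * d ∨ v ^ f' + 1 ∣ T * d) {j : ℕ} (hj : P1.top t' j) (hij : i ≠ j) : False := by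
  refine D.small_case Y hT2 hh2 hr4 (u_cases (u2 Y) ?_) hj hij
  rcases hdv with h1 | h1
  · exact Or.inl (D.dvd_four Y hT2 (cast_pred_dvd (u2 Y)) hd h1)
  · exact Or.inr (D.dvd_four Y hT2 cast_succ_dvd hd h1)

theorem fin_psl {m : ℕ} (D : Dat t p f G K S (.psl m) v f' z h T i)
    (Y : NTop t p f L G K S (.psl m) v f' c c5 M r) (hm : 4 ≤ m) : False := by
  have hu := u2 Y
  have h4 := Y.four (fun n h => by cases h) (fun n h => by cases h)
  obtain ⟨hT2, hh2⟩ := (D.T_mod Y).2 h4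
  obtain ⟨j, hj, hij⟩ : ∃ j, P1.top (.psl m) j ∧ i ≠ j := by
    obtain ⟨hi3, hi⟩ := D.top
    rcases hi with hi | hi
    · exact ⟨m - 1, ⟨by omega, by omega⟩, by omega⟩
    · exact ⟨m, ⟨by omega, by omega⟩, by omega⟩
  have hTe := D.T_eq
  rcases Nat.eq_or_lt_of_le hm with rfl | hm5
  · obtain ⟨h1, h2⟩ := val_psl (n := 4) (q := v ^ f') (by omega) hu
    obtain ⟨hi3, hi⟩ := D.top
    rcases hi with rfl | hi
    · rw [← hTe] at h1
      refine D.red Y hT2 hh2 (le_refl 4) (Nat.gcd_dvd_left 4 (v ^ f' - 1)) (Or.inr ?_) hj hij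
      generalize v ^ f' = u at *
      obtain ⟨w, rfl⟩ : ∃ w, u = w + 1 := ⟨u - 1, by omega⟩
      rw [Nat.add_sub_cancel] at *
      have h3 : T * Nat.gcd 4 w * w = (w + 1 + 1) * ((w + 1) ^ 2 + 1) * w := by
        have e1 : (w + 1) ^ 4 - 1 = (w + 1 + 1) * ((w + 1) ^ 2 + 1) * w := by
          have : (w + 1) ^ 4 = (w + 1 + 1) * ((w + 1) ^ 2 + 1) * w + 1 := by ring
          omega
        rw [← e1, ← h1]
        ring
      rw [Nat.eq_of_mul_eq_mul_right (by omega) h3]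
      exact dvd_mul_right _ _
    · obtain rfl : i = 4 - 1 := by omega
      rw [← hTe] at h2
      refine D.red Y hT2 hh2 (le_refl 4) (Nat.gcd_dvd_left 4 (v ^ f' - 1)) (Or.inl ?_) hj hij
      rw [h2]
      exact Nat.sub_one_dvd_pow_sub_one _ _
  · refine D.lin_case Y h4 hm ⟨m, Or.inl rfl⟩ hj hij ?_
    rw [hTe]
    exact u4_psl hm5 hu D.top

theorem fin_psu {m : ℕ} (D : Dat t p f G K S (.psu m) v f' z h T i)
    (Y : NTop t p f L G K S (.psu m) v f' c c5 M r) (hm : 4 ≤ m) : False := by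
  have hu := u2 Y
  have h4 := Y.four (fun n h => by cases h) (fun n h => by cases h)
  obtain ⟨hT2, hh2⟩ := (D.T_mod Y).2 h4
  obtain ⟨j, hj, hij⟩ : ∃ j, P1.top (.psu m) j ∧ i ≠ j := by
    obtain ⟨hi3, hi⟩ := D.top
    rcases hi with hi | hi
    · exact ⟨m - 1, ⟨by omega, by omega⟩, by omega⟩
    · exact ⟨m, ⟨by omega, by omega⟩, by omega⟩
  have hTe := D.T_eq
  rcases Nat.eq_or_lt_of_le hm with rfl | hm5
  · obtain ⟨h1, h2⟩ := val_psu (n := 4) (q := v ^ f') (by omega) hu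
    rw [if_pos (by norm_num)] at h1 h2
    obtain ⟨hi3, hi⟩ := D.top
    rcases hi with rfl | hi
    · rw [← hTe] at h1
      refine D.red Y hT2 hh2 (le_refl 4) (Nat.gcd_dvd_left 4 (v ^ f' + 1)) (Or.inl ?_) hj hij
      generalize v ^ f' = u at *
      obtain ⟨w, rfl⟩ : ∃ w, u = w + 1 := ⟨u - 1, by omega⟩
      rw [Nat.add_sub_cancel] at *
      have h3 : T * Nat.gcd 4 (w + 1 + 1) * (w + 1 + 1) = w * ((w + 1) ^ 2 + 1) * (w + 1 + 1) := by
        have e1 : (w + 1) ^ 4 - 1 = w * ((w + 1) ^ 2 + 1) * (w + 1 + 1) := by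
          have : (w + 1) ^ 4 = w * ((w + 1) ^ 2 + 1) * (w + 1 + 1) + 1 := by ring
          omega
        rw [← e1, ← h1]
        ring
      rw [Nat.eq_of_mul_eq_mul_right (by omega) h3]
      exact dvd_mul_right _ _
    · obtain rfl : i = 4 - 1 := by omega
      rw [← hTe] at h2
      refine D.red Y hT2 hh2 (le_refl 4) (Nat.gcd_dvd_left 4 (v ^ f' + 1)) (Or.inr ?_) hj hij
      rw [h2]
      simpa using Odd.nat_add_dvd_pow_add_pow (v ^ f') 1 (show Odd (4 - 1) by decide)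
  · refine D.lin_case Y h4 hm ⟨m, Or.inr rfl⟩ hj hij ?_
    rw [hTe]
    exact u4_psu hm5 hu D.top

theorem fin_psp {m : ℕ} (D : Dat t p f G K S t' v f' z h T i)
    (Y : NTop t p f L G K S t' v f' c c5 M r) (hm : 3 ≤ m) (ht : t' = .psp m ∨ t' = .oodd m) : False := by
  have hu := u2 Y
  have hF := Y.X.hF
  obtain ⟨h1, h2⟩ := val_psp (n := m) (q := v ^ f') (by omega) hu
  have htt : ∀ j, ttor t' (v ^ f') j = ttor (.psp m) (v ^ f') j := by
    rcases ht with rfl | rfl <;> exact fun j => rfl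
  have htop : P1.top t' (2 * m) := by rcases ht with rfl | rfl <;> exact Or.inl rfl
  have hi : i = 2 * m ∨ (i = m ∧ m % 2 = 1) := by
    have := D.top
    rcases ht with rfl | rfl <;> exact this
  have hTe := D.T_eq
  rw [htt] at hTe
  refine D.pm_case Y (k := m) (by omega) h1 h2 ?_
  rcases hi with rfl | ⟨rfl, -⟩
  · exact Or.inl ⟨hTe, exists_pred hF.prime hF.is ht hu (by omega) h2⟩
  · refine Or.inr ⟨hTe, ?_⟩
    rw [← htt]
    exact (top_facts_all hF.cla hF.prime hF.is).elt _ htop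

theorem fin_oplus {m : ℕ} (D : Dat t p f G K S (.oplus m) v f' z h T i)
    (Y : NTop t p f L G K S (.oplus m) v f' c c5 M r) (hm : 4 ≤ m) : False := by
  have hu := u2 Y
  have hF := Y.X.hF
  have hTe := D.T_eq
  have hi : (i = m ∧ m % 2 = 1) ∨ i = 2 * (m - 1) ∨ (i = m - 1 ∧ m % 2 = 0) := D.top
  rcases Nat.mod_two_eq_zero_or_one m with hm2 | hm2
  · obtain ⟨h1, h2⟩ := val_oplus_even (n := m) (q := v ^ f') hm hm2 hu
    refine D.pm_case Y (k := m - 1) (by omega) h1 h2 ?_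
    have hT := top_facts_all hF.cla hF.prime hF.is
    rcases hi with ⟨-, h3⟩ | rfl | ⟨rfl, -⟩
    · omega
    · exact Or.inl ⟨hTe, hT.elt _ (Or.inr (Or.inr ⟨rfl, hm2⟩))⟩
    · exact Or.inr ⟨hTe, hT.elt _ (Or.inr (Or.inl rfl))⟩
  · have h4 := Y.four (fun n h => by cases h) (fun n h => by cases h)
    obtain ⟨hT2, hh2⟩ := (D.T_mod Y).2 h4
    obtain ⟨h1, h2⟩ := val_oplus_odd (n := m) (q := v ^ f') (by omega) hm2 hu
    rcases hi with ⟨rfl, -⟩ | rfl | ⟨-, h3⟩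
    · rw [← hTe] at h1
      refine D.red Y hT2 hh2 hm (Nat.gcd_dvd_left 4 ((v ^ f') ^ i - 1)) (Or.inl ?_)
        (j := 2 * (i - 1)) (Or.inr (Or.inl rfl)) (by omega)
      rw [h1]
      exact Nat.sub_one_dvd_pow_sub_one _ _
    · rw [← hTe] at h2
      refine D.red Y hT2 hh2 hm (Nat.gcd_dvd_left 4 ((v ^ f') ^ m - 1)) (Or.inr ?_)
        (j := m) (Or.inl ⟨rfl, hm2⟩) (by omega)
      rw [h2]
      exact dvd_mul_left _ _
    · omega

theorem fin_ominus {m : ℕ} (D : Dat t p f G K S (.ominus m) v f' z h T i)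
    (Y : NTop t p f L G K S (.ominus m) v f' c c5 M r) (hm : 4 ≤ m) : False := by
  have hu := u2 Y
  have hF := Y.X.hF
  have hTe := D.T_eq
  have h4 := Y.four (fun n h => by cases h) (fun n h => by cases h)
  obtain ⟨hT2, hh2⟩ := (D.T_mod Y).2 h4
  have hi : i = 2 * m ∨ i = 2 * (m - 1) ∨ (i = m - 1 ∧ m % 2 = 0) := D.top
  obtain ⟨h1, h2, h3⟩ := val_ominus (n := m) (q := v ^ f') (by omega) hu
  rcases hi with rfl | rfl | ⟨rfl, -⟩
  · rcases Nat.mod_two_eq_zero_or_one m with hm2 | hm2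
    · obtain ⟨k, d, s, a, b, e, hS⟩ := snum hu (show 4 ≤ rk (.ominus m) from hm) D.top
        (j' := 2 * (m - 1)) (Or.inr (Or.inl rfl)) (by omega)
      have hrel : a * T = b * ttor (.ominus m) (v ^ f') (2 * (m - 1)) + e := by
        have := hS.eq
        rwa [← D.T_eq] at this
      have hcop := D.cop Y hT2 hS.rel hrel
      obtain ⟨e', he, hl⟩ := lin_ominus (n := m) (q := v ^ f') (by omega) hu
      have hl' := hl.eq
      rw [← hTe] at hl' h1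
      have hg : Nat.gcd 4 ((v ^ f') ^ m + 1) = 1 ∨ Nat.gcd 4 ((v ^ f') ^ m + 1) = 2 := by
        rcases gcd_four ((v ^ f') ^ m + 1) with h5 | h5 | h5
        · exact Or.inl h5
        · exact Or.inr h5.1
        · exfalso
          obtain ⟨-, h5⟩ := h5
          rcases Nat.mod_two_eq_zero_or_one (v ^ f') with h6 | h6
          · have : 2 ∣ (v ^ f') ^ m := dvd_pow (by omega) (by omega)
            omega
          · have := pow_mod_four_odd h6 hm2
            omega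
      have hcd : ((Nat.gcd 4 ((v ^ f') ^ m + 1) : ℕ) : ℤ) * |(-(e' : ℤ))| = (((v ^ f' : ℕ) : ℤ) - 1) ^ 2 := by
        rw [abs_neg, Nat.abs_cast, mul_comm]
        have : (((v ^ f' - 1 : ℕ) : ℕ) : ℤ) = ((v ^ f' : ℕ) : ℤ) - 1 := by
          rw [Nat.cast_sub (by omega : 1 ≤ v ^ f'), Nat.cast_one]
        rw [← this]
        exact_mod_cast he
      have hu4 : (v ^ f') ^ 4 < Nat.gcd 4 ((v ^ f') ^ m + 1) * T := by
        rw [mul_comm, h1]
        exact Nat.lt_succ_of_le (Nat.pow_le_pow_right (by omega) hm)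
      exact (D.nt Y).min (Y.q37 h4) hu (upTop Y (Or.inr (Or.inl rfl))) hcop hg hcd
        (by rw [sub_eq_add_neg]; exact hl') (pu1 Y) hu4 (D.h16 Y hh2)
    · rw [← hTe] at h1
      refine D.red Y hT2 hh2 hm (Nat.gcd_dvd_left 4 ((v ^ f') ^ m + 1)) (Or.inr ?_)
        (j := 2 * (m - 1)) (Or.inr (Or.inl rfl)) (by omega)
      rw [h1]
      simpa using Odd.nat_add_dvd_pow_add_pow (v ^ f') 1 (Nat.odd_iff.2 hm2)
  · rw [← hTe] at h2
    refine D.red Y hT2 hh2 hm (Nat.gcd_dvd_left 4 ((v ^ f') ^ m + 1)) (Or.inl ?_)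
      (j := 2 * m) (Or.inl rfl) (by omega)
    rw [h2]
    exact dvd_mul_left _ _
  · rw [← hTe] at h3
    refine D.red Y hT2 hh2 hm (Nat.gcd_dvd_left 4 ((v ^ f') ^ m + 1)) (Or.inr ?_)
      (j := 2 * m) (Or.inl rfl) (by omega)
    rw [h3]
    exact dvd_mul_left _ _

theorem fin (D : Dat t p f G K S t' v f' z h T i) (Y : NTop t p f L G K S t' v f' c c5 M r) : False := by
  have hF := Y.X.hF
  obtain ⟨k1, k2, k3, k4, k5⟩ := rk_of_bigS hF Y.hS
  have hc := hF.cla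
  cases t' with
  | psl m => exact D.fin_psl Y (k3 ⟨m, Or.inl rfl⟩)
  | psu m => exact D.fin_psu Y (k3 ⟨m, Or.inr rfl⟩)
  | psp m => exact D.fin_psp Y k1 (Or.inl rfl)
  | oodd m => exact D.fin_psp Y k1 (Or.inr rfl)
  | oplus m => exact D.fin_oplus Y (k2 rfl)
  | ominus m => exact D.fin_ominus Y (k2 rfl)
  | _ => exact hc.elim

end Dat

end NTop

/-- **Packet N6-NT.** A prime of `M` is not adjacent in `S` to the characteristic of `S`. -/
theorem Ctx.no_nontop (X : Ctx t p f L G K S t' v f' c c5 M) (hS : BigS t') {r : ℕ} (hr : r.Prime) (hrM : r ∣ M)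
    (hadj : ∃ g : S, orderOf g = v * r) : False := by
  have Y : NTop t p f L G K S t' v f' c c5 M r := ⟨X, hS, hr, hrM, hadj⟩
  obtain ⟨z, h, T, i, D⟩ := Y.exists_dat
  exact D.fin Y

end Cfsg.Agent.R2.Spec.X7.N6
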