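import Cfsg.Agent.R2.Spec.P1.TopSp
import Cfsg.Agent.H376.SpEmb
import Cfsg.Agent.R2.Spec.X5.TorB

/-!
# S3435, box X7, `n = 6`, packet N6-S (helper8): the element orders of `PSp₄(u)`

* `psp4_up` : an odd element order divides `u² + 1`, `u² - 1`, `v (u + 1)` or `v (u - 1)`;
* `psp4_elt` : elements of order `(u² ± 1) / c`, `v (u ± 1) / c`, `c ∣ 2`.
-/

set_option autoImplicit false
set_option linter.unusedSectionVars false
set_option maxHeartbeats 400000

namespace Cfsg.Agent.R2.Spec.X7.N6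

open Module Polynomial Cfsg Cfsg.Agent.R2.Spec.P1 Cfsg.Agent.R2.Spec.P1.Eig
open Cfsg.Agent.H160.QRoots Cfsg.Agent.H160.QChar

section eig

variable {K : Type*} [Field K] [DecidableEq K] {q : ℕ}

theorem one_of_odd {x : K} {m : ℕ} (hm : Odd m) (hx : x ^ m = 1) (h : x = x⁻¹) (h0 : x ≠ 0) : x = 1 := by
  have h1 : x * x = 1 := by
    conv_lhs => rw [h]
    rw [← h]
    nth_rewrite 2 [h]
    exact mul_inv_cancel₀ h0
  obtain ⟨k, rfl⟩ := hm
  rw [pow_succ, pow_mul, sq, h1, one_pow, one_mul] at hx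
  exact hx

theorem orb_one {x y : K} (hy : y ∈ orb q x 1) : y = x ∨ y = x⁻¹ := by
  obtain ⟨i, hi, h⟩ := mem_orb.1 hy
  have : i = 0 := by omega
  subst this
  simpa using h

theorem pow_sub_one {x : K} (h0 : x ≠ 0) {n : ℕ} (hn : 1 ≤ n) (h : x ^ n = x) : x ^ (n - 1) = 1 := by
  obtain ⟨k, rfl⟩ : ∃ k, n = k + 1 := ⟨n - 1, by omega⟩
  rw [pow_succ] at h
  rw [Nat.add_sub_cancel]
  exact mul_right_cancel₀ h0 (h.trans (one_mul x).symm)

theorem pow_add_one {x : K} (h0 : x ≠ 0) {n : ℕ} (h : x ^ n = x⁻¹) : x ^ (n + 1) = 1 := by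
  rw [pow_succ, h, inv_mul_cancel₀ h0]

theorem pow_sq_sub_one {x : K} (h0 : x ≠ 0) (hq : 1 ≤ q) (h : x ^ q = x ∨ x ^ q = x⁻¹) : x ^ (q ^ 2 - 1) = 1 := by
  apply pow_sub_one h0 (Nat.one_le_pow _ _ hq)
  rw [sq, pow_mul]
  rcases h with h | h
  · rw [h, h]
  · rw [h, inv_pow, h, inv_inv]

/-- the eigenvalues of an element of odd order of `Sp₄(q)` -/
theorem four_cases (hq : Function.Injective (fun x : K => x ^ q)) (hq1 : 1 ≤ q) {R : Multiset K} (h : ED q R)
    (hc : R.card = 4) {m : ℕ} (hm : Odd m) (hR : ∀ x ∈ R, x ^ m = 1) :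
    (∀ x ∈ R, x ^ (q ^ 2 + 1) = 1 ∧ R.count x = 1) ∨ (∀ x ∈ R, x ^ (q ^ 2 - 1) = 1 ∧ R.count x = 1) ∨
      (∀ x ∈ R, x ^ (q + 1) = 1) ∨ (∀ x ∈ R, x ^ (q - 1) = 1) := by
  by_cases hall : ∀ x ∈ R, x = 1
  · right; right; right
    intro x hx
    rw [hall x hx, one_pow]
  push Not at hall
  obtain ⟨x, hx, hx1⟩ := hall
  have hx0 := h.ne0 x hx
  have hxi : x ≠ x⁻¹ := fun h1 => hx1 (one_of_odd hm (hR x hx) h1 hx0)
  obtain ⟨d, hd⟩ := exists_isMin hq (h.toInv hq) (Multiset.mem_filter.2 ⟨hx, hxi⟩)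
  obtain ⟨R', hRR, hR', hcc⟩ := h.peel hq hd
  have hcx : 1 ≤ R.count x := Multiset.one_le_count_iff_mem.2 hx
  have hd1 := hd.pos
  rw [hc] at hcc
  have hcases : (R.count x = 1 ∧ d = 2 ∧ R'.card = 0) ∨ (R.count x = 2 ∧ d = 1 ∧ R'.card = 0) ∨
      (R.count x = 1 ∧ d = 1 ∧ R'.card = 2) := by
    have h1 : R.count x * (2 * d) ≤ 4 := by omega
    have h2 : R.count x ≤ 2 := by
      by_contra hcon
      have : 3 * (2 * 1) ≤ R.count x * (2 * d) := Nat.mul_le_mul (by omega) (by omega)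
      omega
    have h3 : d ≤ 2 := by
      by_contra hcon
      have : 1 * (2 * 3) ≤ R.count x * (2 * d) := Nat.mul_le_mul (by omega) (by omega)
      omega
    generalize R.count x = e at hcc hcx h1 h2 ⊢
    interval_cases e <;> interval_cases d <;> omega
  rcases hcases with ⟨hce, rfl, hc0⟩ | ⟨hce, rfl, hc0⟩ | ⟨hce, rfl, hc2⟩
  · -- one orbit of length 4
    have h0 : R' = 0 := Multiset.card_eq_zero.1 hc0
    rw [hce, one_smul, h0, add_zero] at hRR
    have hmem : ∀ y ∈ R, R.count y = 1 ∧ (y = x ∨ y = x⁻¹ ∨ y = x ^ q ∨ y = (x ^ q)⁻¹) := by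
      intro y hy
      have hyo : y ∈ orb q x 2 := by rw [hRR] at hy; exact hy
      refine ⟨by rw [h.count_orb hyo, hce], ?_⟩
      obtain ⟨i, hi, h1⟩ := mem_orb.1 hyo
      have : i = 0 ∨ i = 1 := by omega
      rcases this with rfl | rfl
      · rw [pow_zero, pow_one] at h1
        tauto
      · rw [pow_one] at h1
        tauto
    rcases hd.eq with h1 | h1
    · right; left
      intro y hy
      obtain ⟨h2, h3⟩ := hmem y hy
      refine ⟨?_, h2⟩
      have h4 : x ^ (q ^ 2 - 1) = 1 := pow_sub_one hx0 (Nat.one_le_pow _ _ hq1) h1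
      rcases h3 with rfl | rfl | rfl | rfl
      · exact h4
      · rw [inv_pow, h4, inv_one]
      · rw [← pow_mul, mul_comm, pow_mul, h4, one_pow]
      · rw [inv_pow, ← pow_mul, mul_comm, pow_mul, h4, one_pow, inv_one]
    · left
      intro y hy
      obtain ⟨h2, h3⟩ := hmem y hy
      refine ⟨?_, h2⟩
      have h4 : x ^ (q ^ 2 + 1) = 1 := pow_add_one hx0 h1
      rcases h3 with rfl | rfl | rfl | rfl
      · exact h4
      · rw [inv_pow, h4, inv_one]
      · rw [← pow_mul, mul_comm, pow_mul, h4, one_pow]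
      · rw [inv_pow, ← pow_mul, mul_comm, pow_mul, h4, one_pow, inv_one]
  · -- two equal pairs
    have h0 : R' = 0 := Multiset.card_eq_zero.1 hc0
    rw [hce, h0, add_zero] at hRR
    have hmem : ∀ y ∈ R, y = x ∨ y = x⁻¹ := by
      intro y hy
      rw [hRR, two_nsmul, Multiset.mem_add, or_self] at hy
      exact orb_one hy
    right; right
    have h1 := hd.eq
    rw [pow_one] at h1
    rcases h1 with h1 | h1
    · right
      intro y hy
      have h4 := pow_sub_one hx0 hq1 h1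
      rcases hmem y hy with rfl | rfl
      · exact h4
      · rw [inv_pow, h4, inv_one]
    · left
      intro y hy
      have h4 := pow_add_one hx0 h1
      rcases hmem y hy with rfl | rfl
      · exact h4
      · rw [inv_pow, h4, inv_one]
  · rw [hce, one_smul] at hRR
    have h1 := hd.eq
    rw [pow_one] at h1
    by_cases hall' : ∀ y ∈ R', y = 1
    · right; right
      have hmem : ∀ y ∈ R, y = x ∨ y = x⁻¹ ∨ y = 1 := by
        intro y hy
        rw [hRR, Multiset.mem_add] at hy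
        rcases hy with hy | hy
        · rcases orb_one hy with h2 | h2
          · exact Or.inl h2
          · exact Or.inr (Or.inl h2)
        · exact Or.inr (Or.inr (hall' y hy))
      rcases h1 with h1 | h1
      · right
        intro y hy
        have h4 := pow_sub_one hx0 hq1 h1
        rcases hmem y hy with rfl | rfl | rfl
        · exact h4
        · rw [inv_pow, h4, inv_one]
        · rw [one_pow]
      · left
        intro y hy
        have h4 := pow_add_one hx0 h1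
        rcases hmem y hy with rfl | rfl | rfl
        · exact h4
        · rw [inv_pow, h4, inv_one]
        · rw [one_pow]
    push Not at hall'
    obtain ⟨z, hz, hz1⟩ := hall'
    have hzR : z ∈ R := by rw [hRR, Multiset.mem_add]; exact Or.inr hz
    have hz0 := h.ne0 z hzR
    have hzi : z ≠ z⁻¹ := fun h1 => hz1 (one_of_odd hm (hR z hzR) h1 hz0)
    obtain ⟨d', hd'⟩ := exists_isMin hq (hR'.toInv hq) (Multiset.mem_filter.2 ⟨hz, hzi⟩)
    obtain ⟨R'', hRR', hR'', hcc'⟩ := hR'.peel hq hd'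
    have hcz : 1 ≤ R'.count z := Multiset.one_le_count_iff_mem.2 hz
    have hd1' := hd'.pos
    rw [hc2] at hcc'
    have hcases' : R'.count z = 1 ∧ d' = 1 ∧ R''.card = 0 := by
      have h1 : R'.count z * (2 * d') ≤ 2 := by omega
      have h2 : R'.count z ≤ 1 := by
        by_contra hcon
        have : 2 * (2 * 1) ≤ R'.count z * (2 * d') := Nat.mul_le_mul (by omega) (by omega)
        omega
      have h3 : d' ≤ 1 := by
        by_contra hcon
        have : 1 * (2 * 2) ≤ R'.count z * (2 * d') := Nat.mul_le_mul (by omega) (by omega)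
        omega
      have h4 : R'.count z = 1 := by omega
      have h5 : d' = 1 := by omega
      rw [h4, h5] at hcc'
      exact ⟨h4, h5, by omega⟩
    obtain ⟨hce', rfl, hc0⟩ := hcases'
    have h0 : R'' = 0 := Multiset.card_eq_zero.1 hc0
    rw [hce', one_smul, h0, add_zero] at hRR'
    have h2 := hd'.eq
    rw [pow_one] at h2
    have hzx : z ∉ orb q x 1 := by
      intro h3
      have h4 := h.count_orb h3
      rw [hce] at h4
      have h5 : R.count z = (orb q x 1).val.count z + R'.count z := by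
        conv_lhs => rw [hRR]
        rw [Multiset.count_add]
      have h6 : 1 ≤ (orb q x 1).val.count z := Multiset.one_le_count_iff_mem.2 h3
      omega
    have hczR : R.count z = 1 := by
      have h5 : R.count z = (orb q x 1).val.count z + R'.count z := by
        conv_lhs => rw [hRR]
        rw [Multiset.count_add]
      rw [Multiset.count_eq_zero_of_notMem (s := (orb q x 1).val) hzx, hce', zero_add] at h5
      exact h5
    right; left
    intro y hy
    have hy' := hy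
    rw [hRR, Multiset.mem_add] at hy'
    rcases hy' with hy' | hy'
    · refine ⟨?_, by rw [h.count_orb (show y ∈ orb q x 1 from hy'), hce]⟩
      have h4 := pow_sq_sub_one hx0 hq1 h1
      rcases orb_one hy' with rfl | rfl
      · exact h4
      · rw [inv_pow, h4, inv_one]
    · rw [hRR'] at hy'
      refine ⟨?_, by rw [h.count_orb (show y ∈ orb q z 1 from hy'), hczR]⟩
      have h4 := pow_sq_sub_one hz0 hq1 h2
      rcases orb_one hy' with rfl | rfl
      · exact h4
      · rw [inv_pow, h4, inv_one]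

end eig

section scal

variable {F : Type*} [Field F] {V : Type*} [AddCommGroup V] [Module F V] [FiniteDimensional F V]

theorem scal_of_count {p : ℕ} [Fact p.Prime] [CharP F p] [DecidableEq (AlgebraicClosure F)] {f : Module.End F V}
    {T j : ℕ} {z : AlgebraicClosure F} (h : ∀ x ∈ rts f, x ^ T = z) (hm : ∀ x ∈ rts f, (rts f).count x ≤ p ^ j)
    (hN : 1 ≤ finrank F V) : ∃ c : F, f ^ (T * p ^ j) = c • (1 : Module.End F V) := by
  have : CharP (AlgebraicClosure F) p := charP_of_injective_algebraMap (algebraMap F (AlgebraicClosure F)).injective p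
  let b := finBasis F V
  set M := LinearMap.toMatrix b b f with hM
  have h1 : (M.map (algebraMap F (AlgebraicClosure F))).charpoly.roots = rts f := by
    rw [Matrix.charpoly_map, hM, LinearMap.charpoly_toMatrix]
    rfl
  have h2 := Cfsg.Agent.H437.Win.pow_scalar (M.map (algebraMap F (AlgebraicClosure F))) (p := p) (k := T)
    (s := j) (z := z) (by rw [h1]; exact h) (by
      intro x hx
      rw [h1] at hx ⊢
      exact hm x hx)
  obtain ⟨c, hc⟩ := Cfsg.Agent.H437.Win.scalar_of_map M hN h2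
  refine ⟨c, ?_⟩
  have h3 : LinearMap.toMatrix b b (f ^ (T * p ^ j)) = LinearMap.toMatrix b b (c • (1 : Module.End F V)) := by
    rw [← LinearMap.toMatrix_pow, ← hM, hc, map_smul]
    congr 1
    exact (LinearMap.toMatrix_one b).symm
  exact (LinearMap.toMatrix b b).injective h3

end scal

section psp

theorem exists_lift_odd {F : Type*} [Field F] {n m : ℕ} (hm : Odd m) {y : PSp n F} (hy : y ^ m = 1) :
    ∃ A : Matrix.symplecticGroup (Fin n) F, A ^ m = 1 ∧ QuotientGroup.mk A = y := by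
  obtain ⟨B, rfl⟩ := QuotientGroup.mk_surjective y
  have h1 : B ^ m ∈ Subgroup.center (Matrix.symplecticGroup (Fin n) F) := by
    rw [← QuotientGroup.eq_one_iff, QuotientGroup.mk_pow]; exact hy
  have h2 := Cfsg.Agent.H376.SpEmb.center_pow _ h1
  refine ⟨B ^ (m + 1), ?_, ?_⟩
  · obtain ⟨k, hk⟩ := hm
    rw [← pow_mul, show (m + 1) * m = m * 2 * (k + 1) by rw [hk]; ring, pow_mul, pow_mul, h2, one_pow]
  · rw [QuotientGroup.mk_pow, pow_succ, hy, one_mul]

/-- **Upper bounds for the odd element orders of `PSp₄(u)`.** -/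
theorem psp4_up {F : Type*} [Field F] [Fintype F] {v : ℕ} [hv : Fact v.Prime] [CharP F v] {y : PSp 2 F}
    (hodd : Odd (orderOf y)) (h5 : v ∣ orderOf y → 5 ≤ v) :
    orderOf y ∣ Fintype.card F ^ 2 + 1 ∨ orderOf y ∣ Fintype.card F ^ 2 - 1 ∨
      orderOf y ∣ (Fintype.card F + 1) * v ∨ orderOf y ∣ (Fintype.card F - 1) * v := by
  classical
  obtain ⟨A, hAm, hAy⟩ := exists_lift_odd hodd (pow_orderOf_eq_one y)
  obtain ⟨m, hmd⟩ : ∃ m, m = orderOf y := ⟨_, rfl⟩
  rw [← hmd] at hodd h5 hAm ⊢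
  have hinj := frob_inj F
  set M : Matrix (Fin 2 ⊕ Fin 2) (Fin 2 ⊕ Fin 2) F := (A : Matrix (Fin 2 ⊕ Fin 2) (Fin 2 ⊕ Fin 2) F) with hM
  set g : Module.End F (Fin 2 ⊕ Fin 2 → F) := Matrix.toLin' M with hg
  have hfin : finrank F (Fin 2 ⊕ Fin 2 → F) = 4 := by
    rw [Module.finrank_fintype_fun_eq_card]; simp
  have hroots : (M.map (algebraMap F (AlgebraicClosure F))).charpoly.roots = rts g := by
    rw [Matrix.charpoly_map, rts, hg, Matrix.charpoly_toLin']
  have hJM : Matrix.transpose M * Matrix.J (Fin 2) F * M = Matrix.J (Fin 2) F := SymplecticGroup.mem_iff'.1 A.2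
  have hinv : rts g = (rts g).map (fun x => x⁻¹) := by
    rw [← hroots]
    refine roots_inv (M := M.map (algebraMap F (AlgebraicClosure F)))
      (G := (Matrix.J (Fin 2) F).map (algebraMap F (AlgebraicClosure F))) ?_ ?_ (IsAlgClosed.splits _)
    · have h4 : ((Matrix.J (Fin 2) F).map (algebraMap F (AlgebraicClosure F))).det =
          algebraMap F (AlgebraicClosure F) (Matrix.J (Fin 2) F).det := by
        rw [RingHom.map_det]; rfl
      rw [h4]
      exact (_root_.map_ne_zero _).2 (Matrix.isUnit_det_J (Fin 2) F).ne_zero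
    · have h5 := congrArg (fun A : Matrix _ _ F => A.map (algebraMap F (AlgebraicClosure F))) hJM
      simp only [Matrix.map_mul] at h5
      exact h5
  have hdetM : M.det = 1 := SymplecticGroup.det_eq_one A.2
  have hprod : (rts g).prod = 1 := prod_rts (by rw [hg, LinearMap.det_toLin', hdetM])
  have hED : ED (Fintype.card F) (rts g) := by
    refine ⟨fun x => ?_, fun x => ?_, ?_⟩
    · have := count_frob g x
      convert this using 2
    · conv_lhs => rw [hinv]
      exact Multiset.count_map_eq_count' _ _ inv_injective _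
    · rintro x hx rfl
      rw [Multiset.prod_eq_zero hx] at hprod
      exact zero_ne_one hprod
  have hcard := card_rts g
  rw [hfin] at hcard
  have hgm : g ^ m = 1 := by
    rw [hg, ← Matrix.toLin'_pow]
    have h4 : M ^ m = 1 := congrArg Subtype.val hAm
    rw [h4, Matrix.toLin'_one]
    rfl
  have key : ∀ {T j : ℕ} {z : AlgebraicClosure F}, (∀ x ∈ rts g, x ^ T = z) →
      (∀ x ∈ rts g, (rts g).count x ≤ v ^ j) → m ∣ T * v ^ j := by
    intro T j z h1 h2
    obtain ⟨c, hc⟩ := scal_of_count h1 h2 (by omega)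
    rw [hmd]
    apply orderOf_dvd_of_pow_eq_one
    rw [← hAy, ← QuotientGroup.mk_pow, QuotientGroup.eq_one_iff, Subgroup.mem_center_iff]
    intro B
    apply Subtype.ext
    have h7 : M ^ (T * v ^ j) = c • 1 := by
      apply (Matrix.toLin' (R := F)).injective
      rw [Matrix.toLin'_pow, ← hg, hc, map_smul, Matrix.toLin'_one]
      rfl
    show (B : Matrix (Fin 2 ⊕ Fin 2) (Fin 2 ⊕ Fin 2) F) * M ^ (T * v ^ j) =
      M ^ (T * v ^ j) * (B : Matrix (Fin 2 ⊕ Fin 2) (Fin 2 ⊕ Fin 2) F)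
    rw [h7, Matrix.mul_smul, Matrix.smul_mul, Matrix.mul_one, Matrix.one_mul]
  have hle : ∀ x, (rts g).count x ≤ 4 := fun x => (Multiset.count_le_card _ _).trans hcard.le
  have hbig : ∀ {T : ℕ}, (∀ x ∈ rts g, x ^ T = 1) → m ∣ T * v := by
    intro T h1
    by_cases hvm : v ∣ m
    · have := key (j := 1) h1 (fun x _ => (hle x).trans (by rw [pow_one]; have := h5 hvm; omega))
      rwa [pow_one] at this
    · have h2 := key (j := 4) h1 (fun x _ => (hle x).trans (Nat.lt_pow_self hv.out.one_lt).le)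
      have h3 : Nat.Coprime m (v ^ 4) :=
        Nat.Coprime.pow_right _ (Nat.coprime_comm.1 ((Nat.Prime.coprime_iff_not_dvd hv.out).2 hvm))
      exact (h3.dvd_of_dvd_mul_right h2).mul_right v
  have hone : ∀ {T : ℕ}, (∀ x ∈ rts g, x ^ T = 1 ∧ (rts g).count x = 1) → m ∣ T := by
    intro T h1
    have := key (T := T) (j := 0) (z := 1) (fun x hx => (h1 x hx).1) (fun x hx => by rw [(h1 x hx).2, pow_zero])
    rwa [pow_zero, mul_one] at this
  rcases four_cases hinj Fintype.card_pos hED hcard hodd (fun x hx => pow_of_rts hgm hx) with h1 | h1 | h1 | h1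
  · exact Or.inl (hone h1)
  · exact Or.inr (Or.inl (hone h1))
  · exact Or.inr (Or.inr (Or.inl (hbig h1)))
  · exact Or.inr (Or.inr (Or.inr (hbig h1)))

end psp

section elts

open Cfsg.Agent.H426.LieFam

theorem half_order {G : Type*} [Group G] {x : G} {c K : ℕ} (hc : c ∣ 2) (h : orderOf x * c = 2 * K) (hK : 0 < K) :
    ∃ y : G, orderOf y = K := by
  rcases (Nat.dvd_prime Nat.prime_two).1 hc with rfl | rfl
  · rw [mul_one] at h
    refine ⟨x ^ 2, ?_⟩
    rw [orderOf_pow_of_dvd (by norm_num) (by rw [h]; exact dvd_mul_right _ _), h]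
    omega
  · exact ⟨x, by omega⟩

theorem same_order {G : Type*} [Group G] {x : G} {c K : ℕ} (hc : c ∣ 2) (h : orderOf x * c = K) (hK : K % 2 = 1) :
    ∃ y : G, orderOf y = K := by
  rcases (Nat.dvd_prime Nat.prime_two).1 hc with rfl | rfl
  · exact ⟨x, by omega⟩
  · omega

theorem sp_one_char {F : Type*} [Field F] [Fintype F] {v f : ℕ} [Fact v.Prime] (hF : Fintype.card F = v ^ f) (hf : f ≠ 0) :
    ∃ A : Matrix.symplecticGroup (Fin 1) F, orderOf A = v := by
  have h1 := Cfsg.Agent.S0245.result (F := F) rfl 1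
  have hfin : Finite (Matrix.symplecticGroup (Fin 1) F) := inferInstance
  apply exists_prime_orderOf_dvd_card' v
  rw [h1, hF, one_pow, pow_one]
  exact (dvd_pow_self v hf).mul_right _

/-- the element orders of `PSp₄(u)` -/
structure P4F (S : Type*) [Group S] (v u g : ℕ) : Prop where
  hg : (g = 1 ∧ u % 2 = 0) ∨ (g = 2 ∧ u % 2 = 1)
  plus : ∃ T, g * T = u ^ 2 + 1 ∧ ∃ x : S, orderOf x = T
  minus : ∃ T, g * T + 1 = u ^ 2 ∧ ∃ x : S, orderOf x = T
  vplus : v ≠ 2 → ∃ E, 2 * E = v * (u + 1) ∧ ∃ x : S, orderOf x = E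
  vminus : v ≠ 2 → ∃ E, 2 * E + v = v * u ∧ ∃ x : S, orderOf x = E
  up : ∀ x : S, Odd (orderOf x) → (v ∣ orderOf x → 5 ≤ v) → orderOf x ∣ u ^ 2 + 1 ∨ orderOf x ∣ u ^ 2 - 1 ∨
    orderOf x ∣ (u + 1) * v ∨ orderOf x ∣ (u - 1) * v
  card : ∀ r : ℕ, r.Prime → r ∣ Nat.card S → r = v ∨ r ∣ u ^ 2 + 1 ∨ r ∣ u ^ 2 - 1

theorem p4f {v f : ℕ} {S : Type*} [Group S] (hv : v.Prime) (hI : Fam.Is v f S (.psp 2)) :
    P4F S v (v ^ f) (Nat.gcd 2 (v ^ f - 1)) := by
  obtain ⟨-, h3, F, _, _, hch, hF, ⟨e⟩⟩ := hI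
  have := Fact.mk hv
  have hu3 := h3 rfl
  have hf : f ≠ 0 := by
    rintro rfl
    rw [pow_zero] at hu3
    omega
  have hvu : v ∣ v ^ f := dvd_pow_self v hf
  have hcardS : Nat.card S = Nat.card (PSp 2 F) := Nat.card_congr e.toEquiv
  set u := v ^ f with hu
  have exS : ∀ {n : ℕ}, (∃ y : PSp 2 F, orderOf y = n) → ∃ x : S, orderOf x = n := by
    rintro n ⟨y, hy⟩
    exact ⟨e.symm y, by rw [MulEquiv.orderOf_eq]; exact hy⟩
  have hgc : (Nat.gcd 2 (u - 1) = 1 ∧ u % 2 = 0) ∨ (Nat.gcd 2 (u - 1) = 2 ∧ u % 2 = 1) := by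
    rcases (Nat.dvd_prime Nat.prime_two).1 (Nat.gcd_dvd_left 2 (u - 1)) with h | h
    · left
      refine ⟨h, ?_⟩
      by_contra hcon
      have : 2 ∣ Nat.gcd 2 (u - 1) := Nat.dvd_gcd dvd_rfl (by omega)
      rw [h] at this
      omega
    · right
      refine ⟨h, ?_⟩
      have : 2 ∣ u - 1 := by rw [← h]; exact Nat.gcd_dvd_right 2 (u - 1)
      omega
  have hcF : Nat.card F = u := by rw [Nat.card_eq_fintype_card, hF]
  have hsq : u ^ 2 % 2 = u % 2 := by
    rcases Nat.mod_two_eq_zero_or_one u with h | h <;> rw [Nat.pow_mod, h]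
  have hu2 : 9 ≤ u ^ 2 := by nlinarith
  -- the tori
  obtain ⟨A, hA⟩ := Cfsg.Agent.H376.SpEmb.exists_plus F 2 (by norm_num)
  obtain ⟨B, hB⟩ := Cfsg.Agent.H376.SpEmb.exists_minus F 2 (by norm_num)
  obtain ⟨a, ca, hca, ha⟩ := Cfsg.Agent.R2.Spec.X5.psp_of_sp hA
  obtain ⟨b, cb, hcb, hb⟩ := Cfsg.Agent.R2.Spec.X5.psp_of_sp hB
  rw [hcF] at ha hb
  obtain ⟨U, hU⟩ := sp_one_char hF hf
  obtain ⟨P, hP⟩ := Cfsg.Agent.H376.SpEmb.exists_plus F 1 (by norm_num)
  obtain ⟨N, hN⟩ := Cfsg.Agent.H376.SpEmb.exists_minus F 1 (by norm_num)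
  rw [hcF, pow_one] at hP hN
  obtain ⟨C, hC⟩ := Cfsg.Agent.H376.SpEmb.exists_block (n := 2) (by norm_num) U hU P hP
  obtain ⟨D, hD⟩ := Cfsg.Agent.H376.SpEmb.exists_block (n := 2) (by norm_num) U hU N hN
  obtain ⟨c, cc, hcc, hc⟩ := Cfsg.Agent.R2.Spec.X5.psp_of_sp hC
  obtain ⟨d, cd, hcd, hd⟩ := Cfsg.Agent.R2.Spec.X5.psp_of_sp hD
  have hnp : ¬ v ∣ u + 1 := by
    intro h1
    have h2 := (Nat.dvd_add_right hvu).1 h1
    exact hv.one_lt.ne' (Nat.dvd_one.1 h2)
  have hnm : ¬ v ∣ u - 1 := by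
    intro h1
    have h3 := Nat.dvd_sub hvu h1
    rw [show u - (u - 1) = 1 by omega] at h3
    exact hv.one_lt.ne' (Nat.dvd_one.1 h3)
  rw [((Nat.Prime.coprime_iff_not_dvd hv).2 hnp).lcm_eq_mul] at hc
  rw [((Nat.Prime.coprime_iff_not_dvd hv).2 hnm).lcm_eq_mul] at hd
  refine ⟨hgc, ?_, ?_, ?_, ?_, ?_, ?_⟩
  · rcases hgc with ⟨h1, h2⟩ | ⟨h1, h2⟩
    · exact ⟨u ^ 2 + 1, by rw [h1, one_mul], exS (same_order hca ha (by omega))⟩
    · refine ⟨(u ^ 2 + 1) / 2, by rw [h1]; omega, exS (half_order hca (K := (u ^ 2 + 1) / 2) (by rw [ha]; omega) (by omega))⟩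
  · rcases hgc with ⟨h1, h2⟩ | ⟨h1, h2⟩
    · exact ⟨u ^ 2 - 1, by rw [h1, one_mul]; omega, exS (same_order hcb hb (by omega))⟩
    · refine ⟨(u ^ 2 - 1) / 2, by rw [h1]; omega, exS (half_order hcb (K := (u ^ 2 - 1) / 2) (by rw [hb]; omega) (by omega))⟩
  · intro hv2
    have hodd : u % 2 = 1 := Nat.odd_iff.1 ((hv.odd_of_ne_two hv2).pow)
    obtain ⟨k, hk⟩ : ∃ k, u + 1 = 2 * k := ⟨(u + 1) / 2, by omega⟩
    refine ⟨v * k, by rw [hk]; ring, exS (half_order hcc (K := v * k) (by rw [hc, hk]; ring) (Nat.mul_pos hv.pos (by omega)))⟩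
  · intro hv2
    have hodd : u % 2 = 1 := Nat.odd_iff.1 ((hv.odd_of_ne_two hv2).pow)
    obtain ⟨k, hk⟩ : ∃ k, u - 1 = 2 * k := ⟨(u - 1) / 2, by omega⟩
    refine ⟨v * k, by rw [show u = 2 * k + 1 by omega]; ring,
      exS (half_order hcd (K := v * k) (by rw [hd, hk]; ring) (Nat.mul_pos hv.pos (by omega)))⟩
  · intro x h1 h2
    have h4 := psp4_up (v := v) (y := e x) (by rw [MulEquiv.orderOf_eq]; exact h1) (by rw [MulEquiv.orderOf_eq]; exact h2)
    rw [MulEquiv.orderOf_eq, hF] at h4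
    exact h4
  · intro r hr hrS
    rw [hcardS] at hrS
    have h1 := Cfsg.Agent.S0245.result (F := F) rfl 2
    have h2 := Subgroup.card_eq_card_quotient_mul_card_subgroup
      (Subgroup.center (Matrix.symplecticGroup (Fin 2) F))
    have h3' : r ∣ Nat.card (Matrix.symplecticGroup (Fin 2) F) := by
      rw [h2]
      exact hrS.mul_right _
    rw [h1, hF, Finset.prod_range_succ, Finset.prod_range_succ, Finset.prod_range_zero, one_mul] at h3'
    rcases hr.dvd_mul.1 h3' with h4 | h4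
    · left
      have h5 := hr.dvd_of_dvd_pow h4
      rw [hu] at h5
      exact (Nat.prime_dvd_prime_iff_eq hr hv).1 (hr.dvd_of_dvd_pow h5)
    · right
      rcases hr.dvd_mul.1 h4 with h5 | h5
      · exact Or.inr h5
      · have h6 : u ^ (2 * (1 + 1)) - 1 = (u ^ 2 + 1) * (u ^ 2 - 1) := by
          rw [show u ^ (2 * (1 + 1)) = (u ^ 2) ^ 2 by ring, ← Nat.sq_sub_sq, one_pow]
        rw [h6] at h5
        exact hr.dvd_mul.1 h5

end elts

end Cfsg.Agent.R2.Spec.X7.N6
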