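import Cfsg.Agent.R2.Spec.X7.N6.SChar
import Cfsg.Agent.R2.Spec.X7.N6.SL3b
import Cfsg.Agent.R2.Spec.X7.N6.SPsp
import Cfsg.Agent.R2.Spec.X4.H10.L2Row
import Cfsg.Agent.R2.Spec.X4.H10.L3Fac

/-!
# S3435, box X7, `n = 6`, packet N6-S (helper8): `S = L₂(u)`, `L₃(u)`, `U₃(u)`, `PSp₄(u)`

* `not_l2`, `not_l3`, `not_u3`, `not_psp4`;
* `not_small` : the four rows.
-/

set_option autoImplicit false
set_option maxHeartbeats 1000000

namespace Cfsg.Agent.R2.Spec.X7.N6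

open Cfsg Cfsg.Agent.H426.LieFam Cfsg.Agent.R2.Spec Cfsg.Agent.R2.Spec.X4.H10

universe u

variable {p q : ℕ} {s : ℤ} {c c5 M : ℕ} {S : Type u} [Group S]

theorem SixN.M_dvd_of_mul (h : SixN p q s c c5 M) {g T n : ℕ} (hg0 : g ≠ 0) (hg : g < 7) (hT : g * T = n) (hMn : M ∣ n) :
    M ∣ T := by
  rw [← hT] at hMn
  exact (h.M_cop hg0 hg).dvd_of_dvd_mul_left hMn

/-- **`S = L₂(u)`.** -/
theorem not_l2 (h : Sec p q s c c5 M S) {v f : ℕ} (hv : v.Prime)
    (h6 : ¬ v ∣ M → ∀ r : ℕ, r.Prime → orderOf ((s : ℤ) : ZMod r) = 6 → r ∣ Nat.card S)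
    (hI : Fam.Is v f S (.psl 2)) : False := by
  have F := l2f hv hI
  have hf : f ≠ 0 := Cfsg.Agent.R2.Spec.X4.H4.is_f_ne (t := .psl 2) trivial hI
  have hI' := hI
  obtain ⟨-, h4, K, _, _, hch, hF, ⟨e⟩⟩ := hI'
  have h4' := h4 rfl
  have hM17 := h.n.M_gt
  have hvu : v ∣ v ^ f := dvd_pow_self v hf
  obtain ⟨u, hu⟩ : ∃ u, u = v ^ f := ⟨_, rfl⟩
  have hcardF : Fintype.card K = v ^ f := hF
  rw [← hu] at F h4' hvu hF
  obtain ⟨g, hg⟩ : ∃ g, g = Nat.gcd 2 (u - 1) := ⟨_, rfl⟩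
  rw [← hg] at F
  -- both tori
  have hT : ∀ ε : ℤ, ε = 1 ∨ ε = -1 → ∃ T, Tor S u g ε T := by
    rintro ε (rfl | rfl)
    · obtain ⟨z, hz⟩ := Cfsg.Agent.H363.PSL2Spec.exists_nonsplit hF
      refine ⟨(u + 1) / Nat.gcd 2 (u - 1), ?_, ⟨e.symm z, by rw [MulEquiv.orderOf_eq]; exact hz⟩⟩
      rw [← hg]
      rcases F.hg with ⟨h1, h2⟩ | ⟨h1, h2⟩ <;> rw [h1] <;> omega
    · obtain ⟨z, hz⟩ := Cfsg.Agent.H363.PSL2Spec.exists_split hF
      refine ⟨(u - 1) / Nat.gcd 2 (u - 1), ?_, ⟨e.symm z, by rw [MulEquiv.orderOf_eq]; exact hz⟩⟩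
      rw [← hg]
      rcases F.hg with ⟨h1, h2⟩ | ⟨h1, h2⟩ <;> rw [h1] <;> omega
  obtain ⟨x, hx⟩ := h.elt
  rcases F.cas x with ⟨ε, T, hε, hTT, hxT⟩ | hxv
  · rw [hx] at hxT
    obtain ⟨N, hNN⟩ := hT (-ε) (by rcases hε with h1 | h1 <;> rw [h1] <;> norm_num)
    have uN : Up p s c N := by
      obtain ⟨y, hy⟩ := hNN.ex
      exact hy ▸ h.up y
    have hU := h.n.two_tori (U := u) (by omega) hε F.hg hTT.eq (by rw [hNN.eq]; ring) hxT uN
    have hvM : ¬ v ∣ M := by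
      intro hvM
      have h1 : (v : ℤ) ∣ (u : ℤ) + ε := by
        rw [← hTT.eq]
        exact dvd_mul_of_dvd_right (Int.natCast_dvd_natCast.2 (hvM.trans hxT)) _
      have h2 : (v : ℤ) ∣ ε := (dvd_add_right (Int.natCast_dvd_natCast.2 hvu)).1 h1
      have h3 := hv.two_le
      rcases hε with h4 | h4 <;> rw [h4] at h2
      · have := Int.le_of_dvd (by norm_num) h2
        omega
      · have := Int.le_of_dvd (by norm_num) ((dvd_neg).2 h2)
        norm_num at this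
        omega
    refine h.n.kill hv (j := f) (by rw [← hu]; exact hU) fun r hr hr6 => ?_
    have h1 := h6 hvM r hr hr6
    by_cases hrv : r = v
    · exact Or.inl hrv
    right
    have := Fact.mk hv
    obtain ⟨d, N', hsh⟩ := sh_psl (Nat.one_le_iff_ne_zero.2 hf) hcardF (n := 2) le_rfl hv
    have h2 : r ∣ d * Nat.card S := h1.mul_left d
    rw [Nat.card_congr e.toEquiv, hsh.eq] at h2
    rcases hr.dvd_mul.1 h2 with h3 | h3
    · exact absurd ((Nat.prime_dvd_prime_iff_eq hr hv).1 (hr.dvd_of_dvd_pow (hr.dvd_of_dvd_pow h3))) hrv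
    · have h5 : r ∣ (v ^ f) ^ 2 - 1 := by
        have h7 : ((Fam.psl 2).facs.map (Cfsg.Agent.H414.LieShape.Fac.val (v ^ f))).prod = ((v ^ f) ^ 2 - 1) * 1 := rfl
        rwa [h7, mul_one] at h3
      have h8 : (((v ^ f) ^ 2 - 1 : ℕ) : ℤ) = ((v ^ f : ℕ) : ℤ) ^ 2 - 1 := by
        rw [Nat.cast_sub (Nat.one_le_pow _ _ (by omega))]; push_cast; ring
      rw [← h8]
      exact Int.natCast_dvd_natCast.2 h5
  · rw [hx] at hxv
    have hMv : M = v := ((Nat.dvd_prime hv).1 hxv).resolve_left (by omega)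
    have hMp : M.Prime := hMv ▸ hv
    have hodd := h.n.M_odd
    have huodd : u % 2 = 1 := by
      rw [hu, ← hMv]
      exact Nat.odd_iff.1 ((Nat.odd_iff.2 hodd).pow)
    obtain ⟨N, hNN⟩ := hT 1 (Or.inl rfl)
    have uN : Up p s c N := by
      obtain ⟨y, hy⟩ := hNN.ex
      exact hy ▸ h.up y
    have h1 := hNN.eq
    rcases F.hg with ⟨h2, h3⟩ | ⟨h2, h3⟩
    · omega
    · rw [h2] at h1
      exact h.n.l2_char hMp (u := u) (Nat.one_le_iff_ne_zero.2 hf) (by rw [hu, hMv]) (by push_cast at h1; omega) uN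

/-- the rows `L₃(u)`, `U₃(u)` -/
theorem not_t3 (h : Sec p q s c c5 M S) {v f : ℕ} (hv : v.Prime) (hf : f ≠ 0) {U : ℤ} {d T1 T2 : ℕ}
    (F : T3F S v (v ^ f) U d T1 T2) : False := by
  have hvu : v ∣ v ^ f := dvd_pow_self v hf
  have h2 : 2 ≤ v ^ f := hv.two_le.trans (Nat.le_self_pow hf v)
  have hw : v * v ^ (f - 1) = v ^ f := by rw [← pow_succ']; congr 1; omega
  obtain ⟨u, hu⟩ : ∃ u, u = v ^ f := ⟨_, rfl⟩
  rw [← hu] at F hvu h2 hw
  have hM17 := h.n.M_gt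
  have hd7 : d < 7 := by rcases F.hc with h1 | h1 <;> omega
  have hd0 : d ≠ 0 := by rcases F.hc with h1 | h1 <;> omega
  have uT1 : Up p s c T1 := by
    obtain ⟨y, hy⟩ := F.ex1
    exact hy ▸ h.up y
  -- `M` divides the second torus
  have two : M ∣ T2 → False := fun h1 => h.n.l3_two F.hU F.hU2 h2 F.hc F.e1 F.e2 h1 uT1
  have hU1 : 0 < (U - 1).natAbs := by
    rcases F.hU with h1 | h1 <;> omega
  obtain ⟨x, hx⟩ := h.elt
  rcases F.cas x with h1 | h1 | h1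
  · rw [hx] at h1
    have uT2 : Up p s c T2 := by
      obtain ⟨y, hy⟩ := F.ex2
      exact hy ▸ h.up y
    obtain ⟨h3, h4, h5, h6⟩ := h.n.l3_one F.hU F.hU2 h2 F.hc F.e1 F.e2 h1 uT2
    -- `L₃(13)`
    have hu13 : u = 13 := by
      rcases F.hU with h7 | h7 <;> omega
    have hv13 : v = 13 := by
      have h7 : v ∣ 13 := by rw [← hu13]; exact hvu
      exact (Nat.prime_dvd_prime_iff_eq hv (by norm_num)).1 h7
    obtain ⟨y, hy⟩ := F.adj2 (by omega)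
    have h7 := h.up y
    obtain ⟨hp3, hc2⟩ := h.n.three_c h5
    rw [hy, hv13, h4, hp3, hc2] at h7
    rcases h7 with h7 | h7 | h7 | h7 | h7 | h7 | h7 | h7 | h7 <;> norm_num at h7
  · rw [hx] at h1
    exact two h1
  · rw [hx] at h1
    by_cases hvM : v ∣ M
    · have hv7 := h.n.prime_ge hv hvM
      obtain ⟨m, hm⟩ := hvM
      have hm0 : m ≠ 0 := by
        rintro rfl
        omega
      -- `v ∤ m`
      have hvm : ¬ v ∣ m := by
        rintro ⟨m', hm'⟩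
        apply F.unip (by omega)
        refine ⟨x ^ m', ?_⟩
        have hm'0 : m' ≠ 0 := by
          rintro rfl
          omega
        rw [orderOf_pow_of_dvd hm'0 (by rw [hx, hm, hm']; exact ⟨v * v, by ring⟩), hx, hm, hm',
          show v * (v * m') = v ^ 2 * m' by ring]
        exact Nat.mul_div_cancel _ (Nat.pos_of_ne_zero hm'0)
      have h3 : m ∣ (U - 1).natAbs := by
        rw [hm, sq, mul_assoc] at h1
        have h4 := Nat.dvd_of_mul_dvd_mul_left hv.pos h1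
        exact (Nat.coprime_comm.1 ((Nat.Prime.coprime_iff_not_dvd hv).2 hvm)).dvd_of_dvd_mul_left h4
      have hdU : d ∣ (U - 1).natAbs := by
        rcases F.hc with h4 | h4
        · rw [h4]; exact one_dvd _
        · have e1 := F.e1
          have e2 := F.e2
          rw [h4] at e1 e2 ⊢
          push_cast at e1 e2
          omega
      obtain ⟨k, hk⟩ := hdU
      refine h.n.l3_char (T := v * k) F.hU F.hU2 h2 F.hc hw F.e1 (by rw [hk]; ring) ?_ uT1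
      refine h.n.M_dvd_of_mul hd0 hd7 (n := v * (U - 1).natAbs) (by rw [hk]; ring) ?_
      rw [hm]
      exact Nat.mul_dvd_mul_left v h3
    · apply two
      have h3 : M ∣ (U - 1).natAbs :=
        (Nat.Coprime.pow_right 2 (Nat.coprime_comm.1 ((Nat.Prime.coprime_iff_not_dvd hv).2 hvM))).dvd_of_dvd_mul_left h1
      have h4 : (M : ℤ) ∣ U - 1 := Int.natCast_dvd.2 h3
      refine h.n.M_dvd_of_mul hd0 hd7 rfl ?_
      have h5 : (M : ℤ) ∣ ((d * T2 : ℕ) : ℤ) := by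
        push_cast
        rw [F.e2, show U ^ 2 - 1 = (U - 1) * (U + 1) by ring]
        exact h4.mul_right _
      exact Int.natCast_dvd_natCast.1 h5

/-- **`S = L₃(u)`.** -/
theorem not_l3 (h : Sec p q s c c5 M S) {v f : ℕ} (hv : v.Prime) (hI : Fam.Is v f S (.psl 3)) : False :=
  not_t3 h hv (Cfsg.Agent.R2.Spec.X4.H4.is_f_ne (t := .psl 3) trivial hI) (t3f_psl hv hI)

/-- **`S = U₃(u)`.** -/
theorem not_u3 (h : Sec p q s c c5 M S) {v f : ℕ} (hv : v.Prime) (hI : Fam.Is v f S (.psu 3)) : False :=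
  not_t3 h hv (Cfsg.Agent.R2.Spec.X4.H4.is_f_ne (t := .psu 3) trivial hI) (t3f_psu hv hI)

/-- **`S = PSp₄(u)`.** -/
theorem not_psp4 (h : Sec p q s c c5 M S) {v f : ℕ} (hv : v.Prime)
    (h6 : ¬ v ∣ M → ∀ r : ℕ, r.Prime → orderOf ((s : ℤ) : ZMod r) = 6 → r ∣ Nat.card S)
    (hI : Fam.Is v f S (.psp 2)) : False := by
  have F := p4f hv hI
  have hf : f ≠ 0 := Cfsg.Agent.R2.Spec.X4.H4.is_f_ne (t := .psp 2) trivial hI
  have hvu : v ∣ v ^ f := dvd_pow_self v hf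
  have h2 : 2 ≤ v ^ f := hv.two_le.trans (Nat.le_self_pow hf v)
  have hM17 := h.n.M_gt
  obtain ⟨u, hu⟩ : ∃ u, u = v ^ f := ⟨_, rfl⟩
  rw [← hu] at F hvu h2
  obtain ⟨g, hg⟩ : ∃ g, g = Nat.gcd 2 (u - 1) := ⟨_, rfl⟩
  rw [← hg] at F
  have hg7 : g < 7 := by rcases F.hg with h1 | h1 <;> omega
  have hg0 : g ≠ 0 := by rcases F.hg with h1 | h1 <;> omega
  have hsq1 : 4 ≤ u ^ 2 := by rw [sq]; exact Nat.mul_le_mul h2 h2
  have hg2 : (g = 1 ∧ u ^ 2 % 2 = 0) ∨ (g = 2 ∧ u ^ 2 % 2 = 1) := by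
    rcases F.hg with ⟨h1, h3⟩ | ⟨h1, h3⟩
    · left; exact ⟨h1, by rw [Nat.pow_mod, h3]⟩
    · right; exact ⟨h1, by rw [Nat.pow_mod, h3]⟩
  obtain ⟨T, hT, yT, hyT⟩ := F.plus
  obtain ⟨N, hN, yN, hyN⟩ := F.minus
  have eT : (g : ℤ) * T = ((u ^ 2 : ℕ) : ℤ) + 1 := by
    have := congrArg (Nat.cast : ℕ → ℤ) hT
    push_cast at this ⊢
    exact this
  have eN : (g : ℤ) * N = ((u ^ 2 : ℕ) : ℤ) - 1 := by
    have := congrArg (Nat.cast : ℕ → ℤ) hN
    push_cast at this ⊢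
    linarith
  have uT : Up p s c T := hyT ▸ h.up yT
  have uN : Up p s c N := hyN ▸ h.up yN
  -- `v ∤ M`: the two tori
  have key : ¬ v ∣ M → ((u ^ 2 : ℕ) : ℤ) = 2 * (s ^ 4 + s ^ 3 + s ^ 2 + s + 1) - 1 → False := by
    intro hvM hU
    refine h.n.kill hv (j := 2 * f) (by rw [mul_comm, pow_mul, ← hu]; exact hU) fun r hr hr6 => ?_
    rcases F.card r hr (h6 hvM r hr hr6) with h1 | h1 | h1
    · exact Or.inl h1
    · right
      have h3 : (((v ^ (2 * f) : ℕ) : ℤ)) ^ 2 - 1 = ((u ^ 2 + 1 : ℕ) : ℤ) * (((u : ℤ)) ^ 2 - 1) := by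
        rw [mul_comm 2 f, pow_mul, ← hu]; push_cast; ring
      rw [h3]
      exact (Int.natCast_dvd_natCast.2 h1).mul_right _
    · right
      have h3 : (((v ^ (2 * f) : ℕ) : ℤ)) ^ 2 - 1 = ((u ^ 2 - 1 : ℕ) : ℤ) * (((u : ℤ)) ^ 2 + 1) := by
        rw [mul_comm 2 f, pow_mul, ← hu, Nat.cast_sub (by omega)]; push_cast; ring
      rw [h3]
      exact (Int.natCast_dvd_natCast.2 h1).mul_right _
  have hvnot : ∀ ε : ℤ, (ε = 1 ∨ ε = -1) → (M : ℤ) ∣ (u : ℤ) ^ 2 + ε → ¬ v ∣ M := by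
    intro ε hε hM hvM
    have h1 : (v : ℤ) ∣ (u : ℤ) ^ 2 + ε := (Int.natCast_dvd_natCast.2 hvM).trans hM
    have h3 : (v : ℤ) ∣ ε := (dvd_add_right ((Int.natCast_dvd_natCast.2 hvu).trans (dvd_pow_self _ two_ne_zero))).1 h1
    have h4 := hv.two_le
    rcases hε with h5 | h5 <;> rw [h5] at h3
    · have := Int.le_of_dvd (by norm_num) h3
      omega
    · have := Int.le_of_dvd (by norm_num) ((dvd_neg).2 h3)
      norm_num at this
      omega
  have hplus : M ∣ u ^ 2 + 1 → False := by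
    intro hM
    refine key (hvnot 1 (Or.inl rfl) (by exact_mod_cast hM)) ?_
    exact h.n.two_tori (U := u ^ 2) (by omega) (Or.inl rfl) hg2 eT eN (h.n.M_dvd_of_mul hg0 hg7 hT hM) uN
  have hminus : M ∣ u ^ 2 - 1 → False := by
    intro hM
    have hM' : (M : ℤ) ∣ (u : ℤ) ^ 2 + -1 := by
      have h3 : ((u ^ 2 - 1 : ℕ) : ℤ) = (u : ℤ) ^ 2 + -1 := by
        rw [Nat.cast_sub (by omega)]; push_cast; ring
      rw [← h3]
      exact Int.natCast_dvd_natCast.2 hM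
    refine key (hvnot (-1) (Or.inr rfl) hM') ?_
    exact h.n.two_tori (U := u ^ 2) (by omega) (Or.inr rfl) hg2 (by rw [eN]; ring) (by rw [eT]; ring)
      (h.n.M_dvd_of_mul hg0 hg7 (show g * N = u ^ 2 - 1 by omega) hM) uT
  obtain ⟨x, hx⟩ := h.elt
  have hxo : Odd (orderOf x) := by rw [hx, Nat.odd_iff]; exact h.n.M_odd
  have hupx := F.up x hxo (fun h1 => by rw [hx] at h1; have := h.n.prime_ge hv h1; omega)
  rw [hx] at hupx
  have hsq : (u + 1) * (u - 1) = u ^ 2 - 1 := by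
    rw [← Nat.sq_sub_sq, one_pow]
  rcases hupx with h1 | h1 | h1 | h1
  · exact hplus h1
  · exact hminus h1
  · by_cases hvM : v ∣ M
    · have hv7 := h.n.prime_ge hv hvM
      obtain ⟨E, hE, y, hy⟩ := F.vminus (by omega)
      refine h.n.psp_char (E := E) (ε := 1) hv hvM hvu h2 (Or.inl rfl) (by exact_mod_cast h1) ?_ (hy ▸ h.up y)
      have := congrArg (Nat.cast : ℕ → ℤ) hE
      push_cast at this
      linarith
    · apply hminus
      have h3 := (Nat.coprime_comm.1 ((Nat.Prime.coprime_iff_not_dvd hv).2 hvM)).dvd_of_dvd_mul_right h1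
      rw [← hsq]
      exact h3.mul_right _
  · by_cases hvM : v ∣ M
    · have hv7 := h.n.prime_ge hv hvM
      obtain ⟨E, hE, y, hy⟩ := F.vplus (by omega)
      refine h.n.psp_char (E := E) (ε := -1) hv hvM hvu h2 (Or.inr rfl) ?_ ?_ (hy ▸ h.up y)
      · have h3 : (((u - 1) * v : ℕ) : ℤ) = ((u : ℤ) + -1) * v := by
          push_cast [Nat.cast_sub (show 1 ≤ u by omega)]; ring
        rw [← h3]
        exact Int.natCast_dvd_natCast.2 h1
      · have := congrArg (Nat.cast : ℕ → ℤ) hE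
        push_cast at this
        linarith
    · apply hminus
      have h3 := (Nat.coprime_comm.1 ((Nat.Prime.coprime_iff_not_dvd hv).2 hvM)).dvd_of_dvd_mul_right h1
      rw [← hsq]
      exact h3.mul_left _

/-- **Packet N6-S.** -/
theorem not_small (h : Sec p q s c c5 M S) {v f : ℕ} (hv : v.Prime)
    (hS : Fam.Is v f S (.psl 3) ∨ Fam.Is v f S (.psu 3) ∨
      ((Fam.Is v f S (.psl 2) ∨ Fam.Is v f S (.psp 2)) ∧
        (¬ v ∣ M → ∀ r : ℕ, r.Prime → orderOf ((s : ℤ) : ZMod r) = 6 → r ∣ Nat.card S))) : False := by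
  rcases hS with hI | hI | ⟨hI | hI, h6⟩
  · exact not_l3 h hv hI
  · exact not_u3 h hv hI
  · exact not_l2 h hv h6 hI
  · exact not_psp4 h hv h6 hI

end Cfsg.Agent.R2.Spec.X7.N6
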