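import Cfsg.Agent.R2.Spec.X7.N6.Ctx
import Cfsg.Agent.R2.Spec.F1.DuelEx

/-!
# Box X7, `n = 6` (helper14, S3435): the primes of class six, `S = PSL₂(u)`, `PSp₄(u)`

`Ctx.dvd6_small` : the primes of class six divide `|S|`.
-/

set_option autoImplicit false
set_option linter.unusedSectionVars false
set_option linter.unusedVariables false

namespace Cfsg.Agent.R2.Spec.X7.N6

open Subgroup Cfsg
open Cfsg.Agent.H426.LieFam Cfsg.Agent.R2.Spec Cfsg.Agent.R2.Spec.P1 Cfsg.Agent.R2.Spec.F1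
open Cfsg.Agent.H72 Cfsg.Agent.H420.QR Cfsg.Agent.R2.Spec.E

universe u w

variable {t : Fam} {p f : ℕ} {L : Type w} [Group L] [Finite L] {G : Type u} [Group G] [Finite G]
variable {K : Subgroup G} [K.Normal] {S : Subgroup (G ⧸ K)} [S.Normal] {t' : Fam} {v f' : ℕ} {c c5 M : ℕ}

/-- **The primes of class six divide `|S|`**, `S = PSL₂(u)`, `PSp₄(u)`. -/
theorem Ctx.dvd6_small (X : Ctx t p f L G K S t' v f' c c5 M) (ht : t' = .psl 2 ∨ t' = .psp 2) (hvM : ¬ v ∣ M)
    {z : ℕ} (hz : In t (p ^ f) 6 z) : z ∣ Nat.card S := by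
  have h := X.h
  have hF := X.hF
  have hR := X.hR
  have hq := F1.LS.q_three h X.p2
  by_contra hc
  have hzv : z ≠ v := by
    rintro rfl
    exact hc hF.vdvd
  have hzG := hz.dvd h
  rw [card_eq_mul (K := K) (S := S)] at hzG
  have hbad := (hz.prime.dvd_mul.1 hzG).resolve_left hc
  -- a prime of `M`
  obtain ⟨r, hr, hrM⟩ := Nat.exists_prime_and_dvd (n := M) (by have := X.n.M_gt; omega)
  have H5 := X.in5 hr hrM
  have hrg := X.good5 hr hrM
  have hrv : r ≠ v := by
    rintro rfl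
    exact hvM hrM
  have ne_p : ∀ {i x : ℕ}, In t (p ^ f) i x → x ≠ p := fun hx he => hx.not_dvd h.fpos (by rw [he])
  have hpG : p ∣ Nat.card G := (h.dvd_iff h.prime).2 h.pdvd
  have n6p : ¬ ∃ g : G, orderOf g = z * p := fun hg => (h.adjp_iff hz).1 hg (X.t6.nap_iff.2 (by norm_num))
  have n5p : ¬ ∃ g : G, orderOf g = r * p := fun hg => (h.adjp_iff H5).1 hg (X.t6.nap_iff.2 (by norm_num))
  have hzr := hz.ne H5 (by norm_num)
  have n65 : ¬ ∃ g : G, orderOf g = z * r := fun hg => (h.adj_iff hz H5 hzr).1 hg (na_symm X.t6.n56)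
  have gp := Red.two_bad hR hz.prime h.prime hr (hz.dvd h) hpG (H5.dvd h) (ne_p hz) hzr (ne_p H5).symm n6p n65
    (fun hg => n5p (swap_adj hg)) hbad
  -- the contradiction if `r` and `p` are of the same class
  have same : cls t' (v ^ f') r = cls t' (v ^ f') p → False := fun he =>
    n5p (exists_of_S (adj_same' hF.cla hF.prime hF.is hr h.prime H5.ne_two X.p2 (ne_p H5) hrv X.vp.symm hrg.2 gp.2 he))
  by_cases hzK : z ∣ Nat.card K
  · have k5 := hF.kcase hz.prime hzK hzv hr H5.ne_two hzr.symm hrg.2 n65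
    have kp := hF.kcase hz.prime hzK hzv h.prime X.p2 (ne_p hz).symm gp.2 n6p
    rcases ht with rfl | rfl
    · have red : ∀ {x : ℕ}, x.Prime → x ≠ 2 → x ≠ v → x ∣ Nat.card S →
          (x = v ∨ (3 ≤ cls (.psl 2) (v ^ f') x ∧ An (.psl 2) (cls (.psl 2) (v ^ f') x)) ∨
            ((.psl 2 : Fam) = .psl 2 ∧ x ∣ v ^ f' + 1) ∨ ((.psl 2 : Fam) = .psu 3 ∧ x ∣ v ^ f' + 1)) →
              cls (.psl 2) (v ^ f') x = 2 := by
        intro x hx hx2 hxv hxS hh
        rcases hh with h1 | h1 | ⟨-, h1⟩ | ⟨h1, -⟩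
        · exact absurd h1 hxv
        · have h2 : cls (.psl 2) (v ^ f') x ≤ 2 := Frm.mem_of_dvd hF hx hx2 h1.1 hxS
          omega
        · have hxf := Fact.mk hx
          have h2 : ((v ^ f' + 1 : ℕ) : ZMod x) = 0 := (ZMod.natCast_eq_zero_iff _ _).2 h1
          have h3 : ((sg (.psl 2) (v ^ f') : ℤ) : ZMod x) = -1 := by
            change (((v ^ f' : ℕ) : ℤ) : ZMod x) = -1
            push_cast at h2 ⊢
            linear_combination h2
          rw [cls, h3]
          have hc : ringChar (ZMod x) ≠ 2 := by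
            rw [ZMod.ringChar_zmod_n]
            exact hx2
          rw [orderOf_neg_one, if_neg hc]
        · exact absurd h1 (by simp)
      exact same ((red hr H5.ne_two hrv hrg.2 k5).trans (red h.prime X.p2 X.vp.symm gp.2 kp).symm)
    · have red : ∀ {x : ℕ}, x ≠ v →
          (x = v ∨ (3 ≤ cls (.psp 2) (v ^ f') x ∧ An (.psp 2) (cls (.psp 2) (v ^ f') x)) ∨
            ((.psp 2 : Fam) = .psl 2 ∧ x ∣ v ^ f' + 1) ∨ ((.psp 2 : Fam) = .psu 3 ∧ x ∣ v ^ f' + 1)) →
              cls (.psp 2) (v ^ f') x = 4 := by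
        intro x hxv hh
        rcases hh with h1 | h1 | ⟨h1, -⟩ | ⟨h1, -⟩
        · exact absurd h1 hxv
        · exact h1.2
        · exact absurd h1 (by simp)
        · exact absurd h1 (by simp)
      exact same ((red hrv k5).trans (red X.vp.symm kp).symm)
  · have hzd : ¬ z ∣ dg t' (v ^ f') := by
      intro hd
      have hz5 := hz.five
      rcases ht with rfl | rfl
      · have h1 : z ∣ 2 := (show z ∣ Nat.gcd 2 (v ^ f' - 1) from hd).trans (Nat.gcd_dvd_left _ _)
        have := Nat.le_of_dvd (by norm_num) h1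
        omega
      · have h1 : z ∣ 1 := hd
        have := Nat.le_of_dvd (by norm_num) h1
        omega
    have hHC : HC (sg t (p ^ f)) z 4 := h.hc hR hF hz hbad hzK hzd (by norm_num) (X.t6.mem_iff.2 (by norm_num))
      (na_symm X.t6.n46) ⟨5, r, H5, na_symm X.t6.n56, X.t6.n45⟩
    refine killer_false (X := sg t (p ^ f)) (r := z) (i := 6) hz.prime hz.five hz.cls_eq (by norm_num)
      (I := fun l => l = 4) ?_ ?_
    · rintro l rfl -
      exact hHC
    · exact Or.inl ⟨1, le_rfl, rfl, by norm_num, by norm_num⟩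

end Cfsg.Agent.R2.Spec.X7.N6
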