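import Cfsg.Agent.R2.Spec.X7.N6.NoTop
import Cfsg.Agent.R2.Spec.X7.N6.NT
import Cfsg.Agent.R2.Spec.X7.N6.SFin
import Cfsg.Agent.R2.Spec.X7.N6.Six

/-!
# Box X7, `n = 6` (helper15, S3435): no classical `S`
-/

set_option autoImplicit false
set_option linter.unusedSectionVars false
set_option linter.unusedVariables false

namespace Cfsg.Agent.R2.Spec.X7.N6

open Subgroup Cfsg
open Cfsg.Agent.H426.LieFam Cfsg.Agent.R2.Spec Cfsg.Agent.R2.Spec.P1 Cfsg.Agent.R2.Spec.F1
open Cfsg.Agent.H72 Cfsg.Agent.H420.QR Cfsg.Agent.R2.Spec.E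

universe u w

variable {t : Fam} {p f : ℕ} {L : Type w} [Group L] [Finite L] {G : Type u} [Group G] [Finite G]
variable {K : Subgroup G} [K.Normal] {S : Subgroup (G ⧸ K)} [S.Normal] {t' : Fam} {v f' : ℕ} {c c5 M : ℕ}

/-- **No classical `S`, the numbers given.** -/
theorem Ctx.false (X : Ctx t p f L G K S t' v f' c c5 M) : False := by
  by_cases hS : BigS t'
  · have hM : M ≠ 1 := by
      have := X.n.M_gt
      omega
    obtain ⟨r, hr, hrM⟩ := Nat.exists_prime_and_dvd hM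
    by_cases hadj : ∃ g : S, orderOf g = v * r
    · exact X.no_nontop hS hr hrM hadj
    · exact X.no_top hS hr hrM hadj
  · have hi := X.hF.is
    have h1 : t' = .psl 2 ∨ t' = .psl 3 ∨ t' = .psu 3 ∨ t' = .psp 2 := by
      by_contra hcon
      simp only [not_or] at hcon
      exact hS ⟨X.hF.cla, hcon⟩
    have h6 : t' = .psl 2 ∨ t' = .psp 2 → ¬ v ∣ M → ∀ r : ℕ, r.Prime →
        orderOf ((sg t (p ^ f) : ℤ) : ZMod r) = 6 → r ∣ Nat.card S := by
      intro ht hvM r hr ho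
      exact X.dvd6_small ht hvM ⟨hr, ho, by norm_num, X.t6.mem_iff.2 (by norm_num)⟩
    refine not_small X.sec X.hF.prime (f := f') ?_
    rcases h1 with h1 | h1 | h1 | h1
    · have h2 := h6 (Or.inl h1)
      rw [h1] at hi
      exact Or.inr (Or.inr ⟨Or.inl hi, h2⟩)
    · rw [h1] at hi
      exact Or.inl hi
    · rw [h1] at hi
      exact Or.inr (Or.inl hi)
    · have h2 := h6 (Or.inr h1)
      rw [h1] at hi
      exact Or.inr (Or.inr ⟨Or.inr hi, h2⟩)

/-- **No classical `S`.** -/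
theorem no_classical (ht : T6 t) (hp2 : p ≠ 2) (hI : Fam.Is p f L t) (h : LS t p f L G) (hR : Red G K S)
    (hF : Frm G K S t' v f') (hvp : v ≠ p) : False := by
  obtain ⟨c, c5, M, hn⟩ := exists_sixN ht h.prime hp2 h.fpos
  have X : Ctx t p f L G K S t' v f' c c5 M := ⟨hI, h, hR, hF, hp2, hvp, ht, hn⟩
  exact X.false

end Cfsg.Agent.R2.Spec.X7.N6
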