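import Mathlib
import Cfsg.Agent.H426.LieFam
import Cfsg.Agent.R2.Spec.Iface

/-!
# Box X7, `n = 6` (helper15, S3435): the interface

`s = ± q` is the signed cardinality of the field, `L = L₆(s)` (`PSL₆(q)` for `s = q`, `PSU₆(q)` for `s = - q`), `q` odd;
`c = (6, s - 1)`, `c₅ = (5, s - 1)`, `M = (s ^ 5 - 1) / ((s - 1) c₅)`.

* `SixN p q s c c₅ M` : the numbers;
* `Up p s c E` : the condition satisfied by all element orders `E` of `L`;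
* `Sec p q s c c₅ M S` : the section `S`.
-/

set_option autoImplicit false

namespace Cfsg.Agent.R2.Spec.X7.N6

/-- the numbers of `L₆(s)` -/
structure SixN (p q : ℕ) (s : ℤ) (c c5 M : ℕ) : Prop where
  hp : p.Prime
  hp2 : p ≠ 2
  hq : ∃ f : ℕ, 1 ≤ f ∧ q = p ^ f
  hs : s = q ∨ s = -(q : ℤ)
  hc : c = Nat.gcd 6 (s - 1).natAbs
  hc5 : c5 = Nat.gcd 5 (s - 1).natAbs
  hM : (M : ℤ) * (c5 * (s - 1)) = s ^ 5 - 1

/-- the condition for the element orders of `L₆(s)` -/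
def Up (p : ℕ) (s : ℤ) (c : ℕ) (E : ℕ) : Prop :=
  (c * E : ℤ) ∣ s ^ 5 - 1 ∨ (c * E * (s - 1) : ℤ) ∣ s ^ 6 - 1 ∨ (E : ℤ) ∣ s ^ 4 - 1 ∨ (c * E : ℤ) ∣ p * (s ^ 4 - 1) ∨
    (E : ℤ) ∣ (s ^ 3 - 1) * (s + 1) ∨ (E : ℤ) ∣ p * (s ^ 3 - 1) ∨ (E : ℤ) ∣ p * (s ^ 2 - 1) ∨
    (p = 3 ∧ (E : ℤ) ∣ 9 * (s ^ 2 - 1)) ∨ (p = 5 ∧ E ∣ 25)

/-- the section: `S` is a section of a group isospectral to `L₆(s)` -/
structure Sec (p q : ℕ) (s : ℤ) (c c5 M : ℕ) (S : Type*) [Group S] : Prop where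
  n : SixN p q s c c5 M
  up : ∀ x : S, Up p s c (orderOf x)
  elt : ∃ x : S, orderOf x = M

end Cfsg.Agent.R2.Spec.X7.N6
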