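import Mathlib
import Cfsg.Agent.R2.Spec.X7.N6.Def

/-!
# Box X7, `n = 6` (helper15, S3435): the numeric core

* `SixN.phi`, `SixN.cop` ... : elementary facts about the numbers of `L₆(s)`;
* `SixN.up_top` : an element order `M e` satisfies `c e ∣ c₅ (s - 1)`;
* `Ty` : the possible types of an element order `N > q ^ 3` prime to `M`, together with the relation `A M = B N + C`;
* `SixN.bracket` : the bracket lemma.
-/

set_option autoImplicit false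
set_option maxHeartbeats 1000000

namespace Cfsg.Agent.R2.Spec.X7.N6

variable {p q : ℕ} {s : ℤ} {c c5 M : ℕ}

namespace SixN

lemma q3 (h : SixN p q s c c5 M) : 3 ≤ q := by
  obtain ⟨f, hf, rfl⟩ := h.hq
  have h2 := h.hp.two_le
  have h3 : 3 ≤ p := by
    have := h.hp2
    omega
  calc 3 ≤ p := h3
    _ = p ^ 1 := (pow_one p).symm
    _ ≤ p ^ f := Nat.pow_le_pow_right (by omega) hf

lemma abs_s (h : SixN p q s c c5 M) : |s| = q := by
  rcases h.hs with h1 | h1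
  · rw [h1, abs_of_nonneg (by positivity)]
  · rw [h1, abs_neg, abs_of_nonneg (by positivity)]

lemma sq_s (h : SixN p q s c c5 M) : s ^ 2 = (q : ℤ) ^ 2 := by
  rw [← h.abs_s, sq_abs]

lemma odd_q (h : SixN p q s c c5 M) : Odd q := by
  obtain ⟨f, _, rfl⟩ := h.hq
  exact (h.hp.odd_of_ne_two h.hp2).pow

lemma odd_s (h : SixN p q s c c5 M) : Odd s := by
  have h0 : Odd (q : ℤ) := by exact_mod_cast h.odd_q
  rcases h.hs with h1 | h1
  · rw [h1]
    exact h0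
  · rw [h1]
    exact h0.neg

lemma s_ne (h : SixN p q s c c5 M) : s - 1 ≠ 0 := by
  intro h0
  have h1 := h.abs_s
  have h2 : s = 1 := by linarith
  rw [h2] at h1
  have h3 := h.q3
  norm_num at h1
  omega

lemma p_dvd (h : SixN p q s c c5 M) : (p : ℤ) ∣ s := by
  obtain ⟨f, hf, hq⟩ := h.hq
  have h0 : (p : ℤ) ∣ (q : ℤ) := by
    rw [hq]
    push_cast
    exact dvd_pow_self _ (by omega)
  rcases h.hs with h1 | h1
  · rw [h1]
    exact h0
  · rw [h1]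
    exact (dvd_neg).mpr h0

lemma p_le (h : SixN p q s c c5 M) : p ≤ q := by
  obtain ⟨f, hf, hq⟩ := h.hq
  rw [hq]
  exact Nat.le_self_pow (by omega) p

lemma phi (h : SixN p q s c c5 M) : (c5 : ℤ) * M = s ^ 4 + s ^ 3 + s ^ 2 + s + 1 := by
  have h1 := h.hM
  have h2 := h.s_ne
  have h3 : (s - 1) * ((c5 : ℤ) * M) = (s - 1) * (s ^ 4 + s ^ 3 + s ^ 2 + s + 1) := by
    linear_combination h1
  exact mul_left_cancel₀ h2 h3

lemma c5_or (h : SixN p q s c c5 M) : c5 = 1 ∨ c5 = 5 := by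
  have h1 : c5 ∣ 5 := by
    rw [h.hc5]
    exact Nat.gcd_dvd_left _ _
  exact (Nat.dvd_prime (by norm_num)).mp h1

lemma c5_dvd (h : SixN p q s c c5 M) : (c5 : ℤ) ∣ s - 1 := by
  have h1 : c5 ∣ (s - 1).natAbs := by
    rw [h.hc5]
    exact Nat.gcd_dvd_right _ _
  exact Int.natCast_dvd.mpr h1

lemma c_dvd (h : SixN p q s c c5 M) : (c : ℤ) ∣ s - 1 := by
  have h1 : c ∣ (s - 1).natAbs := by
    rw [h.hc]
    exact Nat.gcd_dvd_right _ _
  exact Int.natCast_dvd.mpr h1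

lemma c_or (h : SixN p q s c c5 M) : c = 2 ∨ c = 6 := by
  have h1 : c ∣ 6 := by
    rw [h.hc]
    exact Nat.gcd_dvd_left _ _
  have h2 : 2 ∣ c := by
    rw [h.hc]
    refine Nat.dvd_gcd (by norm_num) ?_
    have h3 := h.odd_s
    obtain ⟨k, hk⟩ := h3
    have h4 : (2 : ℤ) ∣ s - 1 := ⟨k, by rw [hk]; ring⟩
    exact Int.natCast_dvd.mp h4
  have h3 : c ≤ 6 := Nat.le_of_dvd (by norm_num) h1
  interval_cases c <;> simp_all

lemma s_cases (h : SixN p q s c c5 M) : 3 ≤ s ∨ s ≤ -3 := by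
  have h1 := h.q3
  rcases h.hs with h2 | h2
  · left
    rw [h2]
    exact_mod_cast h1
  · right
    rw [h2]
    have : (3 : ℤ) ≤ q := by exact_mod_cast h1
    linarith

/-- lower bound for `M` -/
lemma lo (h : SixN p q s c c5 M) : (q : ℤ) ^ 3 * (q - 1) + q * (q - 1) < c5 * M := by
  rw [h.phi]
  have h1 : (3 : ℤ) ≤ q := by exact_mod_cast h.q3
  rcases h.hs with h2 | h2
  · rw [h2]
    nlinarith [pow_pos (by linarith : (0 : ℤ) < q) 3, pow_pos (by linarith : (0 : ℤ) < q) 2]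
  · rw [h2]
    nlinarith [pow_pos (by linarith : (0 : ℤ) < q) 3, pow_pos (by linarith : (0 : ℤ) < q) 2]

/-- upper bound for `M` -/
lemma hi (h : SixN p q s c c5 M) : (c5 : ℤ) * M * (q - 1) < (q : ℤ) ^ 5 := by
  rw [h.phi]
  have h1 : (3 : ℤ) ≤ q := by exact_mod_cast h.q3
  rcases h.hs with h2 | h2
  · rw [h2]
    nlinarith [pow_pos (by linarith : (0 : ℤ) < q) 3, pow_pos (by linarith : (0 : ℤ) < q) 2]
  · rw [h2]
    nlinarith [pow_pos (by linarith : (0 : ℤ) < q) 3, pow_pos (by linarith : (0 : ℤ) < q) 2,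
      pow_pos (by linarith : (0 : ℤ) < q) 4]

lemma M_pos (h : SixN p q s c c5 M) : 0 < M := by
  rcases Nat.eq_zero_or_pos M with h0 | h0
  · exfalso
    have h1 := h.lo
    rw [h0] at h1
    have h2 : (3 : ℤ) ≤ q := by exact_mod_cast h.q3
    have h3 : 0 ≤ (q : ℤ) ^ 3 * (q - 1) + q * (q - 1) := by
      have : (0 : ℤ) ≤ (q : ℤ) - 1 := by linarith
      positivity
    simp at h1
    linarith
  · exact h0

/-- a crude lower bound used for the constants -/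
lemma big (h : SixN p q s c c5 M) : ((q : ℤ) + 1) ^ 2 + 1 ≤ M := by
  have h1 := h.lo
  have h3 : (3 : ℤ) ≤ q := by exact_mod_cast h.q3
  rcases h.c5_or with h2 | h2
  · rw [h2] at h1
    push_cast at h1
    nlinarith [mul_nonneg (by linarith : (0 : ℤ) ≤ (q : ℤ) - 3) (sq_nonneg (q : ℤ)),
      mul_nonneg (by linarith : (0 : ℤ) ≤ (q : ℤ) - 3) (sq_nonneg ((q : ℤ) - 1)), sq_nonneg ((q : ℤ) ^ 2 - 2 * q)]
  · have h4 := h.c5_dvd
    rw [h2] at h1 h4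
    push_cast at h1 h4
    -- q ≥ 9 here
    have h5 : (9 : ℤ) ≤ q := by
      have ho := h.odd_q
      have hq3 := h.q3
      by_contra hcon
      have hlt : q < 9 := by
        have : (q : ℤ) < 9 := by linarith
        exact_mod_cast this
      rcases h.hs with h6 | h6 <;> rw [h6] at h4 <;> interval_cases q <;> revert ho h4 <;> decide
    nlinarith [mul_nonneg (by linarith : (0 : ℤ) ≤ (q : ℤ) - 9) (sq_nonneg (q : ℤ)),
      mul_nonneg (mul_nonneg (by linarith : (0 : ℤ) ≤ (q : ℤ) - 9) (by linarith : (0 : ℤ) ≤ (q : ℤ))) (sq_nonneg (q : ℤ)),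
      mul_nonneg (by linarith : (0 : ℤ) ≤ (q : ℤ) - 9) (by linarith : (0 : ℤ) ≤ (q : ℤ))]

lemma M_gt (h : SixN p q s c c5 M) : 17 ≤ M := by
  have h1 := h.big
  have h2 : (3 : ℤ) ≤ q := by exact_mod_cast h.q3
  have : (17 : ℤ) ≤ M := by nlinarith
  exact_mod_cast this

lemma cop_a (h : SixN p q s c c5 M) : IsCoprime (M : ℤ) (s * (s + 1) * (s ^ 2 + 1)) :=
  ⟨c5, -1, by linear_combination h.phi⟩

lemma cop_b (h : SixN p q s c c5 M) : IsCoprime (M : ℤ) (s ^ 2 + s + 1) :=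
  ⟨-s * c5, s ^ 3 + 1, by linear_combination (-s) * h.phi⟩

lemma cop_c (h : SixN p q s c c5 M) : IsCoprime (M : ℤ) (s ^ 2 - s + 1) :=
  ⟨-s * c5, 1 + s * (s ^ 2 + 2 * s + 2), by linear_combination (-s) * h.phi⟩

lemma cop_d (h : SixN p q s c c5 M) : IsCoprime (M : ℤ) (s - 1) := by
  rcases h.c5_or with h2 | h2
  · have h3 : IsCoprime (5 : ℤ) (s - 1) := by
      have h4 : Nat.gcd 5 (s - 1).natAbs = 1 := by rw [← h.hc5, h2]
      exact Int.isCoprime_iff_gcd_eq_one.mpr h4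
    obtain ⟨a, b, hab⟩ := h3
    have h5 := h.phi
    rw [h2] at h5
    push_cast at h5
    refine ⟨a, b - a * (s ^ 3 + 2 * s ^ 2 + 3 * s + 4), ?_⟩
    linear_combination hab + a * h5
  · obtain ⟨t, ht⟩ := h.c5_dvd
    have h5 := h.phi
    rw [h2] at h5 ht
    push_cast at h5 ht
    have hs : s = 1 + 5 * t := by linarith
    have h6 : (M : ℤ) = (s - 1) * (2 + 10 * t + 25 * t ^ 2 + 25 * t ^ 3) + 1 := by
      have : 5 * (M : ℤ) = 5 * ((s - 1) * (2 + 10 * t + 25 * t ^ 2 + 25 * t ^ 3) + 1) := by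
        rw [hs] at h5 ⊢
        linear_combination h5
      linarith
    exact ⟨1, -(2 + 10 * t + 25 * t ^ 2 + 25 * t ^ 3), by rw [h6]; ring⟩

/-- `M` is prime to `s (s ^ 4 - 1) (s ^ 6 - 1)` -/
lemma cop (h : SixN p q s c c5 M) :
    IsCoprime (M : ℤ) (s * (s - 1) * (s + 1) * (s ^ 2 + 1) * (s ^ 2 + s + 1) * (s ^ 2 - s + 1)) := by
  have h1 := ((h.cop_a.mul_right h.cop_b).mul_right h.cop_c).mul_right h.cop_d
  have h2 : s * (s - 1) * (s + 1) * (s ^ 2 + 1) * (s ^ 2 + s + 1) * (s ^ 2 - s + 1) =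
      s * (s + 1) * (s ^ 2 + 1) * (s ^ 2 + s + 1) * (s ^ 2 - s + 1) * (s - 1) := by ring
  rw [h2]
  exact h1

/-- `M` divides no number built from `s` and the cyclotomic factors of index `1, 2, 3, 4, 6` -/
lemma not_dvd (h : SixN p q s c c5 M) {X : ℤ} {k : ℕ}
    (hX : X ∣ (s * (s - 1) * (s + 1) * (s ^ 2 + 1) * (s ^ 2 + s + 1) * (s ^ 2 - s + 1)) ^ k) (hM : (M : ℤ) ∣ X) :
    False := by
  have h1 : IsCoprime (M : ℤ) X := (h.cop.pow_right (n := k)).of_isCoprime_of_dvd_right hX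
  have h2 : IsUnit (M : ℤ) := h1.isUnit_of_dvd' dvd_rfl hM
  have h3 := Int.natAbs_of_isUnit h2
  have h4 := h.M_gt
  simp at h3
  omega

/-- an element order divisible by `M` -/
theorem up_top (h : SixN p q s c c5 M) {e : ℕ} (hu : Up p s c (M * e)) : (c * e : ℤ) ∣ c5 * (s - 1) := by
  have hpd := h.p_dvd
  rcases hu with h1 | h1 | h1 | h1 | h1 | h1 | h1 | h1 | h1
  · push_cast at h1
    have h2 : (M : ℤ) * (c * e) ∣ (M : ℤ) * (c5 * (s - 1)) := by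
      rw [h.hM]
      have h3 : (M : ℤ) * (c * e) = c * (M * e) := by ring
      rw [h3]
      exact h1
    exact Int.dvd_of_mul_dvd_mul_left (by have := h.M_pos; exact_mod_cast this.ne') h2
  · exfalso
    push_cast at h1
    refine h.not_dvd (X := s ^ 6 - 1) (k := 1) ⟨s * (s ^ 2 + 1), by ring⟩ (dvd_trans ⟨c * e * (s - 1), by ring⟩ h1)
  · exfalso
    push_cast at h1
    exact h.not_dvd (X := s ^ 4 - 1) (k := 1) ⟨s * (s ^ 2 + s + 1) * (s ^ 2 - s + 1), by ring⟩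
      (dvd_trans ⟨e, by ring⟩ h1)
  · exfalso
    push_cast at h1
    refine h.not_dvd (X := p * (s ^ 4 - 1)) (k := 1) ?_ (dvd_trans ⟨c * e, by ring⟩ h1)
    obtain ⟨t, ht⟩ := hpd
    exact ⟨t * (s ^ 2 + s + 1) * (s ^ 2 - s + 1), by linear_combination ((s ^ 4 - 1) * (s ^ 2 + s + 1) * (s ^ 2 - s + 1)) * ht⟩
  · exfalso
    push_cast at h1
    exact h.not_dvd (X := (s ^ 3 - 1) * (s + 1)) (k := 1) ⟨s * (s ^ 2 + 1) * (s ^ 2 - s + 1), by ring⟩
      (dvd_trans ⟨e, by ring⟩ h1)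
  · exfalso
    push_cast at h1
    refine h.not_dvd (X := p * (s ^ 3 - 1)) (k := 1) ?_ (dvd_trans ⟨e, by ring⟩ h1)
    obtain ⟨t, ht⟩ := hpd
    exact ⟨t * (s + 1) * (s ^ 2 + 1) * (s ^ 2 - s + 1), by
      linear_combination ((s ^ 3 - 1) * (s + 1) * (s ^ 2 + 1) * (s ^ 2 - s + 1)) * ht⟩
  · exfalso
    push_cast at h1
    refine h.not_dvd (X := p * (s ^ 2 - 1)) (k := 1) ?_ (dvd_trans ⟨e, by ring⟩ h1)
    obtain ⟨t, ht⟩ := hpd
    exact ⟨t * (s ^ 2 + 1) * (s ^ 2 + s + 1) * (s ^ 2 - s + 1), by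
      linear_combination ((s ^ 2 - 1) * (s ^ 2 + 1) * (s ^ 2 + s + 1) * (s ^ 2 - s + 1)) * ht⟩
  · exfalso
    obtain ⟨hp3, h1⟩ := h1
    push_cast at h1
    refine h.not_dvd (X := 9 * (s ^ 2 - 1)) (k := 2) ?_ (dvd_trans ⟨e, by ring⟩ h1)
    obtain ⟨t, ht⟩ := hpd
    rw [hp3] at ht
    push_cast at ht
    refine ⟨t ^ 2 * (s ^ 2 - 1) * ((s ^ 2 + 1) * (s ^ 2 + s + 1) * (s ^ 2 - s + 1)) ^ 2, ?_⟩
    have h9 : 9 * t ^ 2 = s ^ 2 := by rw [ht]; ring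
    linear_combination (-((s ^ 2 - 1) ^ 2 * ((s ^ 2 + 1) * (s ^ 2 + s + 1) * (s ^ 2 - s + 1)) ^ 2)) * h9
  · exfalso
    obtain ⟨hp5, h1⟩ := h1
    have h2 : (M : ℤ) ∣ 25 := by
      have : M ∣ 25 := dvd_trans ⟨e, rfl⟩ h1
      exact_mod_cast this
    refine h.not_dvd (X := 25) (k := 2) ?_ h2
    obtain ⟨t, ht⟩ := hpd
    rw [hp5] at ht
    push_cast at ht
    refine ⟨(t * (s - 1) * (s + 1) * (s ^ 2 + 1) * (s ^ 2 + s + 1) * (s ^ 2 - s + 1)) ^ 2, ?_⟩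
    have h9 : 25 * t ^ 2 = s ^ 2 := by rw [ht]; ring
    linear_combination (-(((s - 1) * (s + 1) * (s ^ 2 + 1) * (s ^ 2 + s + 1) * (s ^ 2 - s + 1)) ^ 2)) * h9

lemma e_le (h : SixN p q s c c5 M) {e : ℕ} (he : (c * e : ℤ) ∣ c5 * (s - 1)) : (c : ℤ) * e ≤ c5 * (q + 1) := by
  have h1 : c5 * (s - 1) ≠ 0 := by
    refine mul_ne_zero ?_ h.s_ne
    rcases h.c5_or with h2 | h2 <;> rw [h2] <;> norm_num
  have h2 := Int.le_of_dvd (abs_pos.mpr h1) ((dvd_abs _ _).mpr he)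
  rw [abs_mul, abs_of_nonneg (by positivity : (0 : ℤ) ≤ (c5 : ℤ))] at h2
  have h3 : |s - 1| ≤ q + 1 := by
    have := abs_sub s 1
    rw [h.abs_s] at this
    simpa using this
  calc (c : ℤ) * e ≤ c5 * |s - 1| := h2
    _ ≤ c5 * (q + 1) := by gcongr

end SixN

/-- the types of an element order `N` prime to `M` (and larger than `q ^ 3`), with the relation `A M = B N + C` -/
def Ty (p : ℕ) (s : ℤ) (c c5 N : ℕ) (A B C : ℤ) : Prop :=
  (∃ j : ℤ, (c : ℤ) * N * j = s ^ 5 + s ^ 4 + s ^ 3 + s ^ 2 + s + 1 ∧ A = c5 * s ∧ B = c * j ∧ C = -1) ∨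
  (∃ j : ℤ, (N : ℤ) * j = s ^ 4 - 1 ∧ A = c5 * (s - 1) ∧ B = s * j ∧ C = s - 1) ∨
  (∃ j : ℤ, (c : ℤ) * N * j = p * (s ^ 4 - 1) ∧ A = c5 * (s - 1) ∧ p * B = s * c * j ∧ C = s - 1) ∨
  (∃ j : ℤ, (N : ℤ) * j = (s ^ 3 - 1) * (s + 1) ∧ A = c5 ∧ B = j ∧ C = s ^ 2 + 2 * s + 2) ∨
  (∃ j : ℤ, (N : ℤ) * j = p * (s ^ 3 - 1) ∧ A = c5 * (s - 1) ∧ p * B = s ^ 2 * j ∧ C = s ^ 2 - 1)

namespace SixN

theorem ty (h : SixN p q s c c5 M) {N : ℕ} (hN : Up p s c N) (hcop : Nat.Coprime N M) (hbig : q ^ 3 < N)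
    (hq3 : q = 3 → 72 < N) :
    ∃ A B C : ℤ, Ty p s c c5 N A B C := by
  have hp0 : (p : ℤ) ≠ 0 := by exact_mod_cast h.hp.ne_zero
  have hq := h.q3
  have hqz : (3 : ℤ) ≤ q := by exact_mod_cast hq
  have hbz : (q : ℤ) ^ 3 < N := by exact_mod_cast hbig
  have hcpos : (2 : ℤ) ≤ c := by rcases h.c_or with h1 | h1 <;> rw [h1] <;> norm_num
  have hs2 := h.sq_s
  have hsq1 : 0 < s ^ 2 - 1 := by rw [hs2]; nlinarith
  rcases hN with h1 | h1 | h1 | h1 | h1 | h1 | h1 | h1 | h1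
  · exfalso
    rw [← h.hM] at h1
    have h2 : IsCoprime ((c : ℤ) * N) M := by
      refine IsCoprime.mul_left ?_ (Nat.isCoprime_iff_coprime.mpr hcop)
      have h3 : IsCoprime (M : ℤ) (s - 1) := h.cop_d
      exact (h3.of_isCoprime_of_dvd_right h.c_dvd).symm
    have h3 := h2.dvd_of_dvd_mul_left h1
    have h4 := h.e_le h3
    have h5 : (c5 : ℤ) ≤ 5 := by rcases h.c5_or with h6 | h6 <;> rw [h6] <;> norm_num
    have h6 : 2 * (N : ℤ) ≤ 5 * (q + 1) := by nlinarith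
    nlinarith [sq_nonneg ((q : ℤ) - 3)]
  · obtain ⟨t, ht⟩ := h1
    refine ⟨_, _, _, Or.inl ⟨t, ?_, rfl, rfl, rfl⟩⟩
    have h2 := h.s_ne
    have h3 : (s - 1) * ((c : ℤ) * N * t) = (s - 1) * (s ^ 5 + s ^ 4 + s ^ 3 + s ^ 2 + s + 1) := by
      linear_combination -ht
    exact mul_left_cancel₀ h2 h3
  · obtain ⟨t, ht⟩ := h1
    exact ⟨_, _, _, Or.inr (Or.inl ⟨t, ht.symm, rfl, rfl, rfl⟩)⟩
  · obtain ⟨t, ht⟩ := h1
    obtain ⟨r, hr⟩ := h.p_dvd
    refine ⟨_, r * c * t, _, Or.inr (Or.inr (Or.inl ⟨t, ht.symm, rfl, ?_, rfl⟩))⟩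
    rw [hr]
    ring
  · obtain ⟨t, ht⟩ := h1
    exact ⟨_, _, _, Or.inr (Or.inr (Or.inr (Or.inl ⟨t, ht.symm, rfl, rfl, rfl⟩)))⟩
  · obtain ⟨t, ht⟩ := h1
    obtain ⟨r, hr⟩ := h.p_dvd
    refine ⟨_, r * s * t, _, Or.inr (Or.inr (Or.inr (Or.inr ⟨t, ht.symm, rfl, ?_, rfl⟩)))⟩
    rw [hr]
    ring
  · exfalso
    have h2 : (N : ℤ) ≤ p * (s ^ 2 - 1) := Int.le_of_dvd (by have := h.hp.pos; positivity) h1
    have h3 : (p : ℤ) ≤ q := by exact_mod_cast h.p_le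
    rw [hs2] at h2
    nlinarith
  · exfalso
    obtain ⟨hp3, h1⟩ := h1
    have h2 : (N : ℤ) ≤ 9 * (s ^ 2 - 1) := Int.le_of_dvd (by positivity) h1
    rw [hs2] at h2
    obtain ⟨f, hf, hqf⟩ := h.hq
    rcases Nat.lt_or_ge f 2 with hf2 | hf2
    · have hf1 : f = 1 := by omega
      have hq3' : q = 3 := by rw [hqf, hf1, hp3]; norm_num
      have := hq3 hq3'
      rw [hq3'] at h2
      have h4 : (72 : ℤ) < N := by exact_mod_cast this
      norm_num at h2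
      linarith
    · have h9 : 9 ≤ q := by
        rw [hqf, hp3]
        calc 9 = 3 ^ 2 := by norm_num
          _ ≤ 3 ^ f := Nat.pow_le_pow_right (by norm_num) hf2
      have h9z : (9 : ℤ) ≤ q := by exact_mod_cast h9
      nlinarith
  · exfalso
    have h2 : N ≤ 25 := Nat.le_of_dvd (by norm_num) h1.2
    have h3 : 3 ^ 3 ≤ q ^ 3 := Nat.pow_le_pow_left hq 3
    omega

end SixN

/-- the relation of a type -/
theorem Ty.rel (h : SixN p q s c c5 M) {N : ℕ} {A B C : ℤ} (ht : Ty p s c c5 N A B C) : A * M = B * N + C := by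
  have hp0 : (p : ℤ) ≠ 0 := by exact_mod_cast h.hp.ne_zero
  have h5 := h.phi
  rcases ht with ⟨j, h1, rfl, rfl, rfl⟩ | ⟨j, h1, rfl, rfl, rfl⟩ | ⟨j, h1, rfl, h2, rfl⟩ | ⟨j, h1, rfl, rfl, rfl⟩ |
    ⟨j, h1, rfl, h2, rfl⟩
  · linear_combination s * h5 - h1
  · linear_combination (s - 1) * h5 - s * h1
  · refine mul_left_cancel₀ hp0 ?_
    linear_combination p * (s - 1) * h5 - (N : ℤ) * h2 - s * h1
  · linear_combination h5 - h1
  · refine mul_left_cancel₀ hp0 ?_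
    linear_combination p * (s - 1) * h5 - (N : ℤ) * h2 - s ^ 2 * h1

theorem Ty.abs_A (h : SixN p q s c c5 M) {N : ℕ} {A B C : ℤ} (ht : Ty p s c c5 N A B C) : |A| ≤ c5 * (q + 1) := by
  have hqz : (3 : ℤ) ≤ q := by exact_mod_cast h.q3
  have hc : (0 : ℤ) ≤ c5 := by positivity
  have h3 : |s - 1| ≤ q + 1 := by
    have := abs_sub s 1
    rw [h.abs_s] at this
    simpa using this
  have h4 := h.abs_s
  rcases ht with ⟨j, h1, rfl, rfl, rfl⟩ | ⟨j, h1, rfl, rfl, rfl⟩ | ⟨j, h1, rfl, h2, rfl⟩ | ⟨j, h1, rfl, rfl, rfl⟩ |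
    ⟨j, h1, rfl, h2, rfl⟩
  · rw [abs_mul, abs_of_nonneg hc, h4]
    nlinarith
  · rw [abs_mul, abs_of_nonneg hc]
    gcongr
  · rw [abs_mul, abs_of_nonneg hc]
    gcongr
  · rw [abs_of_nonneg hc]
    nlinarith
  · rw [abs_mul, abs_of_nonneg hc]
    gcongr

theorem Ty.A_ne (h : SixN p q s c c5 M) {N : ℕ} {A B C : ℤ} (ht : Ty p s c c5 N A B C) : A ≠ 0 := by
  have hc : (c5 : ℤ) ≠ 0 := by rcases h.c5_or with h2 | h2 <;> rw [h2] <;> norm_num
  have hs : s ≠ 0 := by rcases h.s_cases with h1 | h1 <;> omega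
  have hs1 := h.s_ne
  rcases ht with ⟨j, h1, rfl, rfl, rfl⟩ | ⟨j, h1, rfl, rfl, rfl⟩ | ⟨j, h1, rfl, h2, rfl⟩ | ⟨j, h1, rfl, rfl, rfl⟩ |
    ⟨j, h1, rfl, h2, rfl⟩
  · exact mul_ne_zero hc hs
  · exact mul_ne_zero hc hs1
  · exact mul_ne_zero hc hs1
  · exact hc
  · exact mul_ne_zero hc hs1

/-- either `|C| ≤ q + 1`, or `N` is small -/
theorem Ty.abs_C (h : SixN p q s c c5 M) {N : ℕ} {A B C : ℤ} (ht : Ty p s c c5 N A B C) :
    |C| ≤ q + 1 ∨ (|C| ≤ (q + 1) ^ 2 + 1 ∧ (N : ℤ) ≤ (q ^ 3 + 1) * (q + 1)) := by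
  have hqz : (3 : ℤ) ≤ q := by exact_mod_cast h.q3
  have h3 : |s - 1| ≤ q + 1 := by
    have := abs_sub s 1
    rw [h.abs_s] at this
    simpa using this
  have h3' : |s + 1| ≤ q + 1 := by
    have := abs_add_le s 1
    rw [h.abs_s] at this
    simpa using this
  have h33 : |s ^ 3 - 1| ≤ (q : ℤ) ^ 3 + 1 := by
    have := abs_sub (s ^ 3) 1
    rw [abs_pow, h.abs_s] at this
    simpa using this
  have hs2 := h.sq_s
  have hsne : s - 1 ≠ 0 := h.s_ne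
  have hs1ne : s + 1 ≠ 0 := by rcases h.s_cases with h1 | h1 <;> omega
  have hs3ne : s ^ 3 - 1 ≠ 0 := by
    intro h0
    have h1 : (s - 1) * (s ^ 2 + s + 1) = 0 := by linear_combination h0
    rcases mul_eq_zero.mp h1 with h2 | h2
    · exact hsne h2
    · nlinarith [sq_nonneg (2 * s + 1)]
  rcases ht with ⟨j, h1, rfl, rfl, rfl⟩ | ⟨j, h1, rfl, rfl, rfl⟩ | ⟨j, h1, rfl, h2, rfl⟩ | ⟨j, h1, rfl, rfl, rfl⟩ |
    ⟨j, h1, rfl, h2, rfl⟩
  · left
    rw [abs_neg, abs_one]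
    linarith
  · left
    exact h3
  · left
    exact h3
  · right
    refine ⟨?_, ?_⟩
    · have h4 : s ^ 2 + 2 * s + 2 = (s + 1) ^ 2 + 1 := by ring
      rw [h4, abs_of_nonneg (by positivity), ← sq_abs (s + 1)]
      have := abs_nonneg (s + 1)
      nlinarith
    · have h4 : (N : ℤ) ∣ |(s ^ 3 - 1) * (s + 1)| := (dvd_abs _ _).mpr ⟨B, h1.symm⟩
      have h5 := Int.le_of_dvd (abs_pos.mpr (mul_ne_zero hs3ne hs1ne)) h4
      rw [abs_mul] at h5
      calc (N : ℤ) ≤ |s ^ 3 - 1| * |s + 1| := h5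
        _ ≤ (q ^ 3 + 1) * (q + 1) := by gcongr
  · right
    refine ⟨?_, ?_⟩
    · rw [hs2, abs_of_nonneg (by nlinarith)]
      nlinarith
    · have hp0 : (p : ℤ) ≠ 0 := by exact_mod_cast h.hp.ne_zero
      have h4 : (N : ℤ) ∣ |p * (s ^ 3 - 1)| := (dvd_abs _ _).mpr ⟨j, h1.symm⟩
      have h5 := Int.le_of_dvd (abs_pos.mpr (mul_ne_zero hp0 hs3ne)) h4
      rw [abs_mul, abs_of_nonneg (by positivity)] at h5
      have h6 : (p : ℤ) ≤ q := by exact_mod_cast h.p_le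
      calc (N : ℤ) ≤ p * |s ^ 3 - 1| := h5
        _ ≤ q * (q ^ 3 + 1) := by gcongr
        _ ≤ (q ^ 3 + 1) * (q + 1) := by nlinarith [pow_pos (by linarith : (0 : ℤ) < q) 3]

/-- **the bracket lemma**.  `T = M e` and `N` are two element orders, `N` prime to `M`, `N > q ^ 3` (`N > 72` if `q = 3`), and
`α T + β N = γ`; then one of the two orders is small, or we are in a zero case -/
theorem SixN.bracket (h : SixN p q s c c5 M) {e N : ℕ} (hN : Up p s c N) (hcop : Nat.Coprime N M)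
    (hbig : q ^ 3 < N) (hq3 : q = 3 → 72 < N) {α β γ : ℤ} (hrel : α * (M * e : ℕ) + β * N = γ) :
    (N : ℤ) ≤ 2 * (c5 * (q + 1) + 1) * |γ| ∨ (M : ℤ) < 2 * |β| * (q + 1) ∨
      ((M : ℤ) < 2 * |β| * ((q + 1) ^ 2 + 1) ∧ (N : ℤ) ≤ (q ^ 3 + 1) * (q + 1)) ∨
      ∃ A B C : ℤ, Ty p s c c5 N A B C ∧ A * β + α * e * B = 0 ∧ A * γ = α * e * C ∧ B * γ = -(β * C) := by
  obtain ⟨A, B, C, ht⟩ := h.ty hN hcop hbig hq3
  have hr := ht.rel h
  have hA := ht.abs_A h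
  have hC := ht.abs_C h
  have hA0 := ht.A_ne h
  have hqz : (3 : ℤ) ≤ q := by exact_mod_cast h.q3
  have hMz : (0 : ℤ) < M := by exact_mod_cast h.M_pos
  have hNz : (0 : ℤ) < N := by
    have : 0 < N := by
      have := pow_pos (show 0 < q by have := h.q3; omega) 3
      omega
    exact_mod_cast this
  push_cast at hrel
  have hkey : (M : ℤ) * (A * β + α * e * B) = B * γ + β * C := by
    linear_combination β * hr + B * hrel
  by_cases hD : A * β + α * e * B = 0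
  · right; right; right
    refine ⟨A, B, C, ht, hD, ?_, ?_⟩
    · linear_combination (-A) * hrel + α * e * hr + N * hD
    · rw [hD, mul_zero] at hkey
      linarith
  · -- nonzero
    have hge : (M : ℤ) ≤ |B| * |γ| + |β| * |C| := by
      have h1 : (M : ℤ) ≤ |(M : ℤ) * (A * β + α * e * B)| := by
        rw [abs_mul, abs_of_nonneg hMz.le]
        have : 1 ≤ |A * β + α * e * B| := Int.one_le_abs hD
        nlinarith
      rw [hkey] at h1
      calc (M : ℤ) ≤ |B * γ + β * C| := h1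
        _ ≤ |B * γ| + |β * C| := abs_add_le _ _
        _ = |B| * |γ| + |β| * |C| := by rw [abs_mul, abs_mul]
    have hNB : (N : ℤ) * |B| ≤ |A| * M + |C| := by
      have h1 : (N : ℤ) * |B| = |A * M - C| := by
        have : A * M - C = N * B := by linear_combination hr
        rw [this, abs_mul, abs_of_nonneg hNz.le]
      rw [h1]
      calc |A * M - C| ≤ |A * M| + |C| := abs_sub _ _
        _ = |A| * M + |C| := by rw [abs_mul, abs_of_nonneg hMz.le]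
    have hCM : |C| ≤ M := by
      have := h.big
      rcases hC with h1 | h1
      · nlinarith
      · linarith [h1.1]
    by_cases hb : (M : ℤ) < 2 * |β| * |C|
    · right
      rcases hC with h1 | h1
      · left
        have := abs_nonneg β
        calc (M : ℤ) < 2 * |β| * |C| := hb
          _ ≤ 2 * |β| * (q + 1) := by gcongr
      · right; left
        refine ⟨?_, h1.2⟩
        have := abs_nonneg β
        calc (M : ℤ) < 2 * |β| * |C| := hb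
          _ ≤ 2 * |β| * ((q + 1) ^ 2 + 1) := by gcongr; exact h1.1
    · left
      push Not at hb
      have h1 : (M : ℤ) ≤ 2 * (|B| * |γ|) := by nlinarith
      have h2 : (M : ℤ) * N ≤ M * (2 * (c5 * (q + 1) + 1) * |γ|) := by
        have hγ := abs_nonneg γ
        calc (M : ℤ) * N ≤ 2 * (|B| * |γ|) * N := by gcongr
          _ = 2 * |γ| * (N * |B|) := by ring
          _ ≤ 2 * |γ| * (|A| * M + |C|) := by gcongr
          _ ≤ 2 * |γ| * (c5 * (q + 1) * M + M) := by gcongr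
          _ = M * (2 * (c5 * (q + 1) + 1) * |γ|) := by ring
      exact le_of_mul_le_mul_left h2 hMz

/-- the zero case, type by type -/
def Zero (p : ℕ) (s : ℤ) (c c5 N e : ℕ) (α β γ : ℤ) : Prop :=
  (c5 * s * γ = -(α * e) ∧ ∃ j : ℤ, (c : ℤ) * N * j = s ^ 5 + s ^ 4 + s ^ 3 + s ^ 2 + s + 1 ∧ c * j * γ = β) ∨
  (c5 * γ = α * e ∧ ∃ j : ℤ, (N : ℤ) * j = s ^ 4 - 1 ∧ s * j * γ = -(β * (s - 1))) ∨
  (c5 * γ = α * e ∧ ∃ j : ℤ, (c : ℤ) * N * j = p * (s ^ 4 - 1) ∧ s * c * j * γ = -(β * p * (s - 1))) ∨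
  (c5 * γ = α * e * (s ^ 2 + 2 * s + 2) ∧ ∃ j : ℤ, (N : ℤ) * j = (s ^ 3 - 1) * (s + 1) ∧
    j * γ = -(β * (s ^ 2 + 2 * s + 2))) ∨
  (c5 * γ = α * e * (s + 1) ∧ ∃ j : ℤ, (N : ℤ) * j = p * (s ^ 3 - 1) ∧ s ^ 2 * j * γ = -(β * p * (s ^ 2 - 1)))

/-- **the bracket lemma**, with the explicit zero cases -/
theorem SixN.bracket' (h : SixN p q s c c5 M) {e N : ℕ} (hN : Up p s c N) (hcop : Nat.Coprime N M)
    (hbig : q ^ 3 < N) (hq3 : q = 3 → 72 < N) {α β γ : ℤ} (hrel : α * (M * e : ℕ) + β * N = γ) :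
    (N : ℤ) ≤ 2 * (c5 * (q + 1) + 1) * |γ| ∨ (M : ℤ) < 2 * |β| * (q + 1) ∨
      ((M : ℤ) < 2 * |β| * ((q + 1) ^ 2 + 1) ∧ (N : ℤ) ≤ (q ^ 3 + 1) * (q + 1)) ∨
      Zero p s c c5 N e α β γ := by
  rcases h.bracket hN hcop hbig hq3 hrel with h1 | h1 | h1 | ⟨A, B, C, ht, -, h2, h3⟩
  · exact Or.inl h1
  · exact Or.inr (Or.inl h1)
  · exact Or.inr (Or.inr (Or.inl h1))
  · right; right; right
    have hs1 := h.s_ne
    rcases ht with ⟨j, h4, rfl, rfl, rfl⟩ | ⟨j, h4, rfl, rfl, rfl⟩ | ⟨j, h4, rfl, h5, rfl⟩ | ⟨j, h4, rfl, rfl, rfl⟩ |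
      ⟨j, h4, rfl, h5, rfl⟩
    · exact Or.inl ⟨by linarith, j, h4, by linarith⟩
    · refine Or.inr (Or.inl ⟨mul_left_cancel₀ hs1 (by linarith), j, h4, by linarith⟩)
    · refine Or.inr (Or.inr (Or.inl ⟨mul_left_cancel₀ hs1 (by linarith), j, h4, ?_⟩))
      linear_combination p * h3 - γ * h5
    · exact Or.inr (Or.inr (Or.inr (Or.inl ⟨by linarith, _, h4, by linarith⟩)))
    · refine Or.inr (Or.inr (Or.inr (Or.inr ⟨mul_left_cancel₀ hs1 (by linear_combination h2), j, h4, ?_⟩)))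
      linear_combination p * h3 - γ * h5

end Cfsg.Agent.R2.Spec.X7.N6
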