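import Cfsg.Agent.R2.Spec.X7.N6.Good
import Cfsg.Agent.R2.Spec.X7.N6.Core
import Cfsg.Agent.R2.Spec.X7.N6.L2

/-!
# Box X7, `n = 6` (helper15, S3435): the context

`Ctx t p f L t' v f' c c5 M S` : `L = L₆(s)`, `s = sg t (p ^ f)`, `G` isospectral to `L`, `K` the radical, `S` the socle of `G / K`,
classical of type `t'` in characteristic `v ≠ p`; `SixN` the numbers.
-/

set_option autoImplicit false
set_option linter.unusedSectionVars false
set_option linter.unusedVariables false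

namespace Cfsg.Agent.R2.Spec.X7.N6

open Subgroup Cfsg
open Cfsg.Agent.H426.LieFam Cfsg.Agent.R2.Spec Cfsg.Agent.R2.Spec.P1 Cfsg.Agent.R2.Spec.F1
open Cfsg.Agent.H72 Cfsg.Agent.H420.QR Cfsg.Agent.R2.Spec.E

universe u w

/-- the context: `S` classical of type `t'` in characteristic `v` -/
structure Ctx (t : Fam) (p f : ℕ) (L : Type w) [Group L] [Finite L] (G : Type u) [Group G] [Finite G]
    (K : Subgroup G) [K.Normal] (S : Subgroup (G ⧸ K)) [S.Normal] (t' : Fam) (v f' : ℕ) (c c5 M : ℕ) : Prop where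
  isL : Fam.Is p f L t
  h : LS t p f L G
  hR : Red G K S
  hF : Frm G K S t' v f'
  p2 : p ≠ 2
  vp : v ≠ p
  t6 : T6 t
  n : SixN p (p ^ f) (sg t (p ^ f)) c c5 M

variable {t : Fam} {p f : ℕ} {L : Type w} [Group L] [Finite L] {G : Type u} [Group G] [Finite G]
variable {K : Subgroup G} [K.Normal] {S : Subgroup (G ⧸ K)} [S.Normal] {t' : Fam} {v f' : ℕ} {c c5 M : ℕ}

theorem exists_sixN (ht : T6 t) (hp : p.Prime) (hp2 : p ≠ 2) (hf : 1 ≤ f) :
    ∃ c c5 M : ℕ, SixN p (p ^ f) (sg t (p ^ f)) c c5 M := by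
  have hs : sg t (p ^ f) = ((p ^ f : ℕ) : ℤ) ∨ sg t (p ^ f) = -((p ^ f : ℕ) : ℤ) := by
    rcases ht with rfl | rfl
    · exact Or.inl rfl
    · exact Or.inr rfl
  generalize sg t (p ^ f) = s at hs
  have hmod : ((Nat.gcd 5 (s - 1).natAbs : ℕ) : ℤ) ∣ s ^ 4 + s ^ 3 + s ^ 2 + s + 1 := by
    have h5 : ((Nat.gcd 5 (s - 1).natAbs : ℕ) : ℤ) ∣ s - 1 := Int.natCast_dvd.mpr (Nat.gcd_dvd_right _ _)
    have h6 : ((Nat.gcd 5 (s - 1).natAbs : ℕ) : ℤ) ∣ 5 := by exact_mod_cast Nat.gcd_dvd_left 5 (s - 1).natAbs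
    have h7 : s ^ 4 + s ^ 3 + s ^ 2 + s + 1 = (s - 1) * (s ^ 3 + 2 * s ^ 2 + 3 * s + 4) + 5 := by ring
    rw [h7]
    exact dvd_add (h5.mul_right _) h6
  obtain ⟨M, hM⟩ := hmod
  have hpos : 0 < s ^ 4 + s ^ 3 + s ^ 2 + s + 1 := by nlinarith [sq_nonneg (s ^ 2 + s), sq_nonneg (s + 1), sq_nonneg s]
  have hg0 : (0 : ℤ) < (Nat.gcd 5 (s - 1).natAbs : ℕ) := by
    exact_mod_cast Nat.gcd_pos_of_pos_left _ (by norm_num)
  have hM0 : 0 ≤ M := by
    by_contra hcon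
    push Not at hcon
    nlinarith
  lift M to ℕ using hM0
  refine ⟨_, _, M, ⟨hp, hp2, ⟨f, hf, rfl⟩, hs, rfl, rfl, ?_⟩⟩
  linear_combination (-(s - 1)) * hM

namespace Ctx

theorem cls5 (X : Ctx t p f L G K S t' v f' c c5 M) {r : ℕ} (hr : r.Prime) (hrM : r ∣ M) : cls t (p ^ f) r = 5 := by
  have hrf := Fact.mk hr
  have n := X.n
  have h1 : (r : ℤ) ∣ M := by exact_mod_cast hrM
  have h2 : (r : ℤ) ∣ sg t (p ^ f) ^ 5 - 1 := by
    rw [← n.hM]
    exact h1.mul_right _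
  have h3 := (ZMod.intCast_zmod_eq_zero_iff_dvd _ r).2 h2
  push_cast at h3
  have h4 : ((sg t (p ^ f) : ℤ) : ZMod r) ^ 5 = 1 := by linear_combination h3
  rcases (Nat.dvd_prime (by norm_num : Nat.Prime 5)).1 (orderOf_dvd_of_pow_eq_one h4) with h5 | h5
  · exfalso
    rw [orderOf_eq_one_iff] at h5
    have h6 : (r : ℤ) ∣ sg t (p ^ f) - 1 := by
      rw [← ZMod.intCast_zmod_eq_zero_iff_dvd]
      push_cast
      rw [h5]
      ring
    have h7 := n.cop_d.isUnit_of_dvd' h1 h6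
    have h8 := Int.natAbs_of_isUnit h7
    simp at h8
    have := hr.two_le
    omega
  · exact h5

theorem in5 (X : Ctx t p f L G K S t' v f' c c5 M) {r : ℕ} (hr : r.Prime) (hrM : r ∣ M) : In t (p ^ f) 5 r :=
  ⟨hr, X.cls5 hr hrM, by norm_num, X.t6.mem_iff.2 (by norm_num)⟩

theorem good5 (X : Ctx t p f L G K S t' v f' c c5 M) {r : ℕ} (hr : r.Prime) (hrM : r ∣ M) :
    ¬ r ∣ Nat.card K * S.index ∧ r ∣ Nat.card S :=
  LS.good5 X.h X.hR X.hF X.p2 X.vp X.t6 hr (X.cls5 hr hrM)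

theorem up (X : Ctx t p f L G K S t' v f' c c5 M) (g : G) : Up p (sg t (p ^ f)) c (orderOf g) := by
  obtain ⟨x, hx⟩ := (X.h.ord _).1 ⟨g, rfl⟩
  rw [← hx]
  have hc := X.n.hc
  rw [hc]
  rcases X.t6 with ht | ht
  · have hL := X.isL
    rw [ht] at hL ⊢
    exact up_psl X.h.prime X.p2 hL x
  · have hL := X.isL
    rw [ht] at hL ⊢
    exact up_psu X.h.prime X.p2 hL x

theorem upS (X : Ctx t p f L G K S t' v f' c c5 M) (x : S) : Up p (sg t (p ^ f)) c (orderOf x) := by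
  obtain ⟨g, hg⟩ := F1.exists_of_S (K := K) ⟨x, rfl⟩
  rw [← hg]
  exact X.up g

/-- the torus of the class five -/
theorem eltA5 (X : Ctx t p f L G K S t' v f' c c5 M) :
    ∃ g : G, orderOf g * c = (sg t (p ^ f) ^ 5 - 1).natAbs := by
  have hT := top_facts_all X.t6.cla X.h.prime X.isL
  have htop : top t 5 := by
    rcases X.t6 with rfl | rfl
    · exact ⟨by norm_num, Or.inr rfl⟩
    · exact ⟨by norm_num, Or.inr rfl⟩
  obtain ⟨x, hx⟩ := hT.elt 5 htop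
  obtain ⟨g, hg⟩ := (X.h.ord _).2 ⟨x, hx⟩
  refine ⟨g, ?_⟩
  rw [hg]
  have hc := X.n.hc
  have hcs : c ∣ (sg t (p ^ f) ^ 5 - 1).natAbs := by
    have h1 := X.n.c_dvd
    have h2 : (c : ℤ) ∣ sg t (p ^ f) ^ 5 - 1 := h1.trans ⟨sg t (p ^ f) ^ 4 + sg t (p ^ f) ^ 3 + sg t (p ^ f) ^ 2 + sg t (p ^ f) + 1, by ring⟩
    exact Int.natCast_dvd.mp h2
  have hq := X.n.q3
  generalize p ^ f = q at *
  rcases X.t6 with rfl | rfl
  · have e1 : ttor (.psl 6) q 5 = (q ^ 5 - 1) / Nat.gcd 6 (q - 1) := by rw [ttor, if_neg (by norm_num)]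
    have e2 : Nat.gcd 6 (q - 1) = c := by
      rw [hc]
      congr 1
      change q - 1 = ((q : ℤ) - 1).natAbs
      omega
    have e3 : (sg (.psl 6) q ^ 5 - 1).natAbs = q ^ 5 - 1 := by
      change ((q : ℤ) ^ 5 - 1).natAbs = q ^ 5 - 1
      have : 1 ≤ q ^ 5 := Nat.one_le_pow _ _ (by omega)
      have h2 : ((q : ℤ) ^ 5 - 1) = ((q ^ 5 - 1 : ℕ) : ℤ) := by
        rw [Nat.cast_sub this]
        push_cast
        ring
      rw [h2, Int.natAbs_natCast]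
    rw [e3] at hcs ⊢
    rw [e1, e2]
    exact Nat.div_mul_cancel hcs
  · have e1 : ttor (.psu 6) q 5 = (q ^ 5 + 1) / Nat.gcd 6 (q + 1) := by
      rw [ttor, if_neg (by norm_num), if_pos (by norm_num)]
    have e2 : Nat.gcd 6 (q + 1) = c := by
      rw [hc]
      congr 1
      change q + 1 = (-(q : ℤ) - 1).natAbs
      omega
    have e3 : (sg (.psu 6) q ^ 5 - 1).natAbs = q ^ 5 + 1 := by
      change ((-(q : ℤ)) ^ 5 - 1).natAbs = q ^ 5 + 1
      have h2 : ((-(q : ℤ)) ^ 5 - 1) = -((q ^ 5 + 1 : ℕ) : ℤ) := by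
        push_cast
        ring
      rw [h2, Int.natAbs_neg, Int.natAbs_natCast]
    rw [e3] at hcs ⊢
    rw [e1, e2]
    exact Nat.div_mul_cancel hcs

/-- the torus of the class six -/
theorem eltA6 (X : Ctx t p f L G K S t' v f' c c5 M) :
    ∃ g : G, orderOf g * c * (sg t (p ^ f) - 1).natAbs = (sg t (p ^ f) ^ 6 - 1).natAbs := by
  have hT := top_facts_all X.t6.cla X.h.prime X.isL
  have htop : top t 6 := by
    rcases X.t6 with rfl | rfl
    · exact ⟨by norm_num, Or.inl rfl⟩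
    · exact ⟨by norm_num, Or.inl rfl⟩
  obtain ⟨x, hx⟩ := hT.elt 6 htop
  obtain ⟨g, hg⟩ := (X.h.ord _).2 ⟨x, hx⟩
  refine ⟨g, ?_⟩
  rw [hg]
  have hc := X.n.hc
  have hcs : (sg t (p ^ f) - 1).natAbs * c ∣ (sg t (p ^ f) ^ 6 - 1).natAbs := by
    obtain ⟨a, ha⟩ := X.n.c_dvd
    -- `c ∣ 6` and `c ∣ s - 1`
    have h6 : (c : ℤ) ∣ 6 := by
      have : c ∣ 6 := by
        rw [hc]
        exact Nat.gcd_dvd_left _ _
      exact_mod_cast this
    have h2 : (sg t (p ^ f) - 1) * (c : ℤ) ∣ sg t (p ^ f) ^ 6 - 1 := by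
      have h3 : sg t (p ^ f) ^ 6 - 1 = (sg t (p ^ f) - 1) * ((sg t (p ^ f) - 1) *
        (sg t (p ^ f) ^ 4 + 2 * sg t (p ^ f) ^ 3 + 3 * sg t (p ^ f) ^ 2 + 4 * sg t (p ^ f) + 5) + 6) := by ring
      rw [h3]
      refine mul_dvd_mul_left _ (dvd_add ?_ h6)
      exact Dvd.dvd.mul_right X.n.c_dvd _
    have h4 := Int.natAbs_dvd_natAbs.mpr h2
    rwa [Int.natAbs_mul, Int.natAbs_natCast] at h4
  have hq := X.n.q3
  generalize p ^ f = q at *
  rcases X.t6 with rfl | rfl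
  · have e1 : ttor (.psl 6) q 6 = (q ^ 6 - 1) / ((q - 1) * Nat.gcd 6 (q - 1)) := by rw [ttor, if_pos rfl]
    have e4 : (sg (.psl 6) q - 1).natAbs = q - 1 := by
      change ((q : ℤ) - 1).natAbs = q - 1
      omega
    have e2 : Nat.gcd 6 (q - 1) = c := by
      rw [hc, e4]
    have e3 : (sg (.psl 6) q ^ 6 - 1).natAbs = q ^ 6 - 1 := by
      change ((q : ℤ) ^ 6 - 1).natAbs = q ^ 6 - 1
      have : 1 ≤ q ^ 6 := Nat.one_le_pow _ _ (by omega)
      have h2 : ((q : ℤ) ^ 6 - 1) = ((q ^ 6 - 1 : ℕ) : ℤ) := by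
        rw [Nat.cast_sub this]
        push_cast
        ring
      rw [h2, Int.natAbs_natCast]
    rw [e3, e4] at hcs ⊢
    rw [e1, e2, mul_assoc, mul_comm c]
    exact Nat.div_mul_cancel hcs
  · have e1 : ttor (.psu 6) q 6 = (q ^ 6 - 1) / ((q + 1) * Nat.gcd 6 (q + 1)) := by
      rw [ttor, if_pos rfl, if_pos (by norm_num)]
    have e4 : (sg (.psu 6) q - 1).natAbs = q + 1 := by
      change (-(q : ℤ) - 1).natAbs = q + 1
      omega
    have e2 : Nat.gcd 6 (q + 1) = c := by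
      rw [hc, e4]
    have e3 : (sg (.psu 6) q ^ 6 - 1).natAbs = q ^ 6 - 1 := by
      change ((-(q : ℤ)) ^ 6 - 1).natAbs = q ^ 6 - 1
      have : 1 ≤ q ^ 6 := Nat.one_le_pow _ _ (by omega)
      have h2 : ((-(q : ℤ)) ^ 6 - 1) = ((q ^ 6 - 1 : ℕ) : ℤ) := by
        rw [Nat.cast_sub this]
        push_cast
        ring
      rw [h2, Int.natAbs_natCast]
    rw [e3, e4] at hcs ⊢
    rw [e1, e2, mul_assoc, mul_comm c]
    exact Nat.div_mul_cancel hcs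

/-- `M` is an element order of `S` -/
theorem eltM (X : Ctx t p f L G K S t' v f' c c5 M) : ∃ x : S, orderOf x = M := by
  have hgood : ∀ r : ℕ, r.Prime → r ∣ M → ¬ r ∣ Nat.card K * S.index := fun r hr hrM => (X.good5 hr hrM).1
  have hcK : Nat.Coprime M (Nat.card ↥K) := Nat.coprime_of_dvd fun r hr hrM hrK => hgood r hr hrM (hrK.mul_right _)
  have hcS : Nat.Coprime M S.index := Nat.coprime_of_dvd fun r hr hrM hrK => hgood r hr hrM (hrK.mul_left _)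
  refine Cfsg.Agent.H437.Win.exists_elt_factor hcK hcS ?_
  obtain ⟨g, hg⟩ := X.eltA5
  -- `M ∣ orderOf g`
  have h1 : M ∣ orderOf g := by
    obtain ⟨a, ha⟩ := X.n.c_dvd
    have hc0 : (c : ℤ) ≠ 0 := by rcases X.n.c_or with h | h <;> rw [h] <;> norm_num
    have h2 : ((orderOf g : ℤ) * c).natAbs = (sg t (p ^ f) ^ 5 - 1).natAbs := by
      rw [← hg, Int.natAbs_mul, Int.natAbs_natCast, Int.natAbs_natCast]
    have h3 : sg t (p ^ f) ^ 5 - 1 = (M * (c5 * a)) * c := by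
      rw [← X.n.hM, ha]
      ring
    rw [h3, Int.natAbs_mul, Int.natAbs_mul] at h2
    have h4 : (orderOf g : ℤ).natAbs = (M * (c5 * a) : ℤ).natAbs :=
      Nat.eq_of_mul_eq_mul_right (by rw [Int.natAbs_natCast]; rcases X.n.c_or with h | h <;> omega) h2
    rw [Int.natAbs_natCast, Int.natAbs_mul, Int.natAbs_natCast] at h4
    exact ⟨_, h4⟩
  obtain ⟨k, hk⟩ := h1
  have hk0 : k ≠ 0 := by
    rintro rfl
    rw [mul_zero] at hk
    exact (orderOf_pos g).ne' hk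
  exact ⟨g ^ k, by rw [orderOf_pow_of_dvd hk0 ⟨M, by rw [hk]; ring⟩, hk, Nat.mul_div_cancel _ (Nat.pos_of_ne_zero hk0)]⟩

theorem sec (X : Ctx t p f L G K S t' v f' c c5 M) : Sec p (p ^ f) (sg t (p ^ f)) c c5 M ↥S :=
  ⟨X.n, X.upS, X.eltM⟩

end Ctx

end Cfsg.Agent.R2.Spec.X7.N6
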