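import Mathlib
import Cfsg.Agent.R2.Spec.X7.N6.Core

/-!
# Box X7, `n = 6`, packet N6-E (helper9): the common tools

* `SW` : the section, as a property `W` of the set of element orders;
* `PI p s` : a multiple of all element orders of `L₆(s)`, `size1`, `size2` : the size of its divisors;
* `SW.up_prime` : an element order divisible by a prime of `M`.
-/

set_option autoImplicit false
set_option maxHeartbeats 1000000

namespace Cfsg.Agent.R2.Spec.X7.N6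

/-- the section: `W` is the set of its element orders -/
structure SW (p q : ℕ) (s : ℤ) (c c5 M : ℕ) (W : ℕ → Prop) : Prop where
  n : SixN p q s c c5 M
  up : ∀ E, W E → Up p s c E
  elt : W M
  mono : ∀ E E', E' ∣ E → W E → W E'

variable {p q : ℕ} {s : ℤ} {c c5 M : ℕ}

theorem Sec.sw {S : Type*} [Group S] [Finite S] (h : Sec p q s c c5 M S) :
    SW p q s c c5 M (fun E => ∃ x : S, orderOf x = E) := by
  refine ⟨h.n, ?_, h.elt, ?_⟩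
  · rintro _ ⟨x, rfl⟩
    exact h.up x
  · rintro _ E' hd ⟨x, rfl⟩
    obtain ⟨t, ht⟩ := hd
    have h0 : orderOf x ≠ 0 := (orderOf_pos x).ne'
    have ht0 : t ≠ 0 := by
      rintro rfl
      exact h0 (by rw [ht, mul_zero])
    refine ⟨x ^ t, ?_⟩
    rw [orderOf_pow_of_dvd ht0 (Dvd.intro_left E' ht.symm), ht, Nat.mul_div_cancel _ (Nat.pos_of_ne_zero ht0)]

/-- the contribution of the unipotent elements to the exponent -/
def KpE (p : ℕ) : ℕ := if p = 3 then 9 else if p = 5 then 25 else p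

/-- a multiple of all element orders -/
def PI (p : ℕ) (s : ℤ) : ℤ := KpE p * ((s ^ 4 - 1) * (s ^ 4 + s ^ 2 + 1) * (s ^ 4 + s ^ 3 + s ^ 2 + s + 1))

theorem p_dvd_KpE (p : ℕ) : (p : ℤ) ∣ KpE p := by
  unfold KpE
  split_ifs with h1 h2
  · rw [h1]; exact ⟨3, by norm_num⟩
  · rw [h2]; exact ⟨5, by norm_num⟩
  · exact dvd_rfl

theorem KpE_pos {p : ℕ} (hp : 0 < p) : 0 < KpE p := by
  unfold KpE
  split_ifs
  · norm_num
  · norm_num
  · exact hp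

theorem Up.dvd_PI {E : ℕ} (hs : s - 1 ≠ 0) (hu : Up p s c E) : (E : ℤ) ∣ PI p s := by
  have hp := p_dvd_KpE p
  have hP : (KpE p : ℤ) ∣ PI p s := ⟨_, rfl⟩
  rcases hu with h1 | h1 | h1 | h1 | h1 | h1 | h1 | h1 | h1
  · refine (dvd_trans (Dvd.intro_left _ rfl) h1).trans
      ⟨KpE p * ((s + 1) * (s ^ 2 + 1) * (s ^ 4 + s ^ 2 + 1)), ?_⟩
    unfold PI
    ring
  · have h2 : (s - 1) * (E : ℤ) ∣ (s - 1) * ((s + 1) * (s ^ 4 + s ^ 2 + 1)) := by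
      have e : (s - 1) * ((s + 1) * (s ^ 4 + s ^ 2 + 1)) = s ^ 6 - 1 := by ring
      rw [e]
      have h4 : (s - 1) * (E : ℤ) ∣ c * E * (s - 1) := ⟨c, by ring⟩
      exact h4.trans h1
    have h3 := (mul_dvd_mul_iff_left hs).mp h2
    refine h3.trans ⟨KpE p * ((s - 1) * (s ^ 2 + 1) * (s ^ 4 + s ^ 3 + s ^ 2 + s + 1)), ?_⟩
    unfold PI
    ring
  · refine h1.trans ⟨KpE p * ((s ^ 4 + s ^ 2 + 1) * (s ^ 4 + s ^ 3 + s ^ 2 + s + 1)), ?_⟩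
    unfold PI
    ring
  · obtain ⟨t, ht⟩ := hp
    refine (dvd_trans (Dvd.intro_left _ rfl) h1).trans
      ⟨t * ((s ^ 4 + s ^ 2 + 1) * (s ^ 4 + s ^ 3 + s ^ 2 + s + 1)), ?_⟩
    unfold PI
    rw [ht]
    ring
  · refine h1.trans ⟨KpE p * ((s ^ 2 + 1) * (s ^ 2 - s + 1) * (s ^ 4 + s ^ 3 + s ^ 2 + s + 1)), ?_⟩
    unfold PI
    ring
  · obtain ⟨t, ht⟩ := hp
    refine h1.trans ⟨t * ((s + 1) * (s ^ 2 + 1) * (s ^ 2 - s + 1) * (s ^ 4 + s ^ 3 + s ^ 2 + s + 1)), ?_⟩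
    unfold PI
    rw [ht]
    ring
  · obtain ⟨t, ht⟩ := hp
    refine h1.trans ⟨t * ((s ^ 2 + 1) * (s ^ 4 + s ^ 2 + 1) * (s ^ 4 + s ^ 3 + s ^ 2 + s + 1)), ?_⟩
    unfold PI
    rw [ht]
    ring
  · obtain ⟨hp3, h1⟩ := h1
    refine h1.trans ⟨(s ^ 2 + 1) * (s ^ 4 + s ^ 2 + 1) * (s ^ 4 + s ^ 3 + s ^ 2 + s + 1), ?_⟩
    unfold PI KpE
    rw [if_pos hp3]
    push_cast
    ring
  · obtain ⟨hp5, h1⟩ := h1
    have h2 : (E : ℤ) ∣ ((25 : ℕ) : ℤ) := Int.natCast_dvd_natCast.mpr h1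
    have h3 : ((25 : ℕ) : ℤ) = KpE p := by
      unfold KpE
      rw [if_neg (by omega), if_pos hp5]
    rw [h3] at h2
    exact h2.trans hP

namespace SixN

lemma q9 (h : SixN p q s c c5 M) (h5 : c5 = 5) : 9 ≤ q := by
  have h4 := h.c5_dvd
  rw [h5] at h4
  push_cast at h4
  have ho := h.odd_q
  have hq3 := h.q3
  by_contra hcon
  have hlt : q < 9 := by omega
  rcases h.hs with h6 | h6 <;> rw [h6] at h4 <;> interval_cases q <;> revert ho h4 <;> decide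

lemma KpE_le (h : SixN p q s c c5 M) : c5 * KpE p ≤ 15 * q := by
  have h3 := h.q3
  have hp := h.p_le
  unfold KpE
  split_ifs with h1 h2
  · rcases h.c5_or with h4 | h4
    · rw [h4]; omega
    · rw [h4]; omega
  · rcases h.c5_or with h4 | h4
    · rw [h4]; omega
    · exfalso
      have h5 := h.c5_dvd
      have h6 := h.p_dvd
      rw [h4] at h5
      rw [h2] at h6
      push_cast at h5 h6
      omega
  · rcases h.c5_or with h4 | h4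
    · rw [h4]; omega
    · rw [h4]; omega

lemma M_lo (h : SixN p q s c c5 M) : 8 * q ^ 4 ≤ 45 * M := by
  have h1 := h.lo
  have h3 : (3 : ℤ) ≤ q := by exact_mod_cast h.q3
  have key : 8 * (q : ℤ) ^ 4 ≤ 45 * M := by
    rcases h.c5_or with h2 | h2
    · rw [h2] at h1
      push_cast at h1
      nlinarith [mul_nonneg (by linarith : (0 : ℤ) ≤ (q : ℤ) - 3) (by positivity : (0 : ℤ) ≤ (q : ℤ) ^ 3),
        mul_nonneg (by linarith : (0 : ℤ) ≤ (q : ℤ) - 3) (by positivity : (0 : ℤ) ≤ (q : ℤ))]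
    · have h9 : (9 : ℤ) ≤ q := by exact_mod_cast h.q9 h2
      rw [h2] at h1
      push_cast at h1
      nlinarith [mul_nonneg (by linarith : (0 : ℤ) ≤ (q : ℤ) - 9) (by positivity : (0 : ℤ) ≤ (q : ℤ) ^ 3),
        mul_nonneg (by linarith : (0 : ℤ) ≤ (q : ℤ) - 9) (by positivity : (0 : ℤ) ≤ (q : ℤ))]
  exact_mod_cast key

lemma PI_le (h : SixN p q s c c5 M) : 3 * |PI p s| ≤ 50 * ((q : ℤ) ^ 9 * M) := by
  have h3 : (3 : ℤ) ≤ q := by exact_mod_cast h.q3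
  have hphi := h.phi
  have hs2 := h.sq_s
  have hs4 : s ^ 4 = (q : ℤ) ^ 4 := by
    calc s ^ 4 = (s ^ 2) ^ 2 := by ring
      _ = (q : ℤ) ^ 4 := by rw [hs2]; ring
  have hM : (0 : ℤ) ≤ M := by positivity
  have e1 : PI p s = (c5 * KpE p : ℕ) * (M * (((q : ℤ) ^ 4 - 1) * ((q : ℤ) ^ 4 + q ^ 2 + 1))) := by
    unfold PI
    rw [← hphi, hs4, hs2]
    push_cast
    ring
  have hpos : 0 ≤ ((q : ℤ) ^ 4 - 1) * ((q : ℤ) ^ 4 + q ^ 2 + 1) := by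
    have : (0 : ℤ) ≤ (q : ℤ) ^ 4 - 1 := by nlinarith [pow_le_pow_left₀ (by norm_num : (0 : ℤ) ≤ 3) h3 4]
    positivity
  have hK : ((c5 * KpE p : ℕ) : ℤ) ≤ 15 * q := by exact_mod_cast h.KpE_le
  have h9 : 9 * (((q : ℤ) ^ 4 - 1) * ((q : ℤ) ^ 4 + q ^ 2 + 1)) ≤ 10 * (q : ℤ) ^ 8 := by
    nlinarith [mul_nonneg (by nlinarith : (0 : ℤ) ≤ (q : ℤ) ^ 2 - 9) (by positivity : (0 : ℤ) ≤ (q : ℤ) ^ 6)]
  rw [e1, abs_of_nonneg (by positivity)]
  calc 3 * (((c5 * KpE p : ℕ) : ℤ) * (M * (((q : ℤ) ^ 4 - 1) * ((q : ℤ) ^ 4 + q ^ 2 + 1))))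
      ≤ 3 * (15 * q * (M * (((q : ℤ) ^ 4 - 1) * ((q : ℤ) ^ 4 + q ^ 2 + 1)))) := by gcongr
    _ = 5 * q * M * (9 * (((q : ℤ) ^ 4 - 1) * ((q : ℤ) ^ 4 + q ^ 2 + 1))) := by ring
    _ ≤ 5 * q * M * (10 * (q : ℤ) ^ 8) := by gcongr
    _ = 50 * ((q : ℤ) ^ 9 * M) := by ring

lemma PI_ne (h : SixN p q s c c5 M) : PI p s ≠ 0 := by
  have h3 : (3 : ℤ) ≤ q := by exact_mod_cast h.q3
  have hs2 := h.sq_s
  have hs4 : s ^ 4 = (q : ℤ) ^ 4 := by
    calc s ^ 4 = (s ^ 2) ^ 2 := by ring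
      _ = (q : ℤ) ^ 4 := by rw [hs2]; ring
  have hK : (KpE p : ℤ) ≠ 0 := by exact_mod_cast (KpE_pos h.hp.pos).ne'
  have h1 : s ^ 4 - 1 ≠ 0 := by
    rw [hs4]
    nlinarith [pow_le_pow_left₀ (by norm_num : (0 : ℤ) ≤ 3) h3 4]
  have h2 : s ^ 4 + s ^ 2 + 1 ≠ 0 := by positivity
  have h4 : s ^ 4 + s ^ 3 + s ^ 2 + s + 1 ≠ 0 := by
    rw [← h.phi]
    have := h.M_pos
    rcases h.c5_or with h5 | h5 <;> rw [h5] <;> positivity
  unfold PI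
  exact mul_ne_zero hK (mul_ne_zero (mul_ne_zero h1 h2) h4)

lemma size1 (h : SixN p q s c c5 M) {X k : ℕ} (hk : 0 < k) (hX : (X : ℤ) ∣ k * PI p s) :
    3 * X ≤ 50 * k * (q ^ 9 * M) := by
  have h0 : (k : ℤ) * PI p s ≠ 0 := mul_ne_zero (by exact_mod_cast hk.ne') h.PI_ne
  have h1 := Int.le_of_dvd (abs_pos.mpr h0) ((dvd_abs _ _).mpr hX)
  rw [abs_mul, abs_of_nonneg (by positivity : (0 : ℤ) ≤ (k : ℤ))] at h1
  have h2 := h.PI_le
  have h3 : (0 : ℤ) ≤ k := by positivity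
  have h4 : (3 : ℤ) * X ≤ 50 * k * (q ^ 9 * M) := by
    calc (3 : ℤ) * X ≤ 3 * (k * |PI p s|) := by gcongr
      _ = k * (3 * |PI p s|) := by ring
      _ ≤ k * (50 * ((q : ℤ) ^ 9 * M)) := by gcongr
      _ = 50 * k * (q ^ 9 * M) := by ring
  exact_mod_cast h4

lemma size2 (h : SixN p q s c c5 M) {X k : ℕ} (hk : 0 < k) (hX : (X : ℤ) ∣ k * PI p s) :
    81 * 8 ^ 9 * X ^ 4 ≤ k ^ 4 * (50 ^ 4 * 45 ^ 9 * M ^ 13) := by
  have h1 := h.size1 hk hX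
  have h2 := h.M_lo
  have h3 : (3 * X) ^ 4 ≤ (50 * k * (q ^ 9 * M)) ^ 4 := Nat.pow_le_pow_left h1 4
  have h4 : (8 * q ^ 4) ^ 9 ≤ (45 * M) ^ 9 := Nat.pow_le_pow_left h2 9
  calc 81 * 8 ^ 9 * X ^ 4 = 8 ^ 9 * (3 * X) ^ 4 := by ring
    _ ≤ 8 ^ 9 * (50 * k * (q ^ 9 * M)) ^ 4 := by gcongr
    _ = k ^ 4 * (50 ^ 4 * M ^ 4) * (8 * q ^ 4) ^ 9 := by ring
    _ ≤ k ^ 4 * (50 ^ 4 * M ^ 4) * (45 * M) ^ 9 := by gcongr
    _ = k ^ 4 * (50 ^ 4 * 45 ^ 9 * M ^ 13) := by ring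

end SixN

/-- Bezout -/
theorem mul_dvd_of {a b N α β k : ℤ} (ha : a ∣ N) (hb : b ∣ N) (h : α * a + β * b = k) : a * b ∣ k * N := by
  obtain ⟨x, hx⟩ := ha
  obtain ⟨y, hy⟩ := hb
  exact ⟨α * y + β * x, by linear_combination (-N) * h + α * a * hy + β * b * hx⟩

namespace SW

variable {W : ℕ → Prop}

theorem dvd_PI (h : SW p q s c c5 M W) {E : ℕ} (hE : W E) : (E : ℤ) ∣ PI p s := (h.up E hE).dvd_PI h.n.s_ne

/-- a prime of `M` divides only the orders of the first type -/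
theorem up_prime (h : SW p q s c c5 M W) {w E : ℕ} (hw : w.Prime) (hwM : w ∣ M) (hwE : w ∣ E) (hE : W E) :
    (c * E : ℤ) ∣ c5 * (s - 1) * M := by
  have hM : (w : ℤ) ∣ M := Int.natCast_dvd_natCast.mpr hwM
  have hE' : (w : ℤ) ∣ E := Int.natCast_dvd_natCast.mpr hwE
  have key : ∀ {X : ℤ} {k : ℕ},
      X ∣ (s * (s - 1) * (s + 1) * (s ^ 2 + 1) * (s ^ 2 + s + 1) * (s ^ 2 - s + 1)) ^ k → ¬ (w : ℤ) ∣ X := by
    intro X k hX hd
    have h1 : IsCoprime (M : ℤ) X := (h.n.cop.pow_right (n := k)).of_isCoprime_of_dvd_right hX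
    have h2 : IsUnit (w : ℤ) := h1.isUnit_of_dvd' hM hd
    have h3 := Int.natAbs_of_isUnit h2
    have h4 := hw.one_lt
    simp at h3
    omega
  have hpd := h.n.p_dvd
  have hpow : ∀ {X : ℤ}, (w : ℤ) ∣ X → (w : ℤ) ∣ X := fun h => h
  rcases h.up E hE with h1 | h1 | h1 | h1 | h1 | h1 | h1 | h1 | h1
  · rw [show (c5 : ℤ) * (s - 1) * M = M * (c5 * (s - 1)) by ring, h.n.hM]
    exact h1
  · have h2 : (E : ℤ) ∣ c * E * (s - 1) := ⟨c * (s - 1), by ring⟩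
    exact absurd (hE'.trans (h2.trans h1)) (key (X := s ^ 6 - 1) (k := 1) ⟨s * (s ^ 2 + 1), by ring⟩)
  · exact absurd (hE'.trans h1) (key (k := 1) ⟨s * (s ^ 2 + s + 1) * (s ^ 2 - s + 1), by ring⟩)
  · refine absurd (hE'.trans ((Dvd.intro_left _ rfl : (E : ℤ) ∣ c * E).trans h1)) (key (k := 1) ?_)
    obtain ⟨t, ht⟩ := hpd
    exact ⟨t * (s ^ 2 + s + 1) * (s ^ 2 - s + 1), by
      linear_combination ((s ^ 4 - 1) * (s ^ 2 + s + 1) * (s ^ 2 - s + 1)) * ht⟩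
  · exact absurd (hE'.trans h1) (key (k := 1) ⟨s * (s ^ 2 + 1) * (s ^ 2 - s + 1), by ring⟩)
  · refine absurd (hE'.trans h1) (key (k := 1) ?_)
    obtain ⟨t, ht⟩ := hpd
    exact ⟨t * (s + 1) * (s ^ 2 + 1) * (s ^ 2 - s + 1), by
      linear_combination ((s ^ 3 - 1) * (s + 1) * (s ^ 2 + 1) * (s ^ 2 - s + 1)) * ht⟩
  · refine absurd (hE'.trans h1) (key (k := 1) ?_)
    obtain ⟨t, ht⟩ := hpd
    exact ⟨t * (s ^ 2 + 1) * (s ^ 2 + s + 1) * (s ^ 2 - s + 1), by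
      linear_combination ((s ^ 2 - 1) * (s ^ 2 + 1) * (s ^ 2 + s + 1) * (s ^ 2 - s + 1)) * ht⟩
  · obtain ⟨hp3, h1⟩ := h1
    refine absurd (hE'.trans h1) (key (k := 2) ?_)
    obtain ⟨t, ht⟩ := hpd
    rw [hp3] at ht
    push_cast at ht
    refine ⟨t ^ 2 * (s ^ 2 - 1) * ((s ^ 2 + 1) * (s ^ 2 + s + 1) * (s ^ 2 - s + 1)) ^ 2, ?_⟩
    have h9 : 9 * t ^ 2 = s ^ 2 := by rw [ht]; ring
    linear_combination (-((s ^ 2 - 1) ^ 2 * ((s ^ 2 + 1) * (s ^ 2 + s + 1) * (s ^ 2 - s + 1)) ^ 2)) * h9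
  · obtain ⟨hp5, h1⟩ := h1
    have h2 : (w : ℤ) ∣ 25 := by
      have : w ∣ 25 := hwE.trans h1
      exact_mod_cast this
    refine absurd h2 (key (k := 2) ?_)
    obtain ⟨t, ht⟩ := hpd
    rw [hp5] at ht
    push_cast at ht
    refine ⟨(t * (s - 1) * (s + 1) * (s ^ 2 + 1) * (s ^ 2 + s + 1) * (s ^ 2 - s + 1)) ^ 2, ?_⟩
    have h9 : 25 * t ^ 2 = s ^ 2 := by rw [ht]; ring
    linear_combination (-(((s - 1) * (s + 1) * (s ^ 2 + 1) * (s ^ 2 + s + 1) * (s ^ 2 - s + 1)) ^ 2)) * h9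

/-- an order divisible by a prime of `M` is bounded -/
theorem up_prime_le (h : SW p q s c c5 M W) {w E : ℕ} (hw : w.Prime) (hwM : w ∣ M) (hwE : w ∣ E) (hE : W E) :
    c * E ≤ c5 * (q + 1) * M := by
  have h1 := h.up_prime hw hwM hwE hE
  have h2 : (c5 : ℤ) * (s - 1) * M ≠ 0 := by
    refine mul_ne_zero (mul_ne_zero ?_ h.n.s_ne) (by exact_mod_cast h.n.M_pos.ne')
    rcases h.n.c5_or with h2 | h2 <;> rw [h2] <;> norm_num
  have h3 := Int.le_of_dvd (abs_pos.mpr h2) ((dvd_abs _ _).mpr h1)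
  rw [abs_mul, abs_mul, abs_of_nonneg (by positivity : (0 : ℤ) ≤ (c5 : ℤ)),
    abs_of_nonneg (by positivity : (0 : ℤ) ≤ (M : ℤ))] at h3
  have h4 : |s - 1| ≤ q + 1 := by
    have := abs_sub s 1
    rw [h.n.abs_s] at this
    simpa using this
  have h5 : (c : ℤ) * E ≤ c5 * (q + 1) * M := by
    calc (c : ℤ) * E ≤ c5 * |s - 1| * M := h3
      _ ≤ c5 * (q + 1) * M := by gcongr
  exact_mod_cast h5

end SW

/-- a prime of `M` is at least `11` -/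
theorem SixN.prime_geE (h : SixN p q s c c5 M) {w : ℕ} (hw : w.Prime) (hwM : w ∣ M) : 11 ≤ w := by
  have := Fact.mk hw
  have hM : (w : ℤ) ∣ M := Int.natCast_dvd_natCast.mpr hwM
  have h5 : (w : ℤ) ∣ s ^ 5 - 1 := by
    rw [← h.hM]
    exact hM.mul_right _
  have h1 : ¬ (w : ℤ) ∣ s - 1 := by
    intro hd
    have h2 : IsUnit (w : ℤ) := h.cop_d.isUnit_of_dvd' hM hd
    have h3 := Int.natAbs_of_isUnit h2
    have h4 := hw.one_lt
    simp at h3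
    omega
  have hz : ((s : ZMod w)) ^ 5 = 1 := by
    have := (ZMod.intCast_zmod_eq_zero_iff_dvd (s ^ 5 - 1) w).mpr h5
    push_cast at this
    exact sub_eq_zero.mp this
  have hz1 : ((s : ZMod w)) ≠ 1 := by
    intro h0
    apply h1
    rw [← ZMod.intCast_zmod_eq_zero_iff_dvd]
    push_cast
    rw [h0, sub_self]
  have ho : orderOf (s : ZMod w) = 5 := by
    have : Fact (Nat.Prime 5) := ⟨by norm_num⟩
    exact orderOf_eq_prime hz hz1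
  have hd : 5 ∣ w - 1 := by
    rw [← ho]
    exact ZMod.orderOf_dvd_card_sub_one (fun h0 => by rw [h0] at hz; simp at hz)
  have h2 := hw.two_le
  obtain ⟨t, ht⟩ := hd
  rcases Nat.lt_or_ge t 2 with h3 | h3
  · have : t = 0 ∨ t = 1 := by omega
    rcases this with rfl | rfl
    · omega
    · have h6 : w = 6 := by omega
      rw [h6] at hw
      exact absurd hw (by norm_num)
  · omega

end Cfsg.Agent.R2.Spec.X7.N6
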