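import Cfsg.Agent.H378.Eng.Untw
import Cfsg.Agent.H378.TorDual
import Cfsg.Agent.H448.FprCent.Det

/-!
# Box X7, `n = 6`, packet N6-E (helper9): a bound for the element orders of `D.group F`

`order_bound` : the order of `a ∈ D.group F`, `|F| = q = p ^ e`, is `p ^ b m` with `m ≤ (q + 1) ^ l`, `p ^ (b - 1) < N`, `N` a bound
for the heights of the roots.
-/

set_option autoImplicit false
set_option linter.unusedSectionVars false

namespace Cfsg.Agent.R2.Spec.X7.N6.EB

open CoxeterSystem Cfsg Cfsg.Lie Cfsg.Lie.ChevalleyDatum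
open Cfsg.Agent.ChevalleyStructure Cfsg.Agent.ChevalleyStructure.Elts Cfsg.Agent.ChevalleyStructure.CoxeterGeom
  Cfsg.Agent.ChevalleyStructure.CoxeterGeomTypes Cfsg.Agent.ChevalleyStructure.NPerm
open Cfsg.Agent.Tits.Roots Cfsg.Agent.Tits.Core Cfsg.Agent.Nodes Cfsg.Agent.Nodes.Reps Cfsg.Agent.Nodes.BNOf
  Cfsg.Agent.Nodes.RGDChev Cfsg.Agent.Nodes.Bruhat
open Cfsg.Agent.KFacts.RgdField Cfsg.Agent.KFacts.RgdChevCoord
open Cfsg.Agent.BpExc Cfsg.Agent.BpExc.TorCent Cfsg.Agent.BpExc.TorChev Cfsg.Agent.BpExc.Tow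
  Cfsg.Agent.BpExc.TowChev Cfsg.Agent.BpExc.Fr Cfsg.Agent.BpExc.NInst Cfsg.Agent.BpExc.LangFr
open Cfsg.Agent.GpExc.Field (emb emb_injective)
open Cfsg.Agent.H129.TorusUntw Cfsg.Agent.H129.TorusChar Cfsg.Agent.BpExc.FamUntw
open Cfsg.Agent.H378 Cfsg.Agent.H378.Eng Cfsg.Agent.H378.TorDual

universe u v

theorem det_ne {l N : ℕ} {f : Module.End ℤ (Fin l → ℤ)} (hN : N ≠ 0) (hf : f ^ N = 1) {q : ℕ} (hq : 1 < q) :
    LinearMap.det (f - (q : ℤ) • (1 : Module.End ℤ (Fin l → ℤ))) ≠ 0 := by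
  intro h
  rw [LinearMap.det_eq_zero_iff_ker_ne_bot] at h
  obtain ⟨x, hx, hx0⟩ := (Submodule.ne_bot_iff _).1 h
  rw [LinearMap.mem_ker, LinearMap.sub_apply, LinearMap.smul_apply, Module.End.one_apply, sub_eq_zero] at hx
  have h1 : ∀ n : ℕ, (f ^ n) x = (q : ℤ) ^ n • x := by
    intro n
    induction n with
    | zero => simp
    | succ n ih => rw [pow_succ', Module.End.mul_apply, ih, map_smul, hx, smul_smul, pow_succ]
  have h2 := h1 N
  rw [hf, Module.End.one_apply] at h2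
  obtain ⟨i, hi⟩ := Function.ne_iff.1 hx0
  have h3 := congrFun h2 i
  rw [Pi.smul_apply, smul_eq_mul] at h3
  have h4 : ((q : ℤ) ^ N - 1) * x i = 0 := by linarith
  rcases mul_eq_zero.1 h4 with h5 | h5
  · have h6 : 1 < q ^ N := Nat.one_lt_pow hN hq
    have h7 : (1 : ℤ) < (q : ℤ) ^ N := by exact_mod_cast h6
    linarith
  · exact hi h5

/-- the multiples of the determinant are in the image -/
theorem exists_preim {l : ℕ} {f : Module.End ℤ (Fin l → ℤ)} (h : LinearMap.det f ≠ 0) (y : Fin l → ℤ) :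
    ∃ z, f z = (LinearMap.det f).natAbs • y := by
  have hfin := finite_co h
  have h1 : Nat.card (Co f) • (LinearMap.range f).mkQ y = 0 := card_nsmul_eq_zero'
  rw [card_co h, ← map_nsmul, Submodule.mkQ_apply, Submodule.Quotient.mk_eq_zero, LinearMap.mem_range] at h1
  exact h1

variable {D : ChevalleyDatum} {l : ℕ} {M : CoxeterMatrix (Fin l)} (hp : IsType D l M)
  {W : Type v} [Group W] (cs : CoxeterSystem M W)

section Alg

variable {k : Type u} [Field k] {p e : ℕ} [Fact p.Prime] [CharP k p]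

include hp in
/-- a character trivial on the image of `f` -/
theorem order_dvd_det {t : ↥(D.group k)} (ht : t ∈ TT D k) {f : Module.End ℤ (Fin l → ℤ)} (h : LinearMap.det f ≠ 0)
    (hf : ∀ x, cX hp t (f x) = 1) {G : Type*} [Group G] {s : G}
    (hs : ∀ a b : ℕ, (∀ j, cX hp t (sr j) ^ a = cX hp t (sr j) ^ b) → s ^ a = s ^ b) :
    orderOf s ∣ (LinearMap.det f).natAbs := by
  have hmc := isMC_cX hp ht
  rw [← Int.natCast_dvd_natCast]
  refine order_dvd (b := fun j : Fin l => cX hp t (sr j)) (fun j => hmc.ne_zero _) hs fun j => ?_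
  obtain ⟨z, hz⟩ := exists_preim h (sr j)
  show cX hp t (sr j) ^ (((LinearMap.det f).natAbs : ℕ) : ℤ) = 1
  rw [← hmc.zsmul, natCast_zsmul, ← hz, hf]

end Alg

include hp cs in
theorem order_bound [Finite W] {N : ℕ} (hN : ∀ a, IsRoot cs hp.isCartan a → Tits.Roots.ht a < N)
    {K : Type u} [Field K] [Finite K] {p : ℕ} [hpf : Fact p.Prime] [CharP K p] (a : ↥(D.group K)) :
    ∃ b m : ℕ, orderOf a = p ^ b * m ∧ ¬ p ∣ m ∧ m ≤ (Nat.card K + 1) ^ l ∧ (b ≠ 0 → p ^ (b - 1) < N) := by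
  have _i := Fintype.ofFinite K
  obtain ⟨k, _, _, f, r, _, hC, e, hk, hka, he, hq⟩ := TorFin.exists_closure K
  have hq' : Fintype.card K = r ^ e := by rw [← hq, Nat.card_eq_fintype_card]
  have hrp : r = p := by
    have h1 : CharP k p := charP_of_injective_ringHom f.injective p
    exact CharP.eq k hC h1
  subst hrp
  have hpp : r.Prime := hpf.out
  have ho : orderOf (emb hp.inList f a) = orderOf a := orderOf_injective _ (emb_injective hp.inList f) a
  set a' := emb hp.inList f a with ha'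
  have hσa : H129.TorusUntw.phi D k r e a' = a' := phi_emb hp f hq' a
  have hn0 : orderOf a' ≠ 0 := by rw [ho]; exact (orderOf_pos a).ne'
  obtain ⟨j, m, hpm, hn⟩ := Nat.exists_eq_pow_mul_and_not_dvd hn0 r hpp.ne_one
  have hm0 : m ≠ 0 := by
    rintro rfl
    rw [mul_zero] at hn
    exact hn0 hn
  have hpj : 0 < r ^ j := pow_pos hpp.pos j
  have hos : orderOf (a' ^ r ^ j) = m := by
    rw [orderOf_pow' _ hpj.ne', hn, Nat.gcd_mul_right_left, Nat.mul_div_cancel_left _ hpj]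
  have hou : orderOf (a' ^ m) = r ^ j := by
    rw [orderOf_pow' _ hm0, hn, Nat.gcd_mul_left_left, Nat.mul_div_cancel _ (Nat.pos_of_ne_zero hm0)]
  have hmp : m.Coprime r := ((Nat.Prime.coprime_iff_not_dvd hpp).2 hpm).symm
  have hNz : ∀ a, IsRoot cs hp.isCartan a → 0 ≤ a → Tits.Roots.ht a < (N : ℤ) := fun a ha _ => hN a ha
  obtain ⟨w, hw⟩ := exists_pair hp cs hka hk (isFrob_phi (D := D) (k := k) (p := r) (e := e))
    (fr_phi (p := r) (e := e) hp cs) hNz (s := a' ^ r ^ j) (u := a' ^ m)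
    (by rw [map_pow, hσa]) (by rw [← pow_add, ← pow_add, add_comm]) hm0 hmp
    (by rw [← pow_mul, ← hn, pow_orderOf_eq_one]) (j := j)
    (by rw [← pow_mul, mul_comm, ← hn, pow_orderOf_eq_one])
  obtain ⟨t, ht, hchi, hpow, hdep⟩ := hw 1
  have hq1 : 1 < r ^ e := by
    rw [← hq']
    exact Fintype.one_lt_card
  have hmc := isMC_cX hp ht
  have hNw : Nat.card W ≠ 0 := Nat.card_pos.ne'
  have hwN : (rep cs hp.isCartan w) ^ Nat.card W = 1 := by
    rw [← map_pow, pow_card_eq_one', map_one]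
  have hdet := det_ne hNw hwN hq1
  refine ⟨j, m, by rw [← ho, hn], hpm, ?_, ?_⟩
  · have h1 := order_dvd_det hp ht hdet (fun x => by
      rw [LinearMap.sub_apply, LinearMap.smul_apply, Module.End.one_apply, hmc.sub, hmc.zsmul, zpow_natCast]
      have h2 := hchi x
      rw [inv_one, map_one, Module.End.one_apply, Module.End.one_apply] at h2
      have h3 : cX hp t (rep cs hp.isCartan w x) = cX hp t x ^ r ^ e := h2
      rw [h3, div_self (pow_ne_zero _ (hmc.ne_zero _))]) hpow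
    rw [hos] at h1
    have h2 := Nat.le_of_dvd (Int.natAbs_pos.mpr hdet) h1
    rw [hq]
    exact h2.trans (Cfsg.Agent.H448.FprCent.natAbs_det_le hNw hwN (r ^ e))
  · intro hj
    by_contra hcon
    push Not at hcon
    have h1 : Expo.dep (SR hp cs t) (r ^ (j - 1)) = ∅ :=
      (clo_SR hp cs ht).empty_dep (N := (N : ℤ)) (fun a ha => hN a ha.1) (by exact_mod_cast hcon)
    have h2 := hdep (j - 1) h1
    have h4 : r ^ j ∣ r ^ (j - 1) := hou ▸ orderOf_dvd_of_pow_eq_one h2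
    rw [Nat.pow_dvd_pow_iff_le_right hpp.one_lt] at h4
    omega

end Cfsg.Agent.R2.Spec.X7.N6.EB
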