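import Cfsg.Agent.R2.Spec.X7.N6.Good
import Cfsg.Agent.R2.Spec.X7.N6.Def
import Cfsg.Agent.R2.Spec.F1.ExcTF4
import Cfsg.Agent.R2.Spec.EE.TabDef
import Cfsg.Agent.S0126

/-!
# Box X7, `n = 6`, packet N6-EG (helper22, S3435): the primes of class five are good, `S` exceptional

* `IsoT` : the classes of `S` which are not adjacent to the characteristic are pairwise nonadjacent and cliques;
* `twentyseven` : `27 ∣ |S|`;
* `good5_exc_of` : the theorem, from a table.
-/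

set_option autoImplicit false
set_option linter.unusedSectionVars false
set_option linter.unusedVariables false

namespace Cfsg.Agent.R2.Spec.X7.N6

open Subgroup Cfsg
open Cfsg.Agent.H426.LieFam Cfsg.Agent.R2.Spec Cfsg.Agent.R2.Spec.P1 Cfsg.Agent.R2.Spec.F1
open Cfsg.Agent.H72 Cfsg.Agent.H420.QR Cfsg.Agent.R2.Spec.E

universe u w

variable {t : Fam} {p f : ℕ} {L : Type w} [Group L] [Finite L] {G : Type u} [Group G] [Finite G]
variable {K : Subgroup G} [K.Normal] {S : Subgroup (G ⧸ K)} [S.Normal] {t' : Fam} {v f' : ℕ}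

/-- the classes which are not adjacent to the characteristic -/
def isoT (T : EE.Tab) : Bool :=
  (List.range T.n).all fun a => T.nt.testBit a || ((T.adj.getD a 0).testBit a &&
    (List.range T.n).all fun b => T.nt.testBit b || a == b || (T.na.getD a 0).testBit b)

theorem isoT_spec {T : EE.Tab} (h : isoT T = true) {a : ℕ} (ha : a < T.n) (hna : T.nt.testBit a = false) :
    (T.adj.getD a 0).testBit a = true ∧
      ∀ b, b < T.n → T.nt.testBit b = false → a ≠ b → (T.na.getD a 0).testBit b = true := by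
  unfold isoT at h
  rw [List.all_eq_true] at h
  have h1 := h a (List.mem_range.2 ha)
  rw [hna, Bool.false_or, Bool.and_eq_true, List.all_eq_true] at h1
  refine ⟨h1.1, fun b hb hnb hab => ?_⟩
  have h2 := h1.2 b (List.mem_range.2 hb)
  rw [hnb, Bool.false_or, Bool.or_eq_true, beq_iff_eq] at h2
  exact h2.resolve_left hab

/-- `z₃`, `p`, `z₄` are not all nonadjacent to the characteristic -/
theorem Four.exc {p z3 z4 z6 : ℕ} (q : Four G K S p z3 z4 z6) (hpv : p ≠ v) (hp5 : 5 ≤ p) {T : EE.Tab} {k : ℕ → ℕ}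
    (hS : EE.SOk T ↥S v k) (hT : isoT T = true) (h3 : z3 = v ∨ ¬ ∃ g : S, orderOf g = z3 * v)
    (h4 : z4 = v ∨ ¬ ∃ g : S, orderOf g = z4 * v) (hp : ¬ ∃ g : S, orderOf g = p * v) : False := by
  have e3 : z3 ≠ v := by
    rintro rfl
    exact hp (swap_adj q.a3p)
  have e4 : z4 ≠ v := by
    rintro rfl
    exact hp q.a4p
  have n3 := h3.resolve_left e3
  have n4 := h4.resolve_left e4
  have l3 := hS.lt z3 q.p3 q.f3 e3 q.d3
  have l4 := hS.lt z4 q.p4 q.f4 e4 q.d4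
  have lp := hS.lt p q.pp hp5 hpv q.dp
  have nb : ∀ {x : ℕ}, x.Prime → 5 ≤ x → x ≠ v → x ∣ Nat.card S → (¬ ∃ g : S, orderOf g = x * v) →
      T.nt.testBit (k x) = false := by
    intro x hx hx5 hxv hxS hn
    by_contra hcon
    exact hn (hS.nt x hx hx5 hxv hxS (by simpa using hcon))
  have b3 := nb q.p3 q.f3 e3 q.d3 n3
  have b4 := nb q.p4 q.f4 e4 q.d4 n4
  have bp := nb q.pp hp5 hpv q.dp hp
  have k3 : k z3 = k p := by
    by_contra hne
    exact hS.na z3 p q.p3 q.pp q.f3 hp5 e3 hpv q.n3p q.d3 q.dp ((isoT_spec hT l3 b3).2 _ lp bp hne) q.a3p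
  have k4 : k p = k z4 := by
    by_contra hne
    exact hS.na p z4 q.pp q.p4 hp5 q.f4 hpv e4 q.n4p.symm q.dp q.d4 ((isoT_spec hT lp bp).2 _ l4 b4 hne) q.a4p
  refine q.m34 (hS.adj z3 z4 q.p3 q.p4 q.f3 q.f4 e3 e4 q.n34 q.d3 q.d4 ?_)
  rw [← k4, ← k3]
  exact (isoT_spec hT l3 b3).1

theorem dvd_pow_sub {q : ℕ} (h : q % 3 ≠ 0) : 3 ∣ q ^ 2 - 1 ∧ 9 ∣ q ^ 6 - 1 := by
  have h1 : q ^ 2 % 3 = 1 := by
    rcases (by omega : q % 3 = 1 ∨ q % 3 = 2) with h | h <;> rw [Nat.pow_mod, h]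
  have h2 : q ^ 6 % 9 = 1 := by
    have key : ∀ a : ZMod 9, (a.val % 3 ≠ 0) → a ^ 6 = 1 := by decide
    have h3 := key (q : ZMod 9) (by
      rw [ZMod.val_natCast]
      omega)
    have h4 : ((q ^ 6 : ℕ) : ZMod 9) = ((1 : ℕ) : ZMod 9) := by push_cast; exact h3
    have h5 := (ZMod.natCast_eq_natCast_iff _ _ 9).1 h4
    exact h5
  constructor <;> omega

/-- the order of an exceptional group of characteristic `≠ 3` is divisible by `27` -/
theorem twentyseven {S : Type u} [Group S] [Finite S] (hv : v.Prime) (hv3 : v ≠ 3) (ht : Exc t')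
    (hS : Fam.Is v f' S t') (h3 : 3 ∣ Nat.card S) : 27 ∣ Nat.card S := by
  have hq3 : (v ^ f') % 3 ≠ 0 := by
    intro h0
    exact hv3 ((Nat.prime_dvd_prime_iff_eq Nat.prime_three hv).1
      (Nat.prime_three.dvd_of_dvd_pow (Nat.dvd_of_mod_eq_zero h0))).symm
  obtain ⟨k2, k6⟩ := dvd_pow_sub hq3
  have kk : ∀ n : ℕ, (v ^ f') ^ 2 - 1 ∣ (v ^ f') ^ (2 * n) - 1 := by
    intro n
    rw [pow_mul]
    exact Nat.sub_one_dvd_pow_sub_one _ _
  have k6' : ∀ n : ℕ, (v ^ f') ^ 6 - 1 ∣ (v ^ f') ^ (6 * n) - 1 := by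
    intro n
    rw [pow_mul]
    exact Nat.sub_one_dvd_pow_sub_one _ _
  have hpp : ∀ {F : Type} [Field F] [Fintype F] {n : ℕ}, Fintype.card F = (v ^ f') ^ n → IsPrimePow (v ^ f') := by
    intro F _ _ n hF
    exact hv.isPrimePow.pow (by have := Cfsg.Agent.R2.Spec.X4.H18.f_pos_of_card hF; omega)
  cases t' with
  | g2 =>
    obtain ⟨-, F, i1, i2, hch, hF, ⟨e⟩⟩ := hS
    rw [Nat.card_congr e.toEquiv, Cfsg.Agent.S1059.result hF]
    have := Nat.mul_dvd_mul k2 k6
    rw [mul_assoc]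
    exact this.mul_left _
  | f4 =>
    obtain ⟨F, i1, i2, hch, hF, ⟨e⟩⟩ := hS
    rw [Nat.card_congr e.toEquiv, Cfsg.Agent.S1062.result hF]
    have := Nat.mul_dvd_mul k2 k6
    rw [mul_assoc _ _ ((v ^ f') ^ 6 - 1)]
    exact ((this.mul_left _).mul_right _).mul_right _
  | e6 =>
    obtain ⟨F, i1, i2, hch, hF, ⟨e⟩⟩ := hS
    rw [Nat.card_congr e.toEquiv]
    have h1 := Cfsg.Agent.S1063.result hF
    have h2 : 81 ∣ Nat.gcd 3 (v ^ f' - 1) * Nat.card ↥(Cfsg.Lie.chevE6.group F) := by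
      rw [h1]
      have h4 := Nat.mul_dvd_mul (Nat.mul_dvd_mul k2 k6) (k2.trans (kk 4))
      refine h4.trans ⟨(v ^ f') ^ 36 * ((v ^ f') ^ 5 - 1) * ((v ^ f') ^ 9 - 1) * ((v ^ f') ^ 12 - 1), by ring⟩
    rcases (Nat.dvd_prime Nat.prime_three).1 (Nat.gcd_dvd_left 3 (v ^ f' - 1)) with h5 | h5
    · rw [h5] at h2; omega
    · rw [h5] at h2; omega
  | e7 =>
    obtain ⟨F, i1, i2, hch, hF, ⟨e⟩⟩ := hS
    rw [Nat.card_congr e.toEquiv]
    have h1 := Cfsg.Agent.S1064.result hF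
    have h2 : 27 ∣ Nat.gcd 2 (v ^ f' - 1) * Nat.card ↥(Cfsg.Lie.chevE7.group F) := by
      rw [h1]
      have h4 := Nat.mul_dvd_mul k2 k6
      refine h4.trans ⟨(v ^ f') ^ 63 * ((v ^ f') ^ 8 - 1) * ((v ^ f') ^ 10 - 1) * ((v ^ f') ^ 12 - 1) *
        ((v ^ f') ^ 14 - 1) * ((v ^ f') ^ 18 - 1), by ring⟩
    rcases (Nat.dvd_prime Nat.prime_two).1 (Nat.gcd_dvd_left 2 (v ^ f' - 1)) with h5 | h5
    · rw [h5] at h2; omega
    · rw [h5] at h2; omega
  | e8 =>
    obtain ⟨F, i1, i2, hch, hF, ⟨e⟩⟩ := hS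
    rw [Nat.card_congr e.toEquiv, Cfsg.Agent.S1065.result hF]
    have h4 := Nat.mul_dvd_mul k2 (k6.trans (k6' 2))
    exact h4.trans ⟨(v ^ f') ^ 120 * ((v ^ f') ^ 8 - 1) * ((v ^ f') ^ 14 - 1) * ((v ^ f') ^ 18 - 1) *
      ((v ^ f') ^ 20 - 1) * ((v ^ f') ^ 24 - 1) * ((v ^ f') ^ 30 - 1), by ring⟩
  | te6 =>
    obtain ⟨F, i1, i2, hch, hF, ⟨e⟩⟩ := hS
    rw [Nat.card_congr e.toEquiv]
    have h1 := Cfsg.Agent.S1066.result (hpp hF) hF
    have h2 : 81 ∣ Nat.gcd 3 (v ^ f' + 1) * Nat.card ↥(Cfsg.Lie.twistedE6 F (v ^ f')) := by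
      rw [h1]
      have h4 := Nat.mul_dvd_mul (Nat.mul_dvd_mul k2 k6) (k2.trans (kk 4))
      refine h4.trans ⟨(v ^ f') ^ 36 * ((v ^ f') ^ 5 + 1) * ((v ^ f') ^ 9 + 1) * ((v ^ f') ^ 12 - 1), by ring⟩
    rcases (Nat.dvd_prime Nat.prime_three).1 (Nat.gcd_dvd_left 3 (v ^ f' + 1)) with h5 | h5
    · rw [h5] at h2; omega
    · rw [h5] at h2; omega
  | td4 =>
    obtain ⟨F, i1, i2, hch, hF, ⟨e⟩⟩ := hS
    rw [Nat.card_congr e.toEquiv, Cfsg.Agent.S1067.result (hpp hF) hF]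
    have := Nat.mul_dvd_mul k2 k6
    rw [mul_assoc ((v ^ f') ^ 12)]
    exact (this.mul_left _).mul_right _
  | sz =>
    exfalso
    obtain ⟨hv2, m, hm, hf, F, i1, i2, hF, ⟨e⟩⟩ := hS
    rw [Nat.card_congr e.toEquiv, card_sz' hF] at h3
    have h2 : 2 ^ (2 * m + 1) % 3 = 2 := by
      rw [pow_succ, pow_mul, Nat.mul_mod, Nat.pow_mod]
      norm_num
    have h1 : 1 ≤ 2 ^ (2 * m + 1) := Nat.one_le_two_pow
    generalize 2 ^ (2 * m + 1) = u at *
    have hp3 := Nat.prime_three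
    rcases hp3.dvd_mul.1 h3 with h4 | h4
    · rcases hp3.dvd_mul.1 h4 with h5 | h5
      · have := hp3.dvd_of_dvd_pow h5
        omega
      · omega
    · have : (u ^ 2 + 1) % 3 = 2 := by
        rw [Nat.add_mod, Nat.pow_mod, h2]
      omega
  | tf4 =>
    obtain ⟨hv2, m, hm, hf, F, i1, i2, hF, ⟨e⟩⟩ := hS
    rw [Nat.card_congr e.toEquiv, Cfsg.Agent.S1068.result hF]
    have h2 : 2 ^ (2 * m + 1) % 3 = 2 := by
      rw [pow_succ, pow_mul, Nat.mul_mod, Nat.pow_mod]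
      norm_num
    generalize 2 ^ (2 * m + 1) = u at *
    have h9 : 9 ∣ u ^ 3 + 1 := by
      have key : ∀ a : ZMod 9, (a.val % 3 = 2) → a ^ 3 + 1 = 0 := by decide
      have h3 := key (u : ZMod 9) (by
        rw [ZMod.val_natCast]
        omega)
      rw [← ZMod.natCast_eq_zero_iff]
      push_cast
      exact h3
    have h3 : 3 ∣ u ^ 4 - 1 := (dvd_pow_sub (q := u) (by omega)).1.trans (by
      have := Nat.sub_one_dvd_pow_sub_one (u ^ 2) 2
      rwa [← pow_mul] at this)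
    have := Nat.mul_dvd_mul h9 h3
    rw [mul_assoc _ (u ^ 3 + 1)]
    exact (this.mul_left _).mul_right _
  | ree =>
    exfalso
    exact hv3 hS.1
  | psl n => exact ht.elim
  | psp n => exact ht.elim
  | psu n => exact ht.elim
  | oodd n => exact ht.elim
  | oplus n => exact ht.elim
  | ominus n => exact ht.elim

/-- `27` divides no element order of `L₆(3^f)` -/
theorem not27 {s : ℤ} {c E : ℕ} (hs : (3 : ℤ) ∣ s) (hu : Up 3 s c E) : ¬ 27 ∣ E := by
  intro hE
  have hE' : (27 : ℤ) ∣ E := by exact_mod_cast hE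
  have h3E : (3 : ℤ) ∣ E := (by norm_num : (3 : ℤ) ∣ 27).trans hE'
  have h1 : ∀ n : ℕ, 1 ≤ n → ¬ (3 : ℤ) ∣ s ^ n - 1 := by
    intro n hn hd
    have h2 : (3 : ℤ) ∣ s ^ n := hs.trans (dvd_pow_self s (by omega))
    have h3 := dvd_sub h2 hd
    rw [sub_sub_cancel] at h3
    omega
  have h2 : ∀ n : ℕ, 1 ≤ n → ¬ (27 : ℤ) ∣ 3 * (s ^ n - 1) := by
    intro n hn hd
    have := h1 n hn
    omega
  rcases hu with h | h | h | h | h | h | h | h | h
  · exact h1 5 (by norm_num) ((h3E.mul_left _).trans h)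
  · exact h1 6 (by norm_num) (((h3E.mul_left _).mul_right _).trans h)
  · exact h1 4 (by norm_num) (h3E.trans h)
  · exact h2 4 (by norm_num) ((hE'.mul_left (c : ℤ)).trans (by exact_mod_cast h))
  · rcases Int.prime_three.dvd_or_dvd (h3E.trans h) with h | h
    · exact h1 3 (by norm_num) h
    · omega
  · exact h2 3 (by norm_num) (hE'.trans (by exact_mod_cast h))
  · exact h2 2 (by norm_num) (hE'.trans (by exact_mod_cast h))
  · have h4 := hE'.trans h.2
    have := h1 2 (by norm_num)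
    omega
  · have := h.1
    omega

/-- the radical, `p = 3` -/
theorem exc_three (hF : ExFrm G K S t' v f') (hv3 : v ≠ 3) (h3 : 3 ∣ Nat.card S) (h27 : ∀ g : G, ¬ 27 ∣ orderOf g)
    {r : ℕ} (hr : r.Prime) (hr3 : r ≠ 3) (hrK : r ∣ Nat.card K) : ∃ g : G, orderOf g = 3 * r := by
  have hf3 : Fact (Nat.Prime 3) := ⟨Nat.prime_three⟩
  have h1 := twentyseven hF.prime hv3 hF.exc hF.is h3
  obtain ⟨P⟩ : Nonempty (Sylow 3 ↥S) := inferInstance
  have hP27 : 27 ∣ Nat.card P := by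
    have h2 := P.card_eq_multiplicity
    rw [h2]
    have h3 : 3 ^ 3 ∣ Nat.card S := h1
    have h4 := (Nat.Prime.pow_dvd_iff_le_factorization Nat.prime_three (Nat.card_pos (α := S)).ne').1 h3
    exact pow_dvd_pow 3 h4
  have hnc : ¬ IsCyclic P := by
    intro hc
    obtain ⟨g, hg⟩ := hc.exists_generator
    have h2 : orderOf g = Nat.card P := orderOf_eq_card_of_forall_mem_zpowers hg
    obtain ⟨x, hx⟩ := F1.exists_of_S (K := K) (S := S) (m := Nat.card P) ⟨(g : S), by rw [Subgroup.orderOf_coe, h2]⟩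
    exact h27 x (by rw [hx]; exact hP27)
  obtain ⟨A, -, hA, hA9⟩ := Cfsg.Agent.S0126.result (p := 3) (by norm_num) P.isPGroup' hnc
  have hAn : ¬ IsCyclic A := by
    intro hc
    obtain ⟨g, hg⟩ := hc.exists_generator
    have h2 : orderOf g = Nat.card A := orderOf_eq_card_of_forall_mem_zpowers hg
    have h4 : (g : P) ^ 3 = 1 := hA.2 _ g.2
    have h5 : orderOf g ∣ 3 := by
      apply orderOf_dvd_of_pow_eq_one
      exact Subtype.ext (by rw [Subgroup.coe_pow]; exact h4)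
    rw [h2, hA9] at h5
    norm_num at h5
  -- the image in `G / K`
  let φ : A →* G ⧸ K := (S.subtype.comp (P : Subgroup S).subtype).comp A.subtype
  have hφ : Function.Injective φ := by
    intro a b hab
    exact Subtype.ext (Subtype.ext (Subtype.ext hab))
  refine exists_adj_ab K hF.nil Nat.prime_three hr hr3.symm hrK φ.range ?_ ?_ ?_
  · rintro ⟨_, a, rfl⟩
    refine ⟨1, ?_⟩
    have h4 : (a : P) ^ 3 = 1 := hA.2 _ a.2
    have h5 : a ^ 3 = 1 := Subtype.ext (by rw [Subgroup.coe_pow]; exact h4)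
    apply Subtype.ext
    change (φ a) ^ 3 ^ 1 = 1
    rw [pow_one, ← map_pow, h5, map_one]
  · rintro _ ⟨a, rfl⟩ _ ⟨b, rfl⟩
    rw [← map_mul, ← map_mul]
    congr 1
    exact hA.1.is_comm.comm a b
  · intro hc
    apply hAn
    have e : A ≃* φ.range := MonoidHom.ofInjective hφ
    exact isCyclic_of_surjective e.symm.toMonoidHom e.symm.surjective

/-- **The primes of class five are good**, from a table. -/
theorem good5_exc_of (h : LS t p f L G) (hR : Red G K S) (hF : ExFrm G K S t' v f') (hp2 : p ≠ 2) (hvp : v ≠ p)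
    (ht : T6 t) {c : ℕ} (hup : ∀ g : G, Up p (sg t (p ^ f)) c (orderOf g))
    (hT : ∃ T k, EE.SOk T ↥S v k ∧ isoT T = true) {r : ℕ} (hr : r.Prime) (hrc : cls t (p ^ f) r = 5) :
    ¬ r ∣ Nat.card K * S.index ∧ r ∣ Nat.card S := by
  have hq := F1.LS.q_three h hp2
  have Hr : In t (p ^ f) 5 r := ⟨hr, hrc, by norm_num, ht.mem_iff.2 (by norm_num)⟩
  obtain ⟨z3, H3⟩ := exists_in h hq (i := 3) (by norm_num) (ht.mem_iff.2 (by norm_num))
  obtain ⟨z4, H4⟩ := exists_in h hq (i := 4) (by norm_num) (ht.mem_iff.2 (by norm_num))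
  obtain ⟨z6, H6⟩ := exists_in h hq (i := 6) (by norm_num) (ht.mem_iff.2 (by norm_num))
  by_contra hcon
  have hbad : r ∣ Nat.card K * S.index := by
    by_contra hb
    refine hcon ⟨hb, ?_⟩
    have h1 := Hr.dvd h
    rw [card_eq_mul (K := K) (S := S)] at h1
    exact (hr.dvd_mul.1 h1).resolve_right hb
  have r3 := Hr.ne H3 (by norm_num)
  have r4 := Hr.ne H4 (by norm_num)
  have r6 := Hr.ne H6 (by norm_num)
  have e34 := H3.ne H4 (by norm_num)
  have e36 := H3.ne H6 (by norm_num)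
  have e46 := H4.ne H6 (by norm_num)
  have ne_p : ∀ {i x : ℕ}, In t (p ^ f) i x → x ≠ p := fun hx he => hx.not_dvd h.fpos (by rw [he])
  have rp := ne_p Hr
  have g3 := h.good_of_bad hR Hr H3 H4 (na_symm ht.n35) (na_symm ht.n45) ht.n34 hbad
  have g4 := h.good_of_bad hR Hr H4 H3 (na_symm ht.n45) (na_symm ht.n35) (na_symm ht.n34) hbad
  have g6 := h.good_of_bad hR Hr H6 H4 ht.n56 (na_symm ht.n45) (na_symm ht.n46) hbad
  have hpG : p ∣ Nat.card G := (h.dvd_iff h.prime).2 h.pdvd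
  have nap5 : nap t 5 := ht.nap_iff.2 (by norm_num)
  have nap6 : nap t 6 := ht.nap_iff.2 (by norm_num)
  have hnrp : ¬ ∃ g : G, orderOf g = r * p := fun hg => (h.adjp_iff Hr).1 hg nap5
  have hn6p : ¬ ∃ g : G, orderOf g = z6 * p := fun hg => (h.adjp_iff H6).1 hg nap6
  have nG : ∀ {i x : ℕ}, In t (p ^ f) i x → r ≠ x → na t 5 i → ¬ ∃ g : G, orderOf g = r * x :=
    fun hx hne hn hg => (h.adj_iff Hr hx hne).1 hg hn
  have gp := Red.two_bad hR Hr.prime h.prime H6.prime (Hr.dvd h) hpG (H6.dvd h) rp r6 (ne_p H6).symm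
    hnrp (nG H6 r6 ht.n56) (fun hg => hn6p (swap_adj hg)) hbad
  have toS : ∀ {m : ℕ}, (∃ g : S, orderOf g = m) → ∃ g : G, orderOf g = m := fun hg => exists_of_S hg
  have q : Four G K S p z3 z4 z6 :=
    { p3 := H3.prime, p4 := H4.prime, p6 := H6.prime, pp := h.prime, f3 := H3.five, f4 := H4.five, f6 := H6.five
      pne := hp2, n34 := e34, n36 := e36, n46 := e46, n3p := ne_p H3, n4p := ne_p H4, n6p := ne_p H6
      d3 := g3.2, d4 := g4.2, d6 := g6.2, dp := gp.2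
      a3p := adj_S_of_good H3.prime h.prime g3.1 gp.1 ((h.adjp_iff H3).2 fun hn => by
        have := ht.nap_iff.1 hn; omega)
      a4p := adj_S_of_good h.prime H4.prime gp.1 g4.1 (swap_adj ((h.adjp_iff H4).2 fun hn => by
        have := ht.nap_iff.1 hn; omega))
      a36 := adj_S_of_good H3.prime H6.prime g3.1 g6.1 ((h.adj_iff H3 H6 e36).2 fun hn => by
        have := ht.na_iff.1 hn
        exact this.2.1 (by decide))
      m34 := fun hg => (h.adj_iff H3 H4 e34).1 (toS hg) ht.n34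
      m46 := fun hg => (h.adj_iff H4 H6 e46).1 (toS hg) ht.n46
      m6p := fun hg => hn6p (toS hg) }
  by_cases hrK : r ∣ Nat.card K
  · by_cases hp3 : p = 3
    · subst hp3
      have hs3 : (3 : ℤ) ∣ sg t (3 ^ f) := by
        have h1 : (3 : ℤ) ∣ ((3 ^ f : ℕ) : ℤ) := by
          exact_mod_cast dvd_pow_self 3 (by have := h.fpos; omega : f ≠ 0)
        rcases ht with rfl | rfl
        · exact h1
        · exact (dvd_neg).2 h1
      exact hnrp (swap_adj (exc_three hF hvp gp.2 (fun g => not27 hs3 (hup g)) hr rp hrK))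
    · have hp5 : 5 ≤ p := by
        have h1 := h.prime
        have h2 := h1.two_le
        have h4 : p ≠ 4 := by
          rintro rfl
          norm_num at h1
        omega
      obtain ⟨T, k, hS, hT'⟩ := hT
      have key : ∀ {x : ℕ}, x.Prime → 5 ≤ x → x ≠ r → (¬ ∃ g : G, orderOf g = r * x) →
          x = v ∨ ¬ ∃ g : S, orderOf g = x * v := by
        intro x hx hx5 hxr hn
        by_cases hrv : r = v
        · right
          refine hF.vcase ?_
          rw [← hrv]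
          exact hn
        · by_cases hxv : x = v
          · exact Or.inl hxv
          · exact Or.inr fun hg => hn (hF.kadj_all hr hrK hrv hx hx5 hxv hxr hg)
      exact q.exc hvp.symm hp5 hS hT' (key H3.prime H3.five r3.symm (nG H3 r3 (na_symm ht.n35)))
        (key H4.prime H4.five r4.symm (nG H4 r4 (na_symm ht.n45)))
        ((key h.prime hp5 rp.symm hnrp).resolve_left hvp.symm)
  · have hHC : HC (sg t (p ^ f)) r 4 := h.ehc hR hF Hr hbad hrK (by norm_num) (ht.mem_iff.2 (by norm_num))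
      (na_symm ht.n45) ⟨3, z3, H3, na_symm ht.n35, na_symm ht.n34⟩
    refine killer_false (X := sg t (p ^ f)) (r := r) (i := 5) hr Hr.five hrc (by norm_num) (I := fun l => l = 4) ?_ ?_
    · rintro l rfl -
      exact hHC
    · exact Or.inl ⟨1, le_rfl, rfl, by norm_num, by norm_num⟩

end Cfsg.Agent.R2.Spec.X7.N6
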