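import Cfsg.Agent.R2.Spec.X7.N6.Def
import Cfsg.Agent.R2.Spec.P1.TopDef

/-!
# Box X7, `n = 6` (helper24, S3435): packet N6-FIN, small `q`

* `fin_T` : for `q < 11`, or `c₅ = 5` and `q < 71`, the number `M e` is not the exponent `ttor t u i` of the torus of an
  isolated class, `u` prime to `p`.
-/

set_option autoImplicit false
set_option maxRecDepth 100000

namespace Cfsg.Agent.R2.Spec.X7.N6

open Cfsg Cfsg.Agent.H426.LieFam Cfsg.Agent.R2.Spec
open Cfsg.Agent.R2.Spec.P1 (ttor)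

namespace FT

/-- `(p, c, M, |s ^ 5 - 1|)` -/
def rows : List (ℕ × ℕ × ℕ × ℕ) :=
  [(3, 2, 121, 242), (3, 2, 61, 244), (5, 2, 781, 3124), (5, 6, 521, 3126), (7, 6, 2801, 16806), (7, 2, 2101, 16808),
   (3, 2, 7381, 59048), (3, 2, 1181, 59050), (11, 2, 3221, 161050), (31, 6, 190861, 28629150),
   (41, 2, 579281, 115856200), (61, 6, 2815321, 844596300), (19, 2, 24761, 2476100), (29, 6, 136741, 20511150),
   (7, 2, 1129901, 282475250), (59, 6, 2383081, 714924300)]

/-- the list of the pairs `(|s - 1|, |s ^ 5 - 1|)` -/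
def two (q : ℕ) : List (ℕ × ℕ) := [(q - 1, q ^ 5 - 1), (q + 1, q ^ 5 + 1)]

/-- the test for `rows` -/
def okp (p f : ℕ) : Bool :=
  (two (p ^ f)).all fun a => !(decide (p ^ f < 11) || (Nat.gcd 5 a.1 == 5 && decide (p ^ f < 71))) ||
    rows.elem (p, Nat.gcd 6 a.1, a.2 / (Nat.gcd 5 a.1 * a.1), a.2)

/-- no small divisors -/
def np (p : ℕ) : Bool := (List.range 9).all fun d => decide (d < 2) || (decide (p ≤ d) || !(p % d == 0))

theorem okp_all : ∀ p < 71, ∀ f < 4, 3 ≤ p → 1 ≤ f → np p = true → okp p f = true := by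
  decide +kernel

theorem np_of {p : ℕ} (hp : p.Prime) : np p = true := by
  unfold np
  rw [List.all_eq_true]
  intro d hd
  simp only [Bool.or_eq_true, decide_eq_true_eq, Bool.not_eq_true', beq_eq_false_iff_ne]
  by_contra hcon
  push Not at hcon
  obtain ⟨h1, h2, h3⟩ := hcon
  rcases (Nat.dvd_prime hp).1 (Nat.dvd_of_mod_eq_zero h3) with h | h <;> omega

/-- the bound for `T` -/
def BB : ℕ := 141237625

theorem rows_le : ∀ r ∈ rows, 0 < r.2.1 ∧ 0 < r.2.2.2 ∧ r.2.2.2 / r.2.1 ≤ BB := by decide +kernel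

/-- the bound for `u` -/
def UU (D : ℕ) : ℕ :=
  [0, 0, 0, 827, 163, 61, 31, 19, 13, 10, 8, 7, 6, 5, 4, 4, 3, 3, 3, 3, 3, 2, 2, 2, 2, 2, 2, 2, 2, 2, 2, 2, 2, 2].getD D 0

theorem UU_bd : ∀ D < 34, 3 ≤ D → (BB + 1) * (D + 1) < UU D * (UU D + 1) ^ (D - 1) := by decide +kernel

/-- the values -/
def vals (D u : ℕ) : List ℕ :=
  [(u ^ (D + 1) - 1) / ((u - 1) * Nat.gcd (D + 1) (u - 1)), (u ^ D - 1) / Nat.gcd (D + 1) (u - 1),
   (if (D + 1) % 2 = 0 then u ^ (D + 1) - 1 else u ^ (D + 1) + 1) / ((u + 1) * Nat.gcd (D + 1) (u + 1)),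
   (if (D + 1) % 2 = 0 then u ^ D + 1 else u ^ D - 1) / Nat.gcd (D + 1) (u + 1),
   (u ^ D + 1) / Nat.gcd 2 (u - 1),
   (u ^ D - 1) / Nat.gcd 2 (u - 1),
   (u ^ D - 1) / Nat.gcd 4 (u ^ D - 1),
   (u ^ (D - 1) + 1) * (u + 1) / Nat.gcd 4 (u ^ D - 1),
   (u ^ D + 1) / Nat.gcd 4 (u ^ D + 1),
   (u ^ (D - 1) - 1) * (u + 1) / Nat.gcd 4 (u ^ D + 1),
   (u ^ (D - 1) + 1) * (u - 1) / Nat.gcd 4 (u ^ D + 1)]

/-- the test -/
def okv (u V : ℕ) (r : ℕ × ℕ × ℕ × ℕ) : Bool :=
  !(V % r.2.2.1 == 0) || (!(r.2.2.2 % (r.2.1 * V) == 0) || u % r.1 == 0)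

/-- the test for all values -/
def okD (D : ℕ) : Bool :=
  (List.range (UU D + 1)).all fun u => decide (u < 2) || (vals D u).all fun V => rows.all fun r => okv u V r

theorem okD_all : ∀ D < 34, 3 ≤ D → okD D = true := by decide +kernel

theorem mem_rows {p q : ℕ} {s : ℤ} {c c5 M : ℕ} (h : SixN p q s c c5 M) (hsm : q < 11 ∨ (c5 = 5 ∧ q < 71)) :
    (p, c, M, (s ^ 5 - 1).natAbs) ∈ rows := by
  obtain ⟨f, hf, hq⟩ := h.hq
  have hp3 : 3 ≤ p := by
    have := h.hp.two_le
    have := h.hp2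
    omega
  have hq71 : q < 71 := by omega
  have hpq : p ≤ q := by
    rw [hq]
    exact Nat.le_self_pow (by omega) p
  have hf4 : f < 4 := by
    by_contra hcon
    push Not at hcon
    have h1 : 3 ^ 4 ≤ p ^ f := (Nat.pow_le_pow_left hp3 4).trans (Nat.pow_le_pow_right (by omega) hcon)
    rw [hq] at hq71
    omega
  have hok := okp_all p (by omega) f hf4 hp3 hf (np_of h.hp)
  unfold okp at hok
  rw [List.all_eq_true] at hok
  have hq3 : 3 ≤ q := by omega
  have key : ∀ a : ℕ × ℕ, a ∈ two q → a.1 = (s - 1).natAbs → a.2 = (s ^ 5 - 1).natAbs →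
      (p, c, M, (s ^ 5 - 1).natAbs) ∈ rows := by
    intro a ha h1 h2
    rw [hq] at ha
    have h3 := hok a ha
    rw [← hq] at h3
    have hc : Nat.gcd 6 a.1 = c := by rw [h1, ← h.hc]
    have hc5 : Nat.gcd 5 a.1 = c5 := by rw [h1, ← h.hc5]
    have hMN : M * (c5 * a.1) = a.2 := by
      rw [h1, h2, ← h.hM, Int.natAbs_mul, Int.natAbs_mul, Int.natAbs_natCast, Int.natAbs_natCast]
    have hpos : 0 < c5 * a.1 := by
      have h4 : 0 < a.1 := by
        simp only [two, List.mem_cons, List.not_mem_nil, or_false] at ha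
        rcases ha with rfl | rfl
        · show 0 < p ^ f - 1
          rw [← hq]; omega
        · show 0 < p ^ f + 1
          omega
      have h5 : 0 < c5 := by rw [← hc5]; exact Nat.gcd_pos_of_pos_left _ (by norm_num)
      positivity
    have hdiv : a.2 / (c5 * a.1) = M := by rw [← hMN, Nat.mul_div_cancel _ hpos]
    rw [hc, hc5, hdiv] at h3
    have hpre : (decide (q < 11) || (c5 == 5 && decide (q < 71))) = true := by
      rcases hsm with h6 | ⟨h6, h7⟩
      · simp [h6]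
      · simp [h6, h7]
    rw [hpre, Bool.not_true, Bool.false_or] at h3
    rw [← h2]
    exact List.mem_of_elem_eq_true h3
  rcases h.hs with hs | hs
  · refine key (q - 1, q ^ 5 - 1) (by simp [two]) ?_ ?_
    · show q - 1 = (s - 1).natAbs
      rw [hs]; omega
    · show q ^ 5 - 1 = (s ^ 5 - 1).natAbs
      rw [hs]
      have h1 : 1 ≤ q ^ 5 := Nat.one_le_pow _ _ (by omega)
      have h2 : ((q : ℤ) ^ 5 - 1) = ((q ^ 5 - 1 : ℕ) : ℤ) := by
        rw [Nat.cast_sub h1]
        push_cast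
        rfl
      rw [h2, Int.natAbs_natCast]
  · refine key (q + 1, q ^ 5 + 1) (by simp [two]) ?_ ?_
    · show q + 1 = (s - 1).natAbs
      rw [hs]; omega
    · show q ^ 5 + 1 = (s ^ 5 - 1).natAbs
      rw [hs]
      have h2 : ((-(q : ℤ)) ^ 5 - 1) = -((q ^ 5 + 1 : ℕ) : ℤ) := by
        push_cast
        ring
      rw [h2, Int.natAbs_neg, Int.natAbs_natCast]

/-- **the numerical core** -/
theorem core {p c M N T D u : ℕ} (hr : (p, c, M, N) ∈ rows) (hMT : M ∣ T) (hTN : c * T ∣ N) (hu : 2 ≤ u) (hup : ¬ p ∣ u)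
    (hD : 3 ≤ D) (hlo : (u - 1) * u ^ (D - 1) ≤ (T + 1) * (D + 1)) (hv : T ∈ vals D u) : False := by
  obtain ⟨hc0, hN0, hB⟩ := rows_le _ hr
  simp only at hc0 hN0 hB
  have hT : T ≤ BB := by
    refine le_trans ?_ hB
    rw [Nat.le_div_iff_mul_le hc0, mul_comm]
    exact Nat.le_of_dvd hN0 hTN
  have hlo' : (u - 1) * u ^ (D - 1) ≤ (BB + 1) * (D + 1) := hlo.trans (Nat.mul_le_mul_right _ (by omega))
  have hD34 : D < 34 := by
    by_contra hcon
    push Not at hcon
    obtain ⟨k, rfl⟩ := Nat.exists_eq_add_of_le hcon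
    have h1 : 2 ^ (34 + k - 1) ≤ (u - 1) * u ^ (34 + k - 1) := by
      calc 2 ^ (34 + k - 1) ≤ u ^ (34 + k - 1) := Nat.pow_le_pow_left hu _
        _ ≤ (u - 1) * u ^ (34 + k - 1) := Nat.le_mul_of_pos_left _ (by omega)
    have h2 : 2 ^ (34 + k - 1) = 2 ^ 33 * 2 ^ k := by
      rw [← pow_add]
      congr 1
      omega
    have h3 : k + 1 ≤ 2 ^ k := Nat.lt_two_pow_self
    have h4 : 2 ^ 33 * (k + 1) ≤ 2 ^ 33 * 2 ^ k := Nat.mul_le_mul_left _ h3
    have h5 : (BB + 1) * (34 + k + 1) < 2 ^ 33 * (k + 1) := by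
      unfold BB
      omega
    omega
  have huU : u < UU D + 1 := by
    by_contra hcon
    push Not at hcon
    have h1 := UU_bd D hD34 hD
    have h2 : UU D * (UU D + 1) ^ (D - 1) ≤ (u - 1) * u ^ (D - 1) :=
      Nat.mul_le_mul (by omega) (Nat.pow_le_pow_left hcon _)
    omega
  have hok := okD_all D hD34 hD
  unfold okD at hok
  rw [List.all_eq_true] at hok
  have h1 := hok u (List.mem_range.2 huU)
  rw [Bool.or_eq_true, decide_eq_true_eq] at h1
  rcases h1 with h1 | h1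
  · omega
  rw [List.all_eq_true] at h1
  have h2 := h1 T hv
  rw [List.all_eq_true] at h2
  have h3 := h2 _ hr
  unfold okv at h3
  simp only [Bool.or_eq_true, Bool.not_eq_true', beq_eq_false_iff_ne, beq_iff_eq] at h3
  rcases h3 with h3 | h3 | h3
  · exact h3 (Nat.mod_eq_zero_of_dvd hMT)
  · exact h3 (Nat.mod_eq_zero_of_dvd hTN)
  · exact hup (Nat.dvd_of_mod_eq_zero h3)

theorem lbh {x z g T D u : ℕ} (hT : T = x / (z * g)) (hz : 0 < z) (hg : 0 < g) (hgD : g ≤ D + 1)
    (hx : z * ((u - 1) * u ^ (D - 1)) ≤ x + 1) : (u - 1) * u ^ (D - 1) ≤ (T + 1) * (D + 1) := by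
  have h1 : x < z * g * (x / (z * g) + 1) := Nat.lt_mul_div_succ x (by positivity)
  rw [← hT] at h1
  have h2 : z * ((u - 1) * u ^ (D - 1)) ≤ z * ((T + 1) * (D + 1)) := by
    calc z * ((u - 1) * u ^ (D - 1)) ≤ x + 1 := hx
      _ ≤ z * g * (T + 1) := h1
      _ = z * ((T + 1) * g) := by ring
      _ ≤ z * ((T + 1) * (D + 1)) := Nat.mul_le_mul_left _ (Nat.mul_le_mul_left _ hgD)
  exact Nat.le_of_mul_le_mul_left h2 hz

theorem lbg {x g T D u : ℕ} (hT : T = x / g) (hg : 0 < g) (hgD : g ≤ D + 1) (hx : (u - 1) * u ^ (D - 1) ≤ x + 1) :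
    (u - 1) * u ^ (D - 1) ≤ (T + 1) * (D + 1) :=
  lbh (z := 1) (by rw [one_mul]; exact hT) one_pos hg hgD (by rw [one_mul]; exact hx)

theorem pw {D u : ℕ} (hu : 2 ≤ u) (hD : 3 ≤ D) : (u - 1) * u ^ (D - 1) ≤ u ^ D := by
  obtain ⟨k, rfl⟩ : ∃ k, D = k + 1 := ⟨D - 1, by omega⟩
  rw [Nat.add_sub_cancel, pow_succ, mul_comm]
  exact Nat.mul_le_mul_left _ (by omega)

theorem pw1 {D u : ℕ} (hu : 2 ≤ u) (hD : 3 ≤ D) : (u - 1) * ((u - 1) * u ^ (D - 1)) ≤ u ^ (D + 1) := by
  calc (u - 1) * ((u - 1) * u ^ (D - 1)) ≤ u * u ^ D := Nat.mul_le_mul (by omega) (pw hu hD)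
    _ = u ^ (D + 1) := by ring

theorem pw2 {D u : ℕ} (hu : 2 ≤ u) (hD : 3 ≤ D) : (u + 1) * ((u - 1) * u ^ (D - 1)) ≤ u ^ (D + 1) := by
  obtain ⟨k, rfl⟩ : ∃ k, D = k + 1 := ⟨D - 1, by omega⟩
  obtain ⟨v, rfl⟩ : ∃ v, u = v + 1 := ⟨u - 1, by omega⟩
  rw [Nat.add_sub_cancel, Nat.add_sub_cancel]
  have h1 : (v + 1 + 1) * (v * (v + 1) ^ k) = (v * (v + 2)) * (v + 1) ^ k := by ring
  have h2 : (v + 1) ^ (k + 1 + 1) = ((v + 1) * (v + 1)) * (v + 1) ^ k := by ring
  rw [h1, h2]
  exact Nat.mul_le_mul_right _ (by nlinarith)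

end FT

open FT in
/-- **packet N6-FIN** -/
theorem fin_T {p q : ℕ} {s : ℤ} {c c5 M : ℕ} (h : SixN p q s c c5 M) (hsm : q < 11 ∨ (c5 = 5 ∧ q < 71)) {e T : ℕ}
    (hT : T = M * e) (he : (c * e : ℤ) ∣ c5 * (s - 1)) {u : ℕ} (hu : 2 ≤ u) (hup : ¬ p ∣ u) {t : Fam} {i : ℕ}
    (ht : (∃ m, 4 ≤ m ∧ (t = .psl m ∨ t = .psu m ∨ t = .oplus m ∨ t = .ominus m)) ∨
      ∃ m, 3 ≤ m ∧ (t = .psp m ∨ t = .oodd m))
    (hi : P1.top t i) (hTt : T = ttor t u i) : False := by
  have hr := mem_rows h hsm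
  have hMT : M ∣ T := ⟨e, hT⟩
  have hTN : c * T ∣ (s ^ 5 - 1).natAbs := by
    have h1 : ((c * T : ℕ) : ℤ) ∣ s ^ 5 - 1 := by
      rw [← h.hM, hT]
      push_cast
      have h2 : (c : ℤ) * ((M : ℤ) * e) = M * (c * e) := by ring
      rw [h2]
      exact mul_dvd_mul_left _ he
    rw [← Int.natCast_dvd]
    exact h1
  have hgp : ∀ a b : ℕ, 0 < a → 0 < Nat.gcd a b ∧ Nat.gcd a b ≤ a := fun a b ha =>
    ⟨Nat.gcd_pos_of_pos_left b ha, Nat.gcd_le_left b ha⟩
  have hu1 : ∀ k, 1 ≤ u ^ k := fun k => Nat.one_le_pow _ _ (by omega)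
  have fin : ∀ D, 3 ≤ D → (u - 1) * u ^ (D - 1) ≤ (T + 1) * (D + 1) → T ∈ vals D u → False := fun D hD hlo hv =>
    core hr hMT hTN hu hup hD hlo hv
  rcases ht with ⟨m, hm, rfl | rfl | rfl | rfl⟩ | ⟨m, hm, rfl | rfl⟩
  · -- psl
    obtain ⟨D, rfl⟩ : ∃ D, m = D + 1 := ⟨m - 1, by omega⟩
    have hD : 3 ≤ D := by omega
    obtain ⟨-, hi⟩ := hi
    obtain ⟨g1, g2⟩ := hgp (D + 1) (u - 1) (by omega)
    by_cases h1 : i = D + 1
    · have e1 : T = (u ^ (D + 1) - 1) / ((u - 1) * Nat.gcd (D + 1) (u - 1)) := by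
        rw [hTt]
        show (if i = D + 1 then _ else _) = _
        rw [if_pos h1]
      refine fin D hD (lbh e1 (by omega) g1 g2 ?_) (by rw [e1]; simp [vals])
      have := pw1 hu hD
      have := hu1 (D + 1)
      omega
    · have e1 : T = (u ^ D - 1) / Nat.gcd (D + 1) (u - 1) := by
        rw [hTt]
        show (if i = D + 1 then _ else _) = _
        rw [if_neg h1]
        rfl
      refine fin D hD (lbg e1 g1 g2 ?_) (by rw [e1]; simp [vals])
      have := pw hu hD
      have := hu1 D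
      omega
  · -- psu
    obtain ⟨D, rfl⟩ : ∃ D, m = D + 1 := ⟨m - 1, by omega⟩
    have hD : 3 ≤ D := by omega
    obtain ⟨-, hi⟩ := hi
    obtain ⟨g1, g2⟩ := hgp (D + 1) (u + 1) (by omega)
    by_cases h1 : i = D + 1
    · have e1 : T = (if (D + 1) % 2 = 0 then u ^ (D + 1) - 1 else u ^ (D + 1) + 1) / ((u + 1) * Nat.gcd (D + 1) (u + 1)) := by
        rw [hTt]
        show (if i = D + 1 then _ else _) = _
        rw [if_pos h1]
      refine fin D hD (lbh e1 (by omega) g1 g2 ?_) (by rw [e1]; simp only [vals, List.mem_cons, true_or, or_true])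
      have := pw2 hu hD
      have := hu1 (D + 1)
      split_ifs <;> omega
    · have e1 : T = (if (D + 1) % 2 = 0 then u ^ D + 1 else u ^ D - 1) / Nat.gcd (D + 1) (u + 1) := by
        rw [hTt]
        show (if i = D + 1 then _ else _) = _
        rw [if_neg h1]
        rfl
      refine fin D hD (lbg e1 g1 g2 ?_) (by rw [e1]; simp only [vals, List.mem_cons, true_or, or_true])
      have := pw hu hD
      have := hu1 D
      split_ifs <;> omega
  · -- oplus
    have h4 := hgp 4 (u ^ m - 1) (by omega)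
    by_cases h1 : i = m
    · have e1 : T = (u ^ m - 1) / Nat.gcd 4 (u ^ m - 1) := by
        rw [hTt]
        show (if i = m then _ else _) = _
        rw [if_pos h1]
      refine fin m (by omega) (lbg e1 h4.1 (by omega) ?_) (by rw [e1]; simp only [vals, List.mem_cons, true_or, or_true])
      have := pw hu (show 3 ≤ m by omega)
      have := hu1 m
      omega
    · obtain ⟨D, rfl⟩ : ∃ D, m = D + 1 := ⟨m - 1, by omega⟩
      have hD : 3 ≤ D := by omega
      have h2 := hgp 2 (u - 1) (by omega)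
      by_cases h3 : i = D + 1 - 1
      · have e1 : T = (u ^ D - 1) / Nat.gcd 2 (u - 1) := by
          rw [hTt]
          show (if i = D + 1 then _ else if i = D + 1 - 1 then _ else _) = _
          rw [if_neg h1, if_pos h3]
          rfl
        refine fin D hD (lbg e1 h2.1 (by omega) ?_) (by rw [e1]; simp only [vals, List.mem_cons, true_or, or_true])
        have := pw hu hD
        have := hu1 D
        omega
      · by_cases h5 : (D + 1) % 2 = 0
        · have e1 : T = (u ^ D + 1) / Nat.gcd 2 (u - 1) := by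
            rw [hTt]
            show (if i = D + 1 then _ else if i = D + 1 - 1 then _ else if (D + 1) % 2 = 0 then _ else _) = _
            rw [if_neg h1, if_neg h3, if_pos h5]
            rfl
          refine fin D hD (lbg e1 h2.1 (by omega) ?_) (by rw [e1]; simp only [vals, List.mem_cons, true_or, or_true])
          have := pw hu hD
          omega
        · have e1 : T = (u ^ (D + 1 - 1) + 1) * (u + 1) / Nat.gcd 4 (u ^ (D + 1) - 1) := by
            rw [hTt]
            show (if i = D + 1 then _ else if i = D + 1 - 1 then _ else if (D + 1) % 2 = 0 then _ else _) = _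
            rw [if_neg h1, if_neg h3, if_neg h5]
          refine fin (D + 1) (by omega) (lbg e1 h4.1 (by omega) ?_)
            (by rw [e1]; simp only [vals, List.mem_cons, true_or, or_true])
          have h6 : (u - 1) * u ^ (D + 1 - 1) ≤ (u ^ (D + 1 - 1) + 1) * (u + 1) := by
            rw [mul_comm (u - 1)]
            exact Nat.mul_le_mul (by omega) (by omega)
          omega
  · -- ominus
    have h4 := hgp 4 (u ^ m + 1) (by omega)
    by_cases h1 : i = 2 * m
    · have e1 : T = (u ^ m + 1) / Nat.gcd 4 (u ^ m + 1) := by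
        rw [hTt]
        show (if i = 2 * m then _ else _) = _
        rw [if_pos h1]
      refine fin m (by omega) (lbg e1 h4.1 (by omega) ?_) (by rw [e1]; simp only [vals, List.mem_cons, true_or, or_true])
      have := pw hu (show 3 ≤ m by omega)
      omega
    · by_cases h3 : i = m - 1
      · have e1 : T = (u ^ (m - 1) - 1) * (u + 1) / Nat.gcd 4 (u ^ m + 1) := by
          rw [hTt]
          show (if i = 2 * m then _ else if i = m - 1 then _ else _) = _
          rw [if_neg h1, if_pos h3]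
        refine fin m (by omega) (lbg e1 h4.1 (by omega) ?_) (by rw [e1]; simp only [vals, List.mem_cons, true_or, or_true])
        obtain ⟨D, rfl⟩ : ∃ D, m = D + 2 := ⟨m - 2, by omega⟩
        have h6 : D + 2 - 1 = D + 1 := by omega
        rw [h6]
        obtain ⟨w, hw⟩ : ∃ w, u ^ D = w + 1 := ⟨u ^ D - 1, by have := hu1 D; omega⟩
        obtain ⟨v, rfl⟩ : ∃ v, u = v + 1 := ⟨u - 1, by omega⟩
        have h7 : (v + 1) ^ (D + 1) = (w + 1) * (v + 1) := by rw [pow_succ, hw]
        rw [h7]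
        have h8 : (w + 1) * (v + 1) - 1 = w * v + w + v := by
          have : (w + 1) * (v + 1) = w * v + w + v + 1 := by ring
          omega
        rw [h8, Nat.add_sub_cancel]
        nlinarith
      · have e1 : T = (u ^ (m - 1) + 1) * (u - 1) / Nat.gcd 4 (u ^ m + 1) := by
          rw [hTt]
          show (if i = 2 * m then _ else if i = m - 1 then _ else _) = _
          rw [if_neg h1, if_neg h3]
        refine fin m (by omega) (lbg e1 h4.1 (by omega) ?_) (by rw [e1]; simp only [vals, List.mem_cons, true_or, or_true])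
        have h6 : (u - 1) * u ^ (m - 1) ≤ (u ^ (m - 1) + 1) * (u - 1) := by
          rw [mul_comm (u - 1)]
          exact Nat.mul_le_mul_right _ (by omega)
        omega
  all_goals
    have h2 := hgp 2 (u - 1) (by omega)
    by_cases h1 : i = 2 * m
    · have e1 : T = (u ^ m + 1) / Nat.gcd 2 (u - 1) := by
        rw [hTt]
        show (if i = 2 * m then _ else _) = _
        rw [if_pos h1]
      refine fin m (by omega) (lbg e1 h2.1 (by omega) ?_) (by rw [e1]; simp only [vals, List.mem_cons, true_or, or_true])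
      have := pw hu hm
      omega
    · have e1 : T = (u ^ m - 1) / Nat.gcd 2 (u - 1) := by
        rw [hTt]
        show (if i = 2 * m then _ else _) = _
        rw [if_neg h1]
      refine fin m (by omega) (lbg e1 h2.1 (by omega) ?_) (by rw [e1]; simp only [vals, List.mem_cons, true_or, or_true])
      have := pw hu hm
      have := hu1 m
      omega

end Cfsg.Agent.R2.Spec.X7.N6
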