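import Cfsg.Agent.R2.Spec.F1.FourCl
import Cfsg.Agent.R2.Spec.F1.Tame
import Cfsg.Agent.R2.Spec.F1.Kill
import Cfsg.Agent.R2.Spec.P1.TopTwo
import Cfsg.Agent.R2.Spec.X7.Odd

/-!
# Box X7, `n = 6` (helper15, S3435): the primes of class five are good

`LS.good5` : `L = PSL₆(q)`, `PSU₆(q)`, `q` odd, `S` classical in characteristic `v`: the primes of class `5` of `L` do not
divide `|K| |G / K : S|`.
-/

set_option autoImplicit false
set_option linter.unusedSectionVars false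
set_option linter.unusedVariables false

namespace Cfsg.Agent.R2.Spec.X7.N6

open Subgroup Cfsg
open Cfsg.Agent.H426.LieFam Cfsg.Agent.R2.Spec Cfsg.Agent.R2.Spec.P1 Cfsg.Agent.R2.Spec.F1
open Cfsg.Agent.H72 Cfsg.Agent.H420.QR Cfsg.Agent.R2.Spec.E

universe u w

variable {t : Fam} {p f : ℕ} {L : Type w} [Group L] [Finite L] {G : Type u} [Group G] [Finite G]
variable {K : Subgroup G} [K.Normal] {S : Subgroup (G ⧸ K)} [S.Normal] {t' : Fam} {v f' : ℕ}

/-- `t` is `psl 6` or `psu 6` -/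
def T6 (t : Fam) : Prop := t = .psl 6 ∨ t = .psu 6

theorem T6.cla (h : T6 t) : Classical t := by rcases h with rfl | rfl <;> trivial

theorem T6.rk (h : T6 t) : rk t = 6 := by rcases h with rfl | rfl <;> rfl

theorem T6.mem_iff (h : T6 t) {i : ℕ} : mem t i ↔ i ≤ 6 := by rcases h with rfl | rfl <;> exact Iff.rfl

theorem T6.nap_iff (h : T6 t) {i : ℕ} : nap t i ↔ 6 < i + 2 := by rcases h with rfl | rfl <;> exact Iff.rfl

theorem T6.na_iff (h : T6 t) {i j : ℕ} : na t i j ↔ 6 < i + j ∧ ¬ i ∣ j ∧ ¬ j ∣ i := by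
  rcases h with rfl | rfl <;> exact Iff.rfl

theorem T6.n34 (h : T6 t) : Cfsg.Agent.R2.Spec.na t 3 4 := h.na_iff.2 (by decide)
theorem T6.n35 (h : T6 t) : na t 3 5 := h.na_iff.2 (by decide)
theorem T6.n45 (h : T6 t) : na t 4 5 := h.na_iff.2 (by decide)
theorem T6.n46 (h : T6 t) : na t 4 6 := h.na_iff.2 (by decide)
theorem T6.n56 (h : T6 t) : na t 5 6 := h.na_iff.2 (by decide)

/-- nap classes are big -/
theorem big_of_nap' {t : Fam} (ht : Classical t) {i : ℕ} (h3 : 3 ≤ i) (hm : mem t i) (hi : nap t i) : Big t i := by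
  refine ⟨h3, hm, ?_⟩
  have he := two_le_eta h3
  cases t with
  | psl n => change i ≤ n at hm; change n < i + 2 at hi; change n < 2 * i; omega
  | psu n => change i ≤ n at hm; change n < i + 2 at hi; change n < 2 * i; omega
  | psp n => change eta i ≤ n at hm; change n < eta i + 1 at hi; change n < 2 * eta i; omega
  | oodd n => change eta i ≤ n at hm; change n < eta i + 1 at hi; change n < 2 * eta i; omega
  | oplus n =>
    change eta i + 1 ≤ n ∨ (i = n ∧ n % 2 = 1) at hm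
    change n < eta i + 2 at hi
    change n < 2 * eta i
    rcases hm with hm | ⟨hm, hm'⟩
    · omega
    · have := he.2.2.1 (by omega)
      omega
  | ominus n =>
    change eta i + 1 ≤ n ∨ i = 2 * n at hm
    change n < eta i + 2 at hi
    change n < 2 * eta i
    rcases hm with hm | hm
    · omega
    · have := he.2.2.2 (by omega)
      omega
  | _ => exact ht.elim

/-- distinct nap classes are nonadjacent -/
theorem na_of_nap {t : Fam} (ht : Classical t) {i j : ℕ} (hi3 : 3 ≤ i) (hj3 : 3 ≤ j) (hmi : mem t i) (hmj : mem t j)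
    (hi : nap t i) (hj : nap t j) (hij : i ≠ j) : na t i j :=
  na_of_big ht (big_of_nap' ht hi3 hmi hi) (big_of_nap' ht hj3 hmj hj) hij

/-- the class of a prime of `S` is in `mem` -/
theorem Frm.mem_of_dvd (hF : Frm G K S t' v f') {x : ℕ} (hx : x.Prime) (hx2 : x ≠ 2) (h3 : 3 ≤ cls t' (v ^ f') x)
    (hS : x ∣ Nat.card S) : mem t' (cls t' (v ^ f') x) := by
  have hxv : ¬ x ∣ v := fun hd =>
    F1.Frm.ne_v_of_reg hF hx h3 ((Nat.prime_dvd_prime_iff_eq hx hF.prime).1 hd)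
  exact ((adjFacts hF.cla hF.prime hF.is).dvd x hx hx2 hxv h3).1 hS

/-- `L₂(u)` : adjacency is transitive -/
theorem psl2_trans {v f' : ℕ} {S : Type u} [Group S] (hv : v.Prime) (h : Fam.Is v f' S (.psl 2)) {x y z : ℕ}
    (hx : x.Prime) (hy : y.Prime) (hz : z.Prime) (hy2 : y ≠ 2) (hxy : x ≠ y) (hyz : y ≠ z) (hxz : x ≠ z)
    (h1 : ∃ g : S, orderOf g = x * y) (h2 : ∃ g : S, orderOf g = y * z) : ∃ g : S, orderOf g = x * z := by
  obtain ⟨-, h4, F, _, _, hch, hF, ⟨e⟩⟩ := h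
  have := Fact.mk hv
  have h4' : 4 ≤ Fintype.card F := by rw [hF]; exact h4 rfl
  have hr := Cfsg.Agent.S2475.result (F := F) v h4'
  have key : ∀ m : ℕ, (∃ g : S, orderOf g = m) ↔ (m ∣ v ∨ m ∣ (Fintype.card F - 1) / Nat.gcd 2 (Fintype.card F - 1) ∨
      m ∣ (Fintype.card F + 1) / Nat.gcd 2 (Fintype.card F - 1)) := by
    intro m
    have h5 := Set.ext_iff.1 hr m
    rw [Set.mem_ofPred_eq] at h5
    rw [← h5]
    constructor
    · rintro ⟨g, rfl⟩
      exact ⟨e g, MulEquiv.orderOf_eq e g⟩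
    · rintro ⟨g, rfl⟩
      exact ⟨e.symm g, MulEquiv.orderOf_eq e.symm g⟩
  rw [key] at h1 h2 ⊢
  have hne : ∀ {a b : ℕ}, a.Prime → b.Prime → a ≠ b → ¬ a * b ∣ v := by
    intro a b ha hb hab hd
    have e1 := (Nat.prime_dvd_prime_iff_eq ha hv).1 ((dvd_mul_right a b).trans hd)
    have e2 := (Nat.prime_dvd_prime_iff_eq hb hv).1 ((dvd_mul_left b a).trans hd)
    exact hab (e1.trans e2.symm)
  have hgd1 : Nat.gcd 2 (Fintype.card F - 1) ∣ Fintype.card F - 1 := Nat.gcd_dvd_right _ _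
  have hgd2 : Nat.gcd 2 (Fintype.card F - 1) ∣ Fintype.card F + 1 := by
    have e1 : Fintype.card F + 1 = (Fintype.card F - 1) + 2 := by omega
    rw [e1]
    exact dvd_add hgd1 (Nat.gcd_dvd_left _ _)
  have hcop : ¬ (y ∣ (Fintype.card F - 1) / Nat.gcd 2 (Fintype.card F - 1) ∧
      y ∣ (Fintype.card F + 1) / Nat.gcd 2 (Fintype.card F - 1)) := by
    rintro ⟨e1, e2⟩
    have e3 := e1.trans (Nat.div_dvd_of_dvd hgd1)
    have e4 := e2.trans (Nat.div_dvd_of_dvd hgd2)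
    have e5 : y ∣ 2 := by
      have := (Nat.dvd_add_right e3).1 (show y ∣ (Fintype.card F - 1) + 2 by
        rw [show (Fintype.card F - 1) + 2 = Fintype.card F + 1 by omega]; exact e4)
      exact this
    exact hy2 ((Nat.prime_dvd_prime_iff_eq hy Nat.prime_two).1 e5)
  have hco : Nat.Coprime x z := (Nat.coprime_primes hx hz).2 hxz
  rcases h1 with h1 | h1 | h1
  · exact absurd h1 (hne hx hy hxy)
  · rcases h2 with h2 | h2 | h2
    · exact absurd h2 (hne hy hz hyz)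
    · exact Or.inr (Or.inl (hco.mul_dvd_of_dvd_of_dvd ((dvd_mul_right x y).trans h1) ((dvd_mul_left z y).trans h2)))
    · exact absurd ⟨(dvd_mul_left y x).trans h1, (dvd_mul_right y z).trans h2⟩ hcop
  · rcases h2 with h2 | h2 | h2
    · exact absurd h2 (hne hy hz hyz)
    · exact absurd ⟨(dvd_mul_right y z).trans h2, (dvd_mul_left y x).trans h1⟩ hcop
    · exact Or.inr (Or.inr (hco.mul_dvd_of_dvd_of_dvd ((dvd_mul_right x y).trans h1) ((dvd_mul_left z y).trans h2)))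

/-- a divisor of the isolated number of `L₃(u)`, `U₃(u)` -/
theorem iso3_aux {s : ℤ} {t R r : ℕ} (ht : (s - 1).natAbs = t) (ht0 : 0 < t)
    (hR : R * (Nat.gcd 3 t * t) = ua s 3) (hR0 : 0 < R) (hr : r.Prime) (hrR : r ∣ R) :
    orderOf ((s : ℤ) : ZMod r) = 3 := by
  have hrf := Fact.mk hr
  have h1 : ¬ r ∣ ua s 1 := not_dvd_ua Nat.prime_three (by omega) ht ht0 hR hR0 hr hrR le_rfl (by omega)
  have hrn : r ∣ ua s 3 := by
    rw [← hR]
    exact hrR.mul_right _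
  have h2 : (r : ℤ) ∣ s ^ 3 - 1 := Int.natCast_dvd.2 hrn
  have h3 := (ZMod.intCast_zmod_eq_zero_iff_dvd _ r).2 h2
  push_cast at h3
  have h4 : ((s : ℤ) : ZMod r) ^ 3 = 1 := by linear_combination h3
  rcases (Nat.dvd_prime Nat.prime_three).1 (orderOf_dvd_of_pow_eq_one h4) with h5 | h5
  · exfalso
    rw [orderOf_eq_one_iff] at h5
    apply h1
    have h6 : (r : ℤ) ∣ s ^ 1 - 1 := by
      rw [← ZMod.intCast_zmod_eq_zero_iff_dvd]
      push_cast
      rw [h5]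
      ring
    exact Int.natCast_dvd.1 h6
  · exact h5

/-- `L₃(u)`, `U₃(u)` : the class three is isolated -/
theorem iso3 {v f' : ℕ} {S : Type u} [Group S] [Finite S] (hv : v.Prime) (ht : t' = .psl 3 ∨ t' = .psu 3)
    (h : Fam.Is v f' S t') {x y : ℕ} (hx : x.Prime) (hy : y.Prime) (hx3 : cls t' (v ^ f') x = 3)
    (hxy : ∃ g : S, orderOf g = x * y) : cls t' (v ^ f') y = 3 := by
  have hcla : Classical t' := by rcases ht with rfl | rfl <;> trivial
  have hu : 2 ≤ v ^ f' := by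
    have hf : f' ≠ 0 := by
      rcases ht with rfl | rfl
      · obtain ⟨-, -, F, _, _, hch, hF, -⟩ := h
        rintro rfl
        have := Fintype.one_lt_card (α := F)
        rw [hF, pow_zero] at this
        omega
      · obtain ⟨-, -, F, _, _, hch, hF, -⟩ := h
        rintro rfl
        have := Fintype.one_lt_card (α := F)
        rw [hF, pow_zero, one_pow] at this
        omega
    calc 2 ≤ v := hv.two_le
      _ ≤ v ^ f' := Nat.le_self_pow hf v
  have hT := top_facts_all hcla hv h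
  obtain ⟨g, hg⟩ := hxy
  have hxv : ¬ x ∣ v := by
    intro hd
    have hx' := (Nat.prime_dvd_prime_iff_eq hx hv).1 hd
    have h3 : 3 ≤ cls t' (v ^ f') x := by omega
    have := (cls_facts hx h3).2.1
    apply this
    rw [hx']
    exact dvd_pow_self v (by rintro rfl; simp at hu)
  have htop : top t' (cls t' (v ^ f') x) := by
    rw [hx3]
    rcases ht with rfl | rfl
    · exact ⟨le_rfl, Or.inl rfl⟩
    · exact ⟨le_rfl, Or.inl rfl⟩
  have h1 := hT.ub x hx hxv htop g (by rw [hg]; exact dvd_mul_right _ _)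
  rw [hg, hx3] at h1
  have h2 : y ∣ ttor t' (v ^ f') 3 := (dvd_mul_left y x).trans h1
  generalize hU : v ^ f' = U at *
  rcases ht with rfl | rfl
  · -- `psl 3`
    have e0 : ((U : ℤ) - 1).natAbs = U - 1 := by omega
    obtain ⟨R, hR⟩ := gcd_mul_dvd_ua (s := (U : ℤ)) (n := 3) e0
    rw [mul_comm] at hR
    have hR' : R * (Nat.gcd 3 (U - 1) * (U - 1)) = ua (U : ℤ) 3 := hR.symm
    have hua : ua (U : ℤ) 3 = U ^ 3 - 1 := ua_plus (q := U) (by omega) 3
    have hpos : 0 < Nat.gcd 3 (U - 1) * (U - 1) :=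
      Nat.mul_pos (Nat.gcd_pos_of_pos_left _ (by norm_num)) (by omega)
    have h3 : ttor (.psl 3) U 3 = R := by
      have e1 : ttor (.psl 3) U 3 = (U ^ 3 - 1) / ((U - 1) * Nat.gcd 3 (U - 1)) := by rw [ttor, if_pos rfl]
      rw [e1, ← hua, ← hR', mul_comm (U - 1)]
      exact Nat.mul_div_cancel _ hpos
    rw [h3] at h2
    have hU3 : 1 < U ^ 3 := Nat.one_lt_pow (by norm_num) (by omega)
    have hR0 : 0 < R := by
      rcases Nat.eq_zero_or_pos R with h | h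
      · rw [h, zero_mul] at hR'; omega
      · exact h
    exact iso3_aux e0 (by omega) hR' hR0 hy h2
  · -- `psu 3`
    have e0 : (-(U : ℤ) - 1).natAbs = U + 1 := by omega
    obtain ⟨R, hR⟩ := gcd_mul_dvd_ua (s := -(U : ℤ)) (n := 3) e0
    rw [mul_comm] at hR
    have hR' : R * (Nat.gcd 3 (U + 1) * (U + 1)) = ua (-(U : ℤ)) 3 := hR.symm
    have hua : ua (-(U : ℤ)) 3 = U ^ 3 + 1 := ua_minus_odd (by decide)
    have hpos : 0 < Nat.gcd 3 (U + 1) * (U + 1) :=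
      Nat.mul_pos (Nat.gcd_pos_of_pos_left _ (by norm_num)) (by omega)
    have h3 : ttor (.psu 3) U 3 = R := by
      have e1 : ttor (.psu 3) U 3 = (if 3 % 2 = 0 then U ^ 3 - 1 else U ^ 3 + 1) / ((U + 1) * Nat.gcd 3 (U + 1)) := by
        rw [ttor, if_pos rfl]
      rw [e1, if_neg (by norm_num), ← hua, ← hR', mul_comm (U + 1)]
      exact Nat.mul_div_cancel _ hpos
    rw [h3] at h2
    have hR0 : 0 < R := by
      rcases Nat.eq_zero_or_pos R with h | h
      · rw [h, zero_mul] at hR'; omega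
      · exact h
    exact iso3_aux e0 (by omega) hR' hR0 hy h2

/-- the good primes of the classes `3, 4, 6` and `p` if a prime of class `5` is bad -/
structure Four (G : Type u) [Group G] (K : Subgroup G) [K.Normal] (S : Subgroup (G ⧸ K)) [S.Normal] (p z3 z4 z6 : ℕ) :
    Prop where
  p3 : z3.Prime
  p4 : z4.Prime
  p6 : z6.Prime
  pp : p.Prime
  f3 : 5 ≤ z3
  f4 : 5 ≤ z4
  f6 : 5 ≤ z6
  pne : p ≠ 2
  n34 : z3 ≠ z4
  n36 : z3 ≠ z6
  n46 : z4 ≠ z6
  n3p : z3 ≠ p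
  n4p : z4 ≠ p
  n6p : z6 ≠ p
  d3 : z3 ∣ Nat.card S
  d4 : z4 ∣ Nat.card S
  d6 : z6 ∣ Nat.card S
  dp : p ∣ Nat.card S
  a3p : ∃ g : S, orderOf g = z3 * p
  a4p : ∃ g : S, orderOf g = p * z4
  a36 : ∃ g : S, orderOf g = z3 * z6
  m34 : ¬ ∃ g : S, orderOf g = z3 * z4
  m46 : ¬ ∃ g : S, orderOf g = z4 * z6
  m6p : ¬ ∃ g : S, orderOf g = z6 * p

theorem Four.psl2 {p z3 z4 z6 : ℕ} (q : Four G K S p z3 z4 z6) (hF : Frm G K S t' v f') : t' ≠ .psl 2 := by
  intro ht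
  have h := hF.is
  rw [ht] at h
  exact q.m34 (psl2_trans hF.prime h q.p3 q.pp q.p4 q.pne q.n3p q.n4p.symm q.n34 q.a3p q.a4p)

theorem swap_adj {M : Type*} [Group M] {a b : ℕ} (h : ∃ g : M, orderOf g = a * b) : ∃ g : M, orderOf g = b * a := by
  rwa [mul_comm]

/-- none of the four primes is of class three in `L₃(u)`, `U₃(u)` -/
theorem Four.no3 {p z3 z4 z6 : ℕ} (q : Four G K S p z3 z4 z6) (hF : Frm G K S t' v f') (ht : t' = .psl 3 ∨ t' = .psu 3) :
    cls t' (v ^ f') z3 ≠ 3 ∧ cls t' (v ^ f') z4 ≠ 3 ∧ cls t' (v ^ f') z6 ≠ 3 ∧ cls t' (v ^ f') p ≠ 3 := by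
  have iso := fun {x y : ℕ} (hx : x.Prime) (hy : y.Prime) (hx3 : cls t' (v ^ f') x = 3)
    (hxy : ∃ g : S, orderOf g = x * y) => iso3 hF.prime ht hF.is hx hy hx3 hxy
  have key : cls t' (v ^ f') p ≠ 3 := by
    intro hp
    have h3 := iso q.pp q.p3 hp (swap_adj q.a3p)
    have h4 := iso q.pp q.p4 hp q.a4p
    have nv : ∀ {x : ℕ}, x.Prime → cls t' (v ^ f') x = 3 → x ≠ v := fun hx h => Frm.ne_v_of_reg hF hx (by omega)
    exact q.m34 (adj_same' hF.cla hF.prime hF.is q.p3 q.p4 (by have := q.f3; omega) (by have := q.f4; omega) q.n34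
      (nv q.p3 h3) (nv q.p4 h4) q.d3 q.d4 (h3.trans h4.symm))
  refine ⟨fun h => key (iso q.p3 q.pp h q.a3p), fun h => key (iso q.p4 q.pp h (swap_adj q.a4p)), fun h => ?_, key⟩
  exact key (iso q.p3 q.pp (iso q.p6 q.p3 h (swap_adj q.a36)) q.a3p)

/-- two adjacent primes of `S` which are regular and isolated are of the same class -/
theorem cls_eq_of_nap (hF : Frm G K S t' v f') {x y : ℕ} (hx : x.Prime) (hy : y.Prime) (hx2 : x ≠ 2) (hy2 : y ≠ 2)
    (hxy : x ≠ y) (hxS : x ∣ Nat.card S) (hyS : y ∣ Nat.card S) (hx3 : 3 ≤ cls t' (v ^ f') x)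
    (hy3 : 3 ≤ cls t' (v ^ f') y) (hxn : nap t' (cls t' (v ^ f') x)) (hyn : nap t' (cls t' (v ^ f') y))
    (ha : ∃ g : S, orderOf g = x * y) : cls t' (v ^ f') x = cls t' (v ^ f') y := by
  by_contra hne
  have h1 := (hF.na_of hx hy hxy hx3 hy3 hxS hyS).1 ha
  exact h1 (na_of_nap hF.cla hx3 hy3 (Frm.mem_of_dvd hF hx hx2 hx3 hxS) (Frm.mem_of_dvd hF hy hy2 hy3 hyS) hxn hyn hne)

/-- the four primes are not all isolated regular in `S` -/
theorem Four.not_nap {p z3 z4 z6 : ℕ} (q : Four G K S p z3 z4 z6) (hF : Frm G K S t' v f')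
    (h3 : 3 ≤ cls t' (v ^ f') z3 ∧ nap t' (cls t' (v ^ f') z3))
    (h4 : 3 ≤ cls t' (v ^ f') z4 ∧ nap t' (cls t' (v ^ f') z4))
    (hp : 3 ≤ cls t' (v ^ f') p ∧ nap t' (cls t' (v ^ f') p)) : False := by
  have x2 : z3 ≠ 2 := by have := q.f3; omega
  have y2 : z4 ≠ 2 := by have := q.f4; omega
  have e1 := cls_eq_of_nap hF q.p3 q.pp x2 q.pne q.n3p q.d3 q.dp h3.1 hp.1 h3.2 hp.2 q.a3p
  have e2 := cls_eq_of_nap hF q.pp q.p4 q.pne y2 q.n4p.symm q.dp q.d4 hp.1 h4.1 hp.2 h4.2 q.a4p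
  have nv : ∀ {x : ℕ}, x.Prime → 3 ≤ cls t' (v ^ f') x → x ≠ v := fun hx h => Frm.ne_v_of_reg hF hx h
  exact q.m34 (adj_same' hF.cla hF.prime hF.is q.p3 q.p4 x2 y2 q.n34 (nv q.p3 h3.1) (nv q.p4 h4.1) q.d3 q.d4
    (e1.trans e2))

/-- case (A) -/
theorem Four.caseA {p z3 z4 z6 : ℕ} (q : Four G K S p z3 z4 z6) (hF : Frm G K S t' v f') (hpv : p ≠ v)
    {r : ℕ} (hr : r.Prime) (hrK : r ∣ Nat.card K) (hrv : r ≠ v) (h3 : z3 ≠ r) (h4 : z4 ≠ r) (h6 : z6 ≠ r) (hp : p ≠ r)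
    (a3 : ¬ ∃ g : G, orderOf g = r * z3) (a4 : ¬ ∃ g : G, orderOf g = r * z4) (a6 : ¬ ∃ g : G, orderOf g = r * z6)
    (ap : ¬ ∃ g : G, orderOf g = r * p) : False := by
  have x3 : z3 ≠ 2 := by have := q.f3; omega
  have x4 : z4 ≠ 2 := by have := q.f4; omega
  have x6 : z6 ≠ 2 := by have := q.f6; omega
  have nv : ∀ {x : ℕ}, x.Prime → 3 ≤ cls t' (v ^ f') x → x ≠ v := fun hx h => Frm.ne_v_of_reg hF hx h
  have k3 := hF.kcase hr hrK hrv q.p3 x3 h3 q.d3 a3
  have k4 := hF.kcase hr hrK hrv q.p4 x4 h4 q.d4 a4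
  have k6 := hF.kcase hr hrK hrv q.p6 x6 h6 q.d6 a6
  have kp := hF.kcase hr hrK hrv q.pp q.pne hp q.dp ap
  have hn2 := q.psl2 hF
  -- the set `P x` : same class
  have an : ∀ {x y : ℕ}, x.Prime → y.Prime → x ≠ 2 → y ≠ 2 → x ≠ y → x ∣ Nat.card S → y ∣ Nat.card S →
      (3 ≤ cls t' (v ^ f') x ∧ An t' (cls t' (v ^ f') x)) → (3 ≤ cls t' (v ^ f') y ∧ An t' (cls t' (v ^ f') y)) →
      ∃ g : S, orderOf g = x * y := by
    intro x y hx hy hx2 hy2 hxy hxS hyS h1 h2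
    exact adj_same' hF.cla hF.prime hF.is hx hy hx2 hy2 hxy (nv hx h1.1) (nv hy h2.1) hxS hyS
      (an_unique hF.cla h1.2 h2.2)
  by_cases h3u : t' = .psu 3
  · -- `U₃(u)` : no class three
    obtain ⟨c3, c4, c6, cp⟩ := q.no3 hF (Or.inr h3u)
    have hT : ∀ {x : ℕ}, x.Prime → x ≠ 2 → x ∣ Nat.card S → cls t' (v ^ f') x ≠ 3 →
        (x = v ∨ (3 ≤ cls t' (v ^ f') x ∧ An t' (cls t' (v ^ f') x)) ∨ (t' = .psl 2 ∧ x ∣ v ^ f' + 1) ∨
        (t' = .psu 3 ∧ x ∣ v ^ f' + 1)) → x = v ∨ (x ≠ v ∧ cls t' (v ^ f') x = 1) := by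
      intro x hx hx2 hxS hc h
      by_cases hxv : x = v
      · exact Or.inl hxv
      right
      refine ⟨hxv, ?_⟩
      rcases h with h | h | h | h
      · exact absurd h hxv
      · exfalso
        have hm := Frm.mem_of_dvd hF hx hx2 h.1 hxS
        rw [h3u] at hm hc h
        change _ ≤ 3 at hm
        have := h.1
        omega
      · exact absurd h.1 hn2
      · rw [cls_one_iff, h3u]
        have h5 : ((v ^ f' + 1 : ℕ) : ZMod x) = 0 := (ZMod.natCast_eq_zero_iff _ _).2 h.2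
        change (((-((v ^ f' : ℕ) : ℤ)) : ℤ) : ZMod x) = 1
        push_cast at h5 ⊢
        linear_combination -h5
    have hsame : ∀ {x y : ℕ}, x.Prime → y.Prime → x ≠ 2 → y ≠ 2 → x ≠ y → x ∣ Nat.card S → y ∣ Nat.card S →
        (x ≠ v ∧ cls t' (v ^ f') x = 1) → (y ≠ v ∧ cls t' (v ^ f') y = 1) → ∃ g : S, orderOf g = x * y := by
      intro x y hx hy hx2 hy2 hxy hxS hyS h1 h2
      exact adj_same' hF.cla hF.prime hF.is hx hy hx2 hy2 hxy h1.1 h2.1 hxS hyS (h1.2.trans h2.2.symm)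
    have l3 := hT q.p3 x3 q.d3 c3 k3
    have l4 := hT q.p4 x4 q.d4 c4 k4
    have l6 := hT q.p6 x6 q.d6 c6 k6
    have lp := (hT q.pp q.pne q.dp cp kp).resolve_left hpv
    rcases l4 with l4 | l4
    · have l6' := l6.resolve_left fun h => q.n46 (l4.trans h.symm)
      exact q.m6p (hsame q.p6 q.pp x6 q.pne q.n6p q.d6 q.dp l6' lp)
    · have l3' : z3 = v := l3.resolve_right fun h => q.m34 (hsame q.p3 q.p4 x3 x4 q.n34 q.d3 q.d4 h l4)
      have l6' : z6 = v := l6.resolve_right fun h => q.m46 (hsame q.p4 q.p6 x4 x6 q.n46 q.d4 q.d6 l4 h)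
      exact q.n36 (l3'.trans l6'.symm)
  · have hred : ∀ {x : ℕ}, (x = v ∨ (3 ≤ cls t' (v ^ f') x ∧ An t' (cls t' (v ^ f') x)) ∨ (t' = .psl 2 ∧ x ∣ v ^ f' + 1) ∨
        (t' = .psu 3 ∧ x ∣ v ^ f' + 1)) → x = v ∨ (3 ≤ cls t' (v ^ f') x ∧ An t' (cls t' (v ^ f') x)) := by
      intro x h
      rcases h with h | h | h | h
      · exact Or.inl h
      · exact Or.inr h
      · exact absurd h.1 hn2
      · exact absurd h.1 h3u
    have l3 := hred k3
    have l4 := hred k4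
    have l6 := hred k6
    have lp := (hred kp).resolve_left hpv
    rcases l4 with l4 | l4
    · have l6' := l6.resolve_left fun h => q.n46 (l4.trans h.symm)
      exact q.m6p (an q.p6 q.pp x6 q.pne q.n6p q.d6 q.dp l6' lp)
    · have l3' : z3 = v := l3.resolve_right fun h => q.m34 (an q.p3 q.p4 x3 x4 q.n34 q.d3 q.d4 h l4)
      have l6' : z6 = v := l6.resolve_right fun h => q.m46 (an q.p4 q.p6 x4 x6 q.n46 q.d4 q.d6 l4 h)
      exact q.n36 (l3'.trans l6'.symm)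

/-- case (B) -/
theorem Four.caseB {p z3 z4 z6 : ℕ} (q : Four G K S p z3 z4 z6) (hF : Frm G K S t' v f') (hpv : p ≠ v)
    (h3 : z3 ≠ v) (h4 : z4 ≠ v)
    (a3 : ¬ ∃ g : S, orderOf g = v * z3) (a4 : ¬ ∃ g : S, orderOf g = v * z4)
    (ap : ¬ ∃ g : S, orderOf g = v * p) : False := by
  have x3 : z3 ≠ 2 := by have := q.f3; omega
  have x4 : z4 ≠ 2 := by have := q.f4; omega
  have k3 := hF.vcase q.p3 x3 h3 q.d3 a3
  have k4 := hF.vcase q.p4 x4 h4 q.d4 a4
  have kp := hF.vcase q.pp q.pne hpv q.dp ap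
  have hn2 := q.psl2 hF
  by_cases hsm : t' = .psl 3 ∨ t' = .psu 3
  · obtain ⟨c3, c4, c6, cp⟩ := q.no3 hF hsm
    have hle : ∀ {x : ℕ}, x.Prime → x ≠ 2 → x ∣ Nat.card S → cls t' (v ^ f') x ≠ 3 → cls t' (v ^ f') x ≤ 2 := by
      intro x hx hx2 hxS hc
      by_contra hcon
      push Not at hcon
      have hm := Frm.mem_of_dvd hF hx hx2 hcon hxS
      have : cls t' (v ^ f') x ≤ 3 := by
        rcases hsm with h | h
        · rw [h] at hm ⊢; exact hm
        · rw [h] at hm ⊢; exact hm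
      omega
    exact q.m34 (hF.adj_low (hsm.elim Or.inl fun h => Or.inr (Or.inl h)) q.p3 q.p4 q.f3 q.f4 q.n34 h3 h4
      (hle q.p3 x3 q.d3 c3) (hle q.p4 x4 q.d4 c4))
  · have hred : ∀ {x : ℕ}, ((3 ≤ cls t' (v ^ f') x ∧ nap t' (cls t' (v ^ f') x)) ∨
      (cls t' (v ^ f') x ≤ 2 ∧ rk t' ≤ 3 ∧ ∃ n, t' = .psl n ∨ t' = .psu n)) →
        (3 ≤ cls t' (v ^ f') x ∧ nap t' (cls t' (v ^ f') x)) := by
      rintro x (h | ⟨-, h1, n, h2⟩)
      · exact h
      · exfalso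
        have hi := hF.is
        rcases h2 with h2 | h2
        · rw [h2] at hi h1
          change n ≤ 3 at h1
          have h3' := hi.1
          interval_cases n
          · exact hn2 h2
          · exact hsm (Or.inl h2)
        · rw [h2] at hi h1
          change n ≤ 3 at h1
          have h3' := hi.1
          interval_cases n
          exact hsm (Or.inr h2)
    exact q.not_nap hF (hred k3) (hred k4) (hred kp)

/-- case (C) -/
theorem Four.caseC {p z3 z4 z6 : ℕ} (q : Four G K S p z3 z4 z6) (hF : Frm G K S t' v f')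
    {r : ℕ} (hr : r.Prime) (hr5 : 5 ≤ r) (hrd : r ∣ dg t' (v ^ f')) (h3 : z3 ≠ r) (h4 : z4 ≠ r) (hp : p ≠ r)
    (a3 : ¬ ∃ g : S, orderOf g = r * z3) (a4 : ¬ ∃ g : S, orderOf g = r * z4)
    (ap : ¬ ∃ g : S, orderOf g = r * p) : False := by
  have key : ∀ {x : ℕ}, (3 ≤ cls t' (v ^ f') x ∧ rk t' < cls t' (v ^ f') x + 2 ∧ ∃ n, t' = .psl n ∨ t' = .psu n) →
      (3 ≤ cls t' (v ^ f') x ∧ nap t' (cls t' (v ^ f') x)) := by
    rintro x ⟨h1, h2, n, h3 | h3⟩
    · refine ⟨h1, ?_⟩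
      rw [h3] at h2 ⊢
      exact h2
    · refine ⟨h1, ?_⟩
      rw [h3] at h2 ⊢
      exact h2
  exact q.not_nap hF (key (hF.dcase hr hr5 hrd q.p3 h3 a3)) (key (hF.dcase hr hr5 hrd q.p4 h4 a4))
    (key (hF.dcase hr hr5 hrd q.pp hp ap))

theorem LS.q3' (h : LS t p f L G) (hp2 : p ≠ 2) : 3 ≤ p ^ f := F1.LS.q_three h hp2

/-- **The primes of class five are good.** -/
theorem LS.good5 (h : LS t p f L G) (hR : Red G K S) (hF : Frm G K S t' v f') (hp2 : p ≠ 2) (hvp : v ≠ p) (ht : T6 t)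
    {r : ℕ} (hr : r.Prime) (hrc : cls t (p ^ f) r = 5) : ¬ r ∣ Nat.card K * S.index ∧ r ∣ Nat.card S := by
  have hq := F1.LS.q_three h hp2
  have Hr : In t (p ^ f) 5 r := ⟨hr, hrc, by norm_num, ht.mem_iff.2 (by norm_num)⟩
  obtain ⟨z3, H3⟩ := exists_in h hq (i := 3) (by norm_num) (ht.mem_iff.2 (by norm_num))
  obtain ⟨z4, H4⟩ := exists_in h hq (i := 4) (by norm_num) (ht.mem_iff.2 (by norm_num))
  obtain ⟨z6, H6⟩ := exists_in h hq (i := 6) (by norm_num) (ht.mem_iff.2 (by norm_num))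
  by_contra hcon
  have hbad : r ∣ Nat.card K * S.index := by
    by_contra hb
    refine hcon ⟨hb, ?_⟩
    have h1 := Hr.dvd h
    rw [card_eq_mul (K := K) (S := S)] at h1
    exact (hr.dvd_mul.1 h1).resolve_right hb
  have r3 := Hr.ne H3 (by norm_num)
  have r4 := Hr.ne H4 (by norm_num)
  have r6 := Hr.ne H6 (by norm_num)
  have e34 := H3.ne H4 (by norm_num)
  have e36 := H3.ne H6 (by norm_num)
  have e46 := H4.ne H6 (by norm_num)
  have ne_p : ∀ {i x : ℕ}, In t (p ^ f) i x → x ≠ p := fun hx he => hx.not_dvd h.fpos (by rw [he])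
  have rp := ne_p Hr
  have g3 := h.good_of_bad hR Hr H3 H4 (na_symm ht.n35) (na_symm ht.n45) ht.n34 hbad
  have g4 := h.good_of_bad hR Hr H4 H3 (na_symm ht.n45) (na_symm ht.n35) (na_symm ht.n34) hbad
  have g6 := h.good_of_bad hR Hr H6 H4 ht.n56 (na_symm ht.n45) (na_symm ht.n46) hbad
  have hpG : p ∣ Nat.card G := (h.dvd_iff h.prime).2 h.pdvd
  have nap5 : nap t 5 := ht.nap_iff.2 (by norm_num)
  have nap6 : nap t 6 := ht.nap_iff.2 (by norm_num)
  have hnrp : ¬ ∃ g : G, orderOf g = r * p := fun hg => (h.adjp_iff Hr).1 hg nap5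
  have hn6p : ¬ ∃ g : G, orderOf g = z6 * p := fun hg => (h.adjp_iff H6).1 hg nap6
  have nG : ∀ {i x : ℕ}, In t (p ^ f) i x → r ≠ x → na t 5 i → ¬ ∃ g : G, orderOf g = r * x :=
    fun hx hne hn hg => (h.adj_iff Hr hx hne).1 hg hn
  have gp := Red.two_bad hR Hr.prime h.prime H6.prime (Hr.dvd h) hpG (H6.dvd h) rp r6 (ne_p H6).symm
    hnrp (nG H6 r6 ht.n56) (fun hg => hn6p (swap_adj hg)) hbad
  have toS : ∀ {m : ℕ}, (∃ g : S, orderOf g = m) → ∃ g : G, orderOf g = m := fun hg => exists_of_S hg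
  have q : Four G K S p z3 z4 z6 :=
    { p3 := H3.prime, p4 := H4.prime, p6 := H6.prime, pp := h.prime, f3 := H3.five, f4 := H4.five, f6 := H6.five
      pne := hp2, n34 := e34, n36 := e36, n46 := e46, n3p := ne_p H3, n4p := ne_p H4, n6p := ne_p H6
      d3 := g3.2, d4 := g4.2, d6 := g6.2, dp := gp.2
      a3p := adj_S_of_good H3.prime h.prime g3.1 gp.1 ((h.adjp_iff H3).2 fun hn => by
        have := ht.nap_iff.1 hn; omega)
      a4p := adj_S_of_good h.prime H4.prime gp.1 g4.1 (swap_adj ((h.adjp_iff H4).2 fun hn => by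
        have := ht.nap_iff.1 hn; omega))
      a36 := adj_S_of_good H3.prime H6.prime g3.1 g6.1 ((h.adj_iff H3 H6 e36).2 fun hn => by
        have := ht.na_iff.1 hn
        exact this.2.1 (by decide))
      m34 := fun hg => (h.adj_iff H3 H4 e34).1 (toS hg) ht.n34
      m46 := fun hg => (h.adj_iff H4 H6 e46).1 (toS hg) ht.n46
      m6p := fun hg => hn6p (toS hg) }
  by_cases hrK : r ∣ Nat.card K
  · by_cases hrv : r = v
    · -- (B)
      refine q.caseB hF hvp.symm (by rw [← hrv]; exact r3.symm) (by rw [← hrv]; exact r4.symm) ?_ ?_ ?_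
      · rw [← hrv]; exact fun hg => nG H3 r3 (na_symm ht.n35) (toS hg)
      · rw [← hrv]; exact fun hg => nG H4 r4 (na_symm ht.n45) (toS hg)
      · rw [← hrv]; exact fun hg => hnrp (toS hg)
    · exact q.caseA hF hvp.symm hr hrK hrv r3.symm r4.symm r6.symm rp.symm (nG H3 r3 (na_symm ht.n35))
        (nG H4 r4 (na_symm ht.n45)) (nG H6 r6 ht.n56) hnrp
  · by_cases hrd : r ∣ dg t' (v ^ f')
    · exact q.caseC hF hr Hr.five hrd r3.symm r4.symm rp.symm (fun hg => nG H3 r3 (na_symm ht.n35) (toS hg))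
        (fun hg => nG H4 r4 (na_symm ht.n45) (toS hg)) (fun hg => hnrp (toS hg))
    · have hHC : HC (sg t (p ^ f)) r 4 := h.hc hR hF Hr hbad hrK hrd (by norm_num) (ht.mem_iff.2 (by norm_num))
        (na_symm ht.n45) ⟨3, z3, H3, na_symm ht.n35, na_symm ht.n34⟩
      refine killer_false (X := sg t (p ^ f)) (r := r) (i := 5) hr Hr.five hrc (by norm_num) (I := fun l => l = 4) ?_ ?_
      · rintro l rfl -
        exact hHC
      · exact Or.inl ⟨1, le_rfl, rfl, by norm_num, by norm_num⟩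

end Cfsg.Agent.R2.Spec.X7.N6
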