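import Cfsg.Agent.R2.Spec.X7.Window
import Cfsg.Agent.R2.Spec.X7.N6.Def

/-!
# Box X7, `n = 6`, packet N6-L (helper28): the exponents of the matrices of determinant one
-/

set_option autoImplicit false

namespace Cfsg.Agent.R2.Spec.X7.N6

open Finset Function
open Cfsg.Agent.H437.Win (pow_scalar scalar_of_map roots_ne_zero)

theorem Up.mono {p c E E' : ℕ} {s : ℤ} (h : Up p s c E) (hd : E' ∣ E) : Up p s c E' := by
  have h1 : (E' : ℤ) ∣ E := Int.natCast_dvd_natCast.2 hd
  have h2 : (c * E' : ℤ) ∣ c * E := mul_dvd_mul_left _ h1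
  rcases h with h | h | h | h | h | h | h | ⟨h0, h⟩ | ⟨h0, h⟩
  · exact Or.inl (h2.trans h)
  · exact Or.inr (Or.inl ((mul_dvd_mul_right h2 _).trans h))
  · exact Or.inr (Or.inr (Or.inl (h1.trans h)))
  · exact Or.inr (Or.inr (Or.inr (Or.inl (h2.trans h))))
  · exact Or.inr (Or.inr (Or.inr (Or.inr (Or.inl (h1.trans h)))))
  · exact Or.inr (Or.inr (Or.inr (Or.inr (Or.inr (Or.inl (h1.trans h))))))
  · exact Or.inr (Or.inr (Or.inr (Or.inr (Or.inr (Or.inr (Or.inl (h1.trans h)))))))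
  · exact Or.inr (Or.inr (Or.inr (Or.inr (Or.inr (Or.inr (Or.inr (Or.inl ⟨h0, h1.trans h⟩)))))))
  · exact Or.inr (Or.inr (Or.inr (Or.inr (Or.inr (Or.inr (Or.inr (Or.inr ⟨h0, hd.trans h⟩)))))))

section

variable {K : Type*} [Field K] {s : ℤ} (hinj : Injective (zp s : K → K)) {Λ : Finset K} (hΛ : Stab s Λ)
  {m : K → ℕ} (hms : ∀ x ∈ Λ, m (zp s x) = m x)

include hΛ hms in
theorem m_orb {z y : K} (hz : z ∈ Λ) (hy : y ∈ orb s z) : m y = m z := by
  obtain ⟨i, -, rfl⟩ := mem_orb.1 hy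
  induction i with
  | zero => rfl
  | succ i ih =>
    rw [Function.iterate_succ_apply', hms _ (hΛ.iter hz i)]
    have hstep : ∀ i : ℕ, m ((zp s)^[i] z) = m z := by
      intro i
      induction i with
      | zero => rfl
      | succ i ih => rw [Function.iterate_succ_apply', hms _ (hΛ.iter hz i), ih]
    exact hstep i

include hΛ hms in
theorem sum_orb {x : K} (hx : x ∈ Λ) : ∑ y ∈ orb s x, m y = minimalPeriod (zp s) x * m x := by
  rw [Finset.sum_congr rfl fun y hy => m_orb hΛ hms hx hy, Finset.sum_const, card_orb, smul_eq_mul]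

open Classical in
include hΛ hms in
theorem sum_sdiff_orb {x : K} (hx : x ∈ Λ) :
    ∑ y ∈ Λ \ orb s x, m y + minimalPeriod (zp s) x * m x = ∑ y ∈ Λ, m y := by
  rw [← sum_orb hΛ hms hx, Finset.sum_sdiff (hΛ.orb_subset hx)]

include hΛ hms in
theorem one_le {x : K} (hx : x ∈ Λ) : minimalPeriod (zp s) x * m x ≤ ∑ y ∈ Λ, m y := by
  classical
  have := sum_sdiff_orb hΛ hms hx
  omega

include hinj hΛ hms in
theorem two_le {x y : K} (hx : x ∈ Λ) (hy : y ∈ Λ) (hyx : y ∉ orb s x) :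
    minimalPeriod (zp s) x * m x + minimalPeriod (zp s) y * m y ≤ ∑ y ∈ Λ, m y := by
  classical
  have h1 := sum_sdiff_orb hΛ hms hx
  have h2 := one_le (hΛ.sdiff hinj hx) (fun z hz => hms z (Finset.mem_sdiff.1 hz).1) (Finset.mem_sdiff.2 ⟨hy, hyx⟩)
  omega

include hinj hΛ hms in
theorem three_le {x y z : K} (hx : x ∈ Λ) (hy : y ∈ Λ) (hz : z ∈ Λ) (hyx : y ∉ orb s x) (hzx : z ∉ orb s x)
    (hzy : z ∉ orb s y) :
    minimalPeriod (zp s) x * m x + (minimalPeriod (zp s) y * m y + minimalPeriod (zp s) z * m z) ≤ ∑ y ∈ Λ, m y := by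
  classical
  have h1 := sum_sdiff_orb hΛ hms hx
  have h2 := two_le hinj (hΛ.sdiff hinj hx) (fun z hz => hms z (Finset.mem_sdiff.1 hz).1)
    (Finset.mem_sdiff.2 ⟨hy, hyx⟩) (Finset.mem_sdiff.2 ⟨hz, hzx⟩) hzy
  omega

include hinj hΛ hms in
/-- **The orbit types for `n = 6`.** -/
theorem six (hm1 : ∀ x ∈ Λ, 1 ≤ m x) (hsum : ∑ x ∈ Λ, m x = 6) :
    (∃ x ∈ Λ, (∀ z, z ∈ Λ ↔ z ∈ orb s x) ∧ minimalPeriod (zp s) x = 6 ∧ ∀ y ∈ Λ, m y = 1) ∨
    (∃ a, (a = 4 ∨ a = 5) ∧ ∃ x ∈ Λ, ∃ y ∈ Λ, y ∉ orb s x ∧ (∀ z, z ∈ Λ ↔ z = y ∨ z ∈ orb s x) ∧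
      minimalPeriod (zp s) y = 1 ∧ minimalPeriod (zp s) x = a ∧ a + m y = 6 ∧ ∀ z ∈ orb s x, m z = 1) ∨
    (∀ x ∈ Λ, (minimalPeriod (zp s) x = 1 ∨ minimalPeriod (zp s) x = 2 ∨ minimalPeriod (zp s) x = 4) ∧ m x = 1) ∨
    (∀ x ∈ Λ, (minimalPeriod (zp s) x = 1 ∨ minimalPeriod (zp s) x = 2 ∨ minimalPeriod (zp s) x = 3) ∧ m x = 1) ∨
    (∀ x ∈ Λ, (minimalPeriod (zp s) x = 1 ∨ minimalPeriod (zp s) x = 3) ∧ m x ≤ 3) ∨
    (∀ x ∈ Λ, (minimalPeriod (zp s) x = 1 ∨ minimalPeriod (zp s) x = 2) ∧ m x ≤ 5) ∨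
    (∃ x ∈ Λ, ∀ y ∈ Λ, y = x ∧ m y = 6) := by
  classical
  have hper : ∀ x ∈ Λ, 1 ≤ minimalPeriod (zp s) x := fun x hx => hΛ.period hinj hx
  -- one orbit with everything
  have hall : ∀ x ∈ Λ, minimalPeriod (zp s) x * m x = 6 → ∀ y ∈ Λ, y ∈ orb s x := by
    intro x hx h y hy
    by_contra hcon
    have h1 := two_le hinj hΛ hms hx hy hcon
    have h2 : 1 ≤ minimalPeriod (zp s) y * m y := Nat.mul_pos (hper y hy) (hm1 y hy)
    omega
  have hle : ∀ x ∈ Λ, minimalPeriod (zp s) x * m x ≤ 6 := fun x hx => (one_le hΛ hms hx).trans_eq hsum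
  have htwo : ∀ x ∈ Λ, ∀ y ∈ Λ, y ∉ orb s x →
      minimalPeriod (zp s) x * m x + minimalPeriod (zp s) y * m y ≤ 6 :=
    fun x hx y hy h => (two_le hinj hΛ hms hx hy h).trans_eq hsum
  have hthree : ∀ x ∈ Λ, ∀ y ∈ Λ, ∀ z ∈ Λ, y ∉ orb s x → z ∉ orb s x → z ∉ orb s y →
      minimalPeriod (zp s) x * m x + (minimalPeriod (zp s) y * m y + minimalPeriod (zp s) z * m z) ≤ 6 :=
    fun x hx y hy z hz h h' h'' => (three_le hinj hΛ hms hx hy hz h h' h'').trans_eq hsum
  have hmo : ∀ x ∈ Λ, ∀ y ∈ orb s x, m y = m x := fun x hx y hy => m_orb hΛ hms hx hy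
  have hpo : ∀ x ∈ Λ, ∀ y ∈ orb s x, minimalPeriod (zp s) y = minimalPeriod (zp s) x :=
    fun x hx y hy => hΛ.period_of_mem hinj hx hy
  have hpm : ∀ x ∈ Λ, minimalPeriod (zp s) x ≤ minimalPeriod (zp s) x * m x :=
    fun x hx => Nat.le_mul_of_pos_right _ (hm1 x hx)
  have hmp : ∀ x ∈ Λ, m x ≤ minimalPeriod (zp s) x * m x :=
    fun x hx => Nat.le_mul_of_pos_left _ (hper x hx)
  have h6 : ∀ x ∈ Λ, minimalPeriod (zp s) x ≤ 6 := fun x hx => (hpm x hx).trans (hle x hx)
  have hmbig : ∀ x ∈ Λ, ∀ k, 4 ≤ k → minimalPeriod (zp s) x = k → m x = 1 := by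
    intro x hx k hk h
    have h1 := hle x hx
    rw [h] at h1
    have h2 := hm1 x hx
    by_contra hcon
    have h3 : k * 2 ≤ k * m x := Nat.mul_le_mul_left _ (by omega)
    omega
  by_cases e6 : ∃ x ∈ Λ, minimalPeriod (zp s) x = 6
  · obtain ⟨x, hx, h⟩ := e6
    left
    have h1 := hmbig x hx 6 (by norm_num) h
    have h2 := hall x hx (by rw [h, h1])
    exact ⟨x, hx, fun z => ⟨h2 z, fun hz => hΛ.orb_subset hx hz⟩, h, fun y hy => by rw [hmo x hx y (h2 y hy), h1]⟩
  by_cases e5 : ∃ x ∈ Λ, minimalPeriod (zp s) x = 5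
  · obtain ⟨x, hx, h⟩ := e5
    right; left
    have h1 := hmbig x hx 5 (by norm_num) h
    have h2 := sum_sdiff_orb hΛ hms hx
    rw [hsum, h, h1] at h2
    have h3 : (Λ \ orb s x).Nonempty := by
      rw [Finset.nonempty_iff_ne_empty]
      intro h0
      rw [h0] at h2
      simp at h2
    obtain ⟨y, hy⟩ := h3
    have hyΛ := (Finset.mem_sdiff.1 hy).1
    have hyx := (Finset.mem_sdiff.1 hy).2
    have h4 := htwo x hx y hyΛ hyx
    rw [h, h1] at h4
    have h5 := hpm y hyΛ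
    have h5' := hper y hyΛ
    have h6' := hmp y hyΛ
    have h7 := hm1 y hyΛ
    have hpy : minimalPeriod (zp s) y = 1 := by omega
    have hmy : m y = 1 := by omega
    refine ⟨5, Or.inr rfl, x, hx, y, hyΛ, hyx, fun z => ⟨fun hz => ?_, ?_⟩, hpy, h, by omega,
      fun z hz => by rw [hmo x hx z hz, h1]⟩
    · by_cases hzx : z ∈ orb s x
      · exact Or.inr hzx
      · left
        by_contra hne
        have hzy : z ∉ orb s y := by
          rw [orb_eq_singleton hpy, Finset.mem_singleton]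
          exact hne
        have h8 := hthree x hx y hyΛ z hz hyx hzx hzy
        rw [h, h1, hpy, hmy] at h8
        have h9 := hmp z hz
        have h10 := hm1 z hz
        omega
    · rintro (rfl | hz)
      · exact hyΛ
      · exact hΛ.orb_subset hx hz
  by_cases e4 : ∃ x ∈ Λ, minimalPeriod (zp s) x = 4
  · obtain ⟨x, hx, h⟩ := e4
    have h1 := hmbig x hx 4 (by norm_num) h
    by_cases e : ∀ y ∈ Λ, m y = 1
    · right; right; left
      intro y hy
      refine ⟨?_, e y hy⟩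
      by_cases hyx : y ∈ orb s x
      · rw [hpo x hx y hyx, h]; simp
      · have h2 := htwo x hx y hy hyx
        rw [h, h1, e y hy] at h2
        have h3 := hper y hy
        omega
    · right; left
      push Not at e
      obtain ⟨y, hy, hmy⟩ := e
      have hyx : y ∉ orb s x := fun h2 => hmy (by rw [hmo x hx y h2, h1])
      have h2 := htwo x hx y hy hyx
      rw [h, h1] at h2
      have h3 := hper y hy
      have h4 := hm1 y hy
      have h5 : minimalPeriod (zp s) y * 2 ≤ minimalPeriod (zp s) y * m y := Nat.mul_le_mul_left _ (by omega)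
      have h6' := hmp y hy
      have hpy : minimalPeriod (zp s) y = 1 := by omega
      have hmy2 : m y = 2 := by omega
      refine ⟨4, Or.inl rfl, x, hx, y, hy, hyx, fun z => ⟨fun hz => ?_, ?_⟩, hpy, h, by omega,
        fun z hz => by rw [hmo x hx z hz, h1]⟩
      · by_cases hzx : z ∈ orb s x
        · exact Or.inr hzx
        · left
          by_contra hne
          have hzy : z ∉ orb s y := by
            rw [orb_eq_singleton hpy, Finset.mem_singleton]
            exact hne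
          have h8 := hthree x hx y hy z hz hyx hzx hzy
          rw [h, h1, hpy, hmy2] at h8
          have h9 := hmp z hz
          have h10 := hm1 z hz
          omega
      · rintro (rfl | hz)
        · exact hy
        · exact hΛ.orb_subset hx hz
  -- all periods at most three
  have hp3 : ∀ x ∈ Λ, minimalPeriod (zp s) x ≤ 3 := by
    intro x hx
    have h1 := h6 x hx
    have h2 : minimalPeriod (zp s) x ≠ 6 := fun h => e6 ⟨x, hx, h⟩
    have h3 : minimalPeriod (zp s) x ≠ 5 := fun h => e5 ⟨x, hx, h⟩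
    have h4 : minimalPeriod (zp s) x ≠ 4 := fun h => e4 ⟨x, hx, h⟩
    omega
  by_cases e3 : ∃ x ∈ Λ, minimalPeriod (zp s) x = 3
  · obtain ⟨x, hx, h⟩ := e3
    by_cases e : ∀ y ∈ Λ, m y = 1
    · right; right; right; left
      intro y hy
      refine ⟨?_, e y hy⟩
      have h2 := hp3 y hy
      have h3 := hper y hy
      omega
    · right; right; right; right; left
      push Not at e
      obtain ⟨y, hy, hmy⟩ := e
      have hmy1 := hm1 y hy
      intro z hz
      have hz3 := hp3 z hz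
      have hz1 := hper z hz
      have hzm := hmp z hz
      have hzm1 := hm1 z hz
      have hx1 := hm1 x hx
      have hxl : 3 ≤ minimalPeriod (zp s) x * m x := by
        rw [h]; omega
      have hyl := hmp y hy
      have hy1 := hper y hy
      by_cases hzx : z ∈ orb s x
      · have h2 := hpo x hx z hzx
        have h3 := hle z hz
        rw [h2, h] at h3
        exact ⟨Or.inr (by rw [h2, h]), by omega⟩
      · have h2 := htwo x hx z hz hzx
        refine ⟨?_, by omega⟩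
        by_contra hcon
        have hpz : minimalPeriod (zp s) z = 2 := by omega
        rw [hpz] at h2
        have hmz : m z = 1 := by omega
        have hmx : m x = 1 := by
          rw [h, hmz] at h2
          omega
        have hyx : y ∉ orb s x := fun h2 => hmy (by rw [hmo x hx y h2, hmx])
        have hyz : y ∉ orb s z := fun h2 => hmy (by rw [hmo z hz y h2, hmz])
        have h4 := hthree x hx z hz y hy hzx hyx hyz
        rw [hpz, hmz] at h4
        omega
  have hp2 : ∀ x ∈ Λ, minimalPeriod (zp s) x = 1 ∨ minimalPeriod (zp s) x = 2 := by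
    intro x hx
    have h1 := hp3 x hx
    have h3 : minimalPeriod (zp s) x ≠ 3 := fun h => e3 ⟨x, hx, h⟩
    have h2 := hper x hx
    omega
  by_cases e : ∀ x ∈ Λ, m x ≤ 5
  · right; right; right; right; right; left
    exact fun x hx => ⟨hp2 x hx, e x hx⟩
  · right; right; right; right; right; right
    push Not at e
    obtain ⟨x, hx, hmx⟩ := e
    have h1 := hmp x hx
    have h2 := hle x hx
    have h3 : m x = 6 := by omega
    have h4 : minimalPeriod (zp s) x = 1 := by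
      rw [h3] at h2
      have := hper x hx
      omega
    refine ⟨x, hx, fun y hy => ?_⟩
    have h5 := hall x hx (by rw [h3, h4]) y hy
    rw [orb_eq_singleton h4, Finset.mem_singleton] at h5
    exact ⟨h5, by rw [h5, h3]⟩

theorem zpow_sub_one {x : K} (hx : x ≠ 0) {a : ℕ} (h : minimalPeriod (zp s) x = a) : x ^ (s ^ a - 1) = 1 := by
  have h1 : (zp s)^[a] x = x := by rw [← h, iterate_minimalPeriod]
  rw [iter_eq] at h1
  rw [zpow_sub₀ hx, h1, zpow_one, div_self hx]

theorem zpow_of_dvd {x : K} {a b : ℤ} (h : x ^ a = 1) (hd : a ∣ b) : x ^ b = 1 := by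
  obtain ⟨k, rfl⟩ := hd
  rw [zpow_mul, h, one_zpow]

end

/-- **The exponent lemma** for matrices of size `6`. -/
theorem six_mat {F : Type*} [Field F] {K : Type*} [Field K] [IsAlgClosed K] [Algebra F K] {s : ℤ} {p : ℕ}
    [Fact p.Prime] [CharP K p] (hp2 : p ≠ 2)
    (A : Matrix (Fin 6) (Fin 6) F) (hdetA : A.det = 1) (hinj : Injective (zp s : K → K))
    [DecidableEq K]
    (hcs : ∀ x, (A.map (algebraMap F K)).charpoly.roots.count (zp s x) = (A.map (algebraMap F K)).charpoly.roots.count x) :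
    ∃ E : ℕ, (∃ z : F, A ^ E = z • (1 : Matrix (Fin 6) (Fin 6) F)) ∧ Up p s (Nat.gcd 6 (s - 1).natAbs) E := by
  set Y : Matrix (Fin 6) (Fin 6) K := A.map (algebraMap F K) with hY
  have hdet : Y.det = 1 := by
    rw [hY, show A.map (algebraMap F K) = (algebraMap F K).mapMatrix A from rfl, ← RingHom.map_det, hdetA, map_one]
  set Λ := Y.charpoly.roots.toFinset with hΛ
  have hmem : ∀ x, x ∈ Λ ↔ 1 ≤ Y.charpoly.roots.count x := by
    intro x
    rw [hΛ, Multiset.mem_toFinset, Multiset.one_le_count_iff_mem]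
  have hst : Stab s Λ := by
    refine ⟨fun x hx => roots_ne_zero hdet (Multiset.mem_toFinset.1 hx), fun x hx => ?_⟩
    rw [hmem] at hx ⊢
    rw [hcs]
    exact hx
  have hsum : ∑ x ∈ Λ, Y.charpoly.roots.count x = 6 := by
    rw [hΛ, Multiset.toFinset_sum_count_eq, ← (IsAlgClosed.splits Y.charpoly).natDegree_eq_card_roots,
      Matrix.charpoly_natDegree_eq_dim, Fintype.card_fin]
  have hprod : ∏ x ∈ Λ, x ^ Y.charpoly.roots.count x = 1 := by
    rw [hΛ, ← Finset.prod_multiset_count, ← Matrix.det_eq_prod_roots_charpoly, hdet]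
  -- the scalar powers
  have key : ∀ (W : ℤ) (j : ℕ), (∃ z, ∀ x ∈ Λ, x ^ W = z) → (∀ x ∈ Λ, Y.charpoly.roots.count x ≤ p ^ j) →
      ∃ z : F, A ^ (W.natAbs * p ^ j) = z • (1 : Matrix (Fin 6) (Fin 6) F) := by
    rintro W j ⟨z, hz⟩ hc
    obtain ⟨z', hz'⟩ := pow_natAbs_of_zpow hz
    exact scalar_of_map A (by norm_num) (pow_scalar Y (k := W.natAbs) (s := j) (z := z')
      (fun x hx => hz' x (Multiset.mem_toFinset.2 hx)) (fun x hx => hc x (Multiset.mem_toFinset.2 hx)))
  have hp := (Fact.out : p.Prime)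
  have hp3 : 3 ≤ p := by
    have := hp.two_le
    omega
  obtain ⟨d', hd'⟩ : ((Nat.gcd 6 (s - 1).natAbs : ℕ) : ℤ) ∣ s - 1 :=
    Int.natCast_dvd.2 (Nat.gcd_dvd_right 6 (s - 1).natAbs)
  have hcn : Nat.gcd 6 (s - 1).natAbs ∣ 6 := Nat.gcd_dvd_left _ _
  set c := Nat.gcd 6 (s - 1).natAbs with hc
  have hdvd : ∀ X : ℤ, (s - 1) ∣ X - 6 → (c : ℤ) ∣ X := by
    intro X hX
    have h1 : (c : ℤ) ∣ X - 6 := (Dvd.intro _ hd'.symm).trans hX
    have h2 : (c : ℤ) ∣ 6 := by exact_mod_cast hcn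
    have := dvd_add h1 h2
    rwa [sub_add_cancel] at this
  have hn0 : ∀ x ∈ Λ, x ≠ 0 := hst.ne
  have abs_dvd : ∀ W : ℤ, (W.natAbs : ℤ) ∣ W := fun W => Int.natAbs_dvd.2 dvd_rfl
  rcases six hinj hst (m := fun x => Y.charpoly.roots.count x) (fun x _ => hcs x) (fun x hx => (hmem x).1 hx) hsum
    with ⟨x, hx, hΛx, hper, hm⟩ | ⟨a, ha, x, hx, y, hy, hyx, hiff, hpy, hpx, hmy, hmx⟩ | h | h | h | h | ⟨x, hx, h⟩
  · -- one orbit of length 6
    have hx0 := hst.ne x hx
    obtain ⟨e, he⟩ := hdvd (es s 6) (es_modEq s 6)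
    have hΛx' : Λ = orb s x := Finset.ext hΛx
    have h1 : x ^ es s 6 = 1 := by
      have hpo := prod_orb (s := s) hx0
      rw [hper, ← hΛx'] at hpo
      rw [← hpo, ← hprod]
      apply Finset.prod_congr rfl
      intro z hz
      rw [hm z hz, pow_one]
    have h2 : (x ^ e) ^ (s - 1) = 1 := by
      rw [← zpow_mul, hd', ← mul_assoc, mul_comm e, ← he, zpow_mul, h1, one_zpow]
    have h3 : ∀ t ∈ Λ, t ^ e = x ^ e := by
      intro t ht
      rw [hΛx'] at ht
      obtain ⟨i, -, rfl⟩ := mem_orb.1 ht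
      exact iter_zpow_eq hx0 h2 i
    have h4 := key e 0 ⟨_, h3⟩ (fun t ht => by rw [hm t ht]; simp)
    rw [pow_zero, mul_one] at h4
    refine ⟨_, h4, Or.inr (Or.inl ?_)⟩
    rw [← es_mul, he]
    exact mul_dvd_mul_right (mul_dvd_mul_left _ (abs_dvd e)) _
  · -- an orbit of length 4 or 5 and one eigenvalue
    have hx0 := hst.ne x hx
    have hy0 := hst.ne y hy
    have hyq : y ^ (s - 1) = 1 := by
      have := zpow_sub_one hy0 hpy
      rwa [pow_one] at this
    have h1 : y ^ Y.charpoly.roots.count y * x ^ es s a = 1 := by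
      have hΛ' : Λ = ({y} : Finset K).disjUnion (orb s x) (by
          rw [Finset.disjoint_singleton_left]; exact hyx) := by
        ext z
        rw [hiff z, Finset.mem_disjUnion, Finset.mem_singleton]
      rw [← hprod, ← hpx, ← prod_orb hx0, hΛ', Finset.prod_disjUnion, Finset.prod_singleton]
      congr 1
      apply Finset.prod_congr rfl
      intro z hz
      rw [hmx z hz, pow_one]
    set μ := Y.charpoly.roots.count y with hμ
    have h2 : x ^ es s a = y ^ (-(μ : ℤ)) := by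
      rw [zpow_neg, zpow_natCast]
      exact eq_inv_of_mul_eq_one_right h1
    obtain ⟨e, he⟩ := hdvd (es s a + μ) (by
      have h5 := es_modEq s a
      have h6 : es s a - a = es s a + μ - 6 := by
        have h7 : (a : ℤ) + μ = 6 := by exact_mod_cast hmy
        linear_combination -h7
      rwa [h6] at h5)
    set W : ℤ := es s a * d' with hW
    have hxW : x ^ W = y ^ W := by
      have h7 : x ^ W = y ^ (-(μ : ℤ) * d') := by rw [hW, zpow_mul, h2, ← zpow_mul]
      have h8 : y ^ (W - (-(μ : ℤ) * d')) = 1 := by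
        have h9 : W - (-(μ : ℤ) * d') = (s - 1) * e := by
          rw [hd', hW]
          linear_combination d' * he
        rw [h9, zpow_mul, hyq, one_zpow]
      rw [zpow_sub₀ hy0, div_eq_one_iff_eq (zpow_ne_zero _ hy0)] at h8
      rw [h7, h8]
    have hall : ∀ t ∈ Λ, t ^ W = y ^ W := by
      intro t ht
      have h10 : (y ^ W) ^ (s - 1) = 1 := by
        rw [← zpow_mul, mul_comm, zpow_mul, hyq, one_zpow]
      rcases (hiff t).1 ht with rfl | h
      · rfl
      · obtain ⟨i, -, rfl⟩ := mem_orb.1 h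
        rw [iter_zpow_eq hx0 (by rw [hxW]; exact h10) i, hxW]
    have h5 : (c : ℤ) * W = s ^ a - 1 := by
      rw [hW, ← es_mul, hd']
      ring
    rcases ha with rfl | rfl
    · have h4 := key W 1 ⟨_, hall⟩ (fun t ht => by
        rw [pow_one]
        rcases (hiff t).1 ht with rfl | h
        · omega
        · rw [hmx t h]; omega)
      refine ⟨_, h4, Or.inr (Or.inr (Or.inr (Or.inl ?_)))⟩
      have h6 : (c * (W.natAbs * p ^ 1 : ℕ) : ℤ) = p * (c * (W.natAbs : ℤ)) := by push_cast; ring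
      rw [h6, ← h5]
      exact mul_dvd_mul_left _ (mul_dvd_mul_left _ (abs_dvd W))
    · have h4 := key W 0 ⟨_, hall⟩ (fun t ht => by
        rw [pow_zero]
        rcases (hiff t).1 ht with rfl | h
        · omega
        · rw [hmx t h])
      rw [pow_zero, mul_one] at h4
      refine ⟨_, h4, Or.inl ?_⟩
      rw [← h5]
      exact mul_dvd_mul_left _ (abs_dvd W)
  · -- 4, 2, 1
    have h4 := key (s ^ 4 - 1) 0 ⟨1, fun x hx => ?_⟩ (fun t ht => by rw [pow_zero, (h t ht).2])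
    · rw [pow_zero, mul_one] at h4
      exact ⟨_, h4, Or.inr (Or.inr (Or.inl (abs_dvd _)))⟩
    · rcases (h x hx).1 with h1 | h1 | h1
      · exact zpow_of_dvd (zpow_sub_one (hn0 x hx) h1) ⟨s ^ 3 + s ^ 2 + s + 1, by ring⟩
      · exact zpow_of_dvd (zpow_sub_one (hn0 x hx) h1) ⟨s ^ 2 + 1, by ring⟩
      · exact zpow_sub_one (hn0 x hx) h1
  · -- 3, 2, 1
    have h4 := key ((s ^ 3 - 1) * (s + 1)) 0 ⟨1, fun x hx => ?_⟩ (fun t ht => by rw [pow_zero, (h t ht).2])
    · rw [pow_zero, mul_one] at h4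
      exact ⟨_, h4, Or.inr (Or.inr (Or.inr (Or.inr (Or.inl (abs_dvd _)))))⟩
    · rcases (h x hx).1 with h1 | h1 | h1
      · exact zpow_of_dvd (zpow_sub_one (hn0 x hx) h1) ⟨(s ^ 2 + s + 1) * (s + 1), by ring⟩
      · exact zpow_of_dvd (zpow_sub_one (hn0 x hx) h1) ⟨s ^ 2 + s + 1, by ring⟩
      · exact zpow_of_dvd (zpow_sub_one (hn0 x hx) h1) ⟨s + 1, by ring⟩
  · -- 3, 1 with multiplicities
    have h4 := key (s ^ 3 - 1) 1 ⟨1, fun x hx => ?_⟩ (fun t ht => by rw [pow_one]; exact (h t ht).2.trans hp3)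
    · refine ⟨_, h4, Or.inr (Or.inr (Or.inr (Or.inr (Or.inr (Or.inl ?_)))))⟩
      rw [pow_one, mul_comm]
      push_cast
      exact mul_dvd_mul_left _ ((_root_.abs_dvd _ _).2 dvd_rfl)
    · rcases (h x hx).1 with h1 | h1
      · exact zpow_of_dvd (zpow_sub_one (hn0 x hx) h1) ⟨s ^ 2 + s + 1, by ring⟩
      · exact zpow_sub_one (hn0 x hx) h1
  · -- 2, 1 with multiplicities
    have hexp : ∀ x ∈ Λ, x ^ (s ^ 2 - 1) = 1 := by
      intro x hx
      rcases (h x hx).1 with h1 | h1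
      · exact zpow_of_dvd (zpow_sub_one (hn0 x hx) h1) ⟨s + 1, by ring⟩
      · exact zpow_sub_one (hn0 x hx) h1
    have hp35 : p = 3 ∨ 5 ≤ p := by
      rcases Nat.lt_or_ge p 5 with h5 | h5
      · left
        have : p = 3 ∨ p = 4 := by omega
        rcases this with h6 | h6
        · exact h6
        · rw [h6] at hp
          exact absurd hp (by norm_num)
      · exact Or.inr h5
    rcases hp35 with h35 | h35
    · have h4 := key (s ^ 2 - 1) 2 ⟨1, hexp⟩ (fun t ht => (h t ht).2.trans (by rw [h35]; norm_num))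
      refine ⟨_, h4, Or.inr (Or.inr (Or.inr (Or.inr (Or.inr (Or.inr (Or.inr (Or.inl ⟨h35, ?_⟩)))))))⟩
      rw [h35, mul_comm]
      push_cast
      exact mul_dvd_mul_left 9 ((_root_.abs_dvd _ _).2 dvd_rfl)
    · have h4 := key (s ^ 2 - 1) 1 ⟨1, hexp⟩ (fun t ht => (h t ht).2.trans (by rw [pow_one]; exact h35))
      refine ⟨_, h4, Or.inr (Or.inr (Or.inr (Or.inr (Or.inr (Or.inr (Or.inl ?_))))))⟩
      rw [pow_one, mul_comm]
      push_cast
      exact mul_dvd_mul_left _ ((_root_.abs_dvd _ _).2 dvd_rfl)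
  · -- one eigenvalue
    have hexp : ∀ j : ℕ, 6 ≤ p ^ j → ∃ z : F, A ^ (p ^ j) = z • (1 : Matrix (Fin 6) (Fin 6) F) := by
      intro j hj
      have h4 := key 1 j ⟨x, fun y hy => by rw [zpow_one, (h y hy).1]⟩ (fun t ht => (h t ht).2.trans_le hj)
      rwa [Int.natAbs_one, one_mul] at h4
    have hp357 : p = 3 ∨ p = 5 ∨ 7 ≤ p := by
      rcases Nat.lt_or_ge p 7 with h5 | h5
      · have : p = 3 ∨ p = 4 ∨ p = 5 ∨ p = 6 := by omega
        rcases this with h6 | h6 | h6 | h6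
        · exact Or.inl h6
        · rw [h6] at hp
          exact absurd hp (by norm_num)
        · exact Or.inr (Or.inl h6)
        · rw [h6] at hp
          exact absurd hp (by norm_num)
      · exact Or.inr (Or.inr h5)
    rcases hp357 with h3 | h3 | h3
    · refine ⟨_, hexp 2 (by rw [h3]; norm_num), Or.inr (Or.inr (Or.inr (Or.inr (Or.inr (Or.inr (Or.inr (Or.inl ⟨h3, ?_⟩)))))))⟩
      rw [h3]
      exact Dvd.intro _ rfl
    · refine ⟨_, hexp 2 (by rw [h3]; norm_num), Or.inr (Or.inr (Or.inr (Or.inr (Or.inr (Or.inr (Or.inr (Or.inr ⟨h3, ?_⟩)))))))⟩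
      rw [h3]
      norm_num
    · refine ⟨_, hexp 1 (by rw [pow_one]; omega), Or.inr (Or.inr (Or.inr (Or.inr (Or.inr (Or.inr (Or.inl ?_))))))⟩
      rw [pow_one]
      exact Dvd.intro _ rfl

end Cfsg.Agent.R2.Spec.X7.N6
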