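import Cfsg.Agent.R2.Spec.X7.N6.Ctx
import Cfsg.Agent.R2.Spec.F1.DuelEx

/-!
# Box X7, `n = 6`, packet N6-NT (helper22, S3435): adjacency

`Ctx` and a prime `r ∣ M` adjacent to `v` in `S`: the primes of `u² - 1` divide `s - 1`, the primes of the classes `3`, `6` are good.
-/

set_option autoImplicit false
set_option linter.unusedSectionVars false

namespace Cfsg.Agent.R2.Spec.X7.N6

open Subgroup Cfsg
open Cfsg.Agent.H426.LieFam Cfsg.Agent.R2.Spec Cfsg.Agent.R2.Spec.P1 Cfsg.Agent.R2.Spec.F1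
open Cfsg.Agent.H72 Cfsg.Agent.H420.QR Cfsg.Agent.R2.Spec.E

universe u w

namespace SixN

variable {p q : ℕ} {s : ℤ} {c c5 M : ℕ}

theorem not_dvd_r (h : SixN p q s c c5 M) {r : ℕ} (hr : r.Prime) (hrM : r ∣ M) {Y : ℤ} {k : ℕ}
    (hY : Y ∣ (s * (s - 1) * (s + 1) * (s ^ 2 + 1) * (s ^ 2 + s + 1) * (s ^ 2 - s + 1)) ^ k) (hrY : (r : ℤ) ∣ Y) :
    False := by
  have h1 : IsCoprime (M : ℤ) Y := (h.cop.pow_right (n := k)).of_isCoprime_of_dvd_right hY
  have h2 : IsUnit (r : ℤ) := h1.isUnit_of_dvd' (by exact_mod_cast hrM) hrY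
  have h3 := Int.natAbs_of_isUnit h2
  have h4 := hr.two_le
  simp at h3
  omega

/-- an element order divisible by a prime of `M` -/
theorem up_r (h : SixN p q s c c5 M) {r E : ℕ} (hr : r.Prime) (hrM : r ∣ M) (hrE : r ∣ E) (hu : Up p s c E) :
    (c * E : ℤ) ∣ M * (c5 * (s - 1)) := by
  have hpd := h.p_dvd
  have hrE' : (r : ℤ) ∣ E := by exact_mod_cast hrE
  rcases hu with h1 | h1 | h1 | h1 | h1 | h1 | h1 | h1 | h1
  · rw [h.hM]
    exact h1
  · exfalso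
    exact h.not_dvd_r hr hrM (Y := s ^ 6 - 1) (k := 1) ⟨s * (s ^ 2 + 1), by ring⟩
      (((hrE'.mul_left _).mul_right _).trans h1)
  · exfalso
    exact h.not_dvd_r hr hrM (Y := s ^ 4 - 1) (k := 1) ⟨s * (s ^ 2 + s + 1) * (s ^ 2 - s + 1), by ring⟩
      (hrE'.trans h1)
  · exfalso
    refine h.not_dvd_r hr hrM (Y := p * (s ^ 4 - 1)) (k := 1) ?_ ((hrE'.mul_left _).trans h1)
    obtain ⟨t, ht⟩ := hpd
    exact ⟨t * (s ^ 2 + s + 1) * (s ^ 2 - s + 1), by linear_combination ((s ^ 4 - 1) * (s ^ 2 + s + 1) * (s ^ 2 - s + 1)) * ht⟩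
  · exfalso
    exact h.not_dvd_r hr hrM (Y := (s ^ 3 - 1) * (s + 1)) (k := 1) ⟨s * (s ^ 2 + 1) * (s ^ 2 - s + 1), by ring⟩
      (hrE'.trans h1)
  · exfalso
    refine h.not_dvd_r hr hrM (Y := p * (s ^ 3 - 1)) (k := 1) ?_ (hrE'.trans h1)
    obtain ⟨t, ht⟩ := hpd
    exact ⟨t * (s + 1) * (s ^ 2 + 1) * (s ^ 2 - s + 1), by
      linear_combination ((s ^ 3 - 1) * (s + 1) * (s ^ 2 + 1) * (s ^ 2 - s + 1)) * ht⟩
  · exfalso
    refine h.not_dvd_r hr hrM (Y := p * (s ^ 2 - 1)) (k := 1) ?_ (hrE'.trans h1)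
    obtain ⟨t, ht⟩ := hpd
    exact ⟨t * (s ^ 2 + 1) * (s ^ 2 + s + 1) * (s ^ 2 - s + 1), by
      linear_combination ((s ^ 2 - 1) * (s ^ 2 + 1) * (s ^ 2 + s + 1) * (s ^ 2 - s + 1)) * ht⟩
  · exfalso
    obtain ⟨hp3, h1⟩ := h1
    refine h.not_dvd_r hr hrM (Y := 9 * (s ^ 2 - 1)) (k := 2) ?_ (hrE'.trans h1)
    obtain ⟨t, ht⟩ := hpd
    rw [hp3] at ht
    push_cast at ht
    refine ⟨t ^ 2 * (s ^ 2 - 1) * ((s ^ 2 + 1) * (s ^ 2 + s + 1) * (s ^ 2 - s + 1)) ^ 2, ?_⟩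
    have h9 : 9 * t ^ 2 = s ^ 2 := by rw [ht]; ring
    linear_combination (-((s ^ 2 - 1) ^ 2 * ((s ^ 2 + 1) * (s ^ 2 + s + 1) * (s ^ 2 - s + 1)) ^ 2)) * h9
  · exfalso
    obtain ⟨hp5, h1⟩ := h1
    have h2 : (r : ℤ) ∣ 25 := by
      have : r ∣ 25 := hrE.trans h1
      exact_mod_cast this
    refine h.not_dvd_r hr hrM (Y := 25) (k := 2) ?_ h2
    obtain ⟨t, ht⟩ := hpd
    rw [hp5] at ht
    push_cast at ht
    refine ⟨(t * (s - 1) * (s + 1) * (s ^ 2 + 1) * (s ^ 2 + s + 1) * (s ^ 2 - s + 1)) ^ 2, ?_⟩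
    have h9 : 25 * t ^ 2 = s ^ 2 := by rw [ht]; ring
    linear_combination (-(((s - 1) * (s + 1) * (s ^ 2 + 1) * (s ^ 2 + s + 1) * (s ^ 2 - s + 1)) ^ 2)) * h9

/-- an element order `x r`, `r ∣ M`, `x` prime to `M` -/
theorem up_xr (h : SixN p q s c c5 M) {r x : ℕ} (hr : r.Prime) (hrM : r ∣ M) (hx : x.Prime) (hxM : ¬ x ∣ M)
    (hu : Up p s c (x * r)) : (x : ℤ) ∣ s - 1 ∧ (x = 2 → (4 : ℤ) ∣ s - 1) ∧ (x = 3 → (18 : ℤ) ∣ s - 1) := by
  have h1 := h.up_r hr hrM (dvd_mul_left r x) hu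
  obtain ⟨M', hM'⟩ := hrM
  have hr0 : (r : ℤ) ≠ 0 := by exact_mod_cast hr.ne_zero
  have h2 : (c * x : ℤ) ∣ M' * (c5 * (s - 1)) := by
    have h3 : (r : ℤ) * (c * x) ∣ r * (M' * (c5 * (s - 1))) := by
      have e1 : (r : ℤ) * (c * x) = c * ((x * r : ℕ) : ℤ) := by push_cast; ring
      have e2 : (r : ℤ) * (M' * (c5 * (s - 1))) = (M : ℤ) * (c5 * (s - 1)) := by rw [hM']; push_cast; ring
      rw [e1, e2]
      exact h1
    exact Int.dvd_of_mul_dvd_mul_left hr0 h3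
  have h3 : IsCoprime ((c : ℤ) * x) M' := by
    have h4 : IsCoprime ((c : ℤ) * x) M := by
      refine IsCoprime.mul_left ?_ ?_
      · exact (h.cop_d.of_isCoprime_of_dvd_right h.c_dvd).symm
      · exact Nat.isCoprime_iff_coprime.2 ((hx.coprime_iff_not_dvd).2 hxM)
    refine h4.of_isCoprime_of_dvd_right ?_
    rw [hM']
    push_cast
    exact dvd_mul_left _ _
  have h4 : (c * x : ℤ) ∣ c5 * (s - 1) := h3.dvd_of_dvd_mul_left h2
  have hxp : Prime (x : ℤ) := Nat.prime_iff_prime_int.1 hx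
  have h5 : (x : ℤ) ∣ s - 1 := by
    rcases hxp.dvd_or_dvd ((Dvd.intro_left _ rfl).trans h4 : (x : ℤ) ∣ c5 * (s - 1)) with h6 | h6
    · exact h6.trans h.c5_dvd
    · exact h6
  refine ⟨h5, ?_, ?_⟩
  · rintro rfl
    have h6 : (4 : ℤ) ∣ c5 * (s - 1) := by
      refine dvd_trans ?_ h4
      rcases h.c_or with h7 | h7 <;> rw [h7] <;> norm_num
    rcases h.c5_or with h7 | h7
    · rw [h7] at h6
      simpa using h6
    · rw [h7] at h6
      push_cast at h6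
      omega
  · rintro rfl
    push_cast at h5
    have hodd := h.odd_s
    have hc6 : c = 6 := by
      rcases h.c_or with h7 | h7
      · exfalso
        have h8 : 6 ∣ (s - 1).natAbs := by
          obtain ⟨k, hk⟩ := hodd
          omega
        have h9 := h.hc
        rw [Nat.gcd_eq_left h8] at h9
        omega
      · exact h7
    rw [hc6] at h4
    push_cast at h4
    rcases h.c5_or with h7 | h7
    · rw [h7] at h4
      push_cast at h4
      omega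
    · rw [h7] at h4
      push_cast at h4
      omega

end SixN

variable {t : Fam} {p f : ℕ} {L : Type w} [Group L] [Finite L] {G : Type u} [Group G] [Finite G]
variable {K : Subgroup G} [K.Normal] {S : Subgroup (G ⧸ K)} [S.Normal] {t' : Fam} {v f' : ℕ} {c c5 M : ℕ}

/-- the hypotheses of the packet -/
structure NTop (t : Fam) (p f : ℕ) (L : Type w) [Group L] [Finite L] (G : Type u) [Group G] [Finite G]
    (K : Subgroup G) [K.Normal] (S : Subgroup (G ⧸ K)) [S.Normal] (t' : Fam) (v f' : ℕ) (c c5 M r : ℕ) : Prop where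
  X : Ctx t p f L G K S t' v f' c c5 M
  hS : BigS t'
  hr : r.Prime
  hrM : r ∣ M
  hadj : ∃ g : S, orderOf g = v * r

namespace NTop

variable {r : ℕ}

theorem iso (Y : NTop t p f L G K S t' v f' c c5 M r) {x : ℕ} (hx : x.Prime) (hxM : x ∣ M) : x ≠ v := by
  have h6 := Y.X.t6
  exact LS.iso_ne_v_aux Y.X.h Y.X.hR Y.X.hF Y.hS Y.X.p2 Y.X.vp.symm (Y.X.in5 hx hxM) (h6.nap_iff.2 (by norm_num))
    (a := 3) (b := 4) (by norm_num) (h6.mem_iff.2 (by norm_num)) (by norm_num) (h6.mem_iff.2 (by norm_num))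
    (na_symm h6.n35) (na_symm h6.n45) h6.n34 (fun hn => by have := h6.nap_iff.1 hn; omega)
    (fun hn => by have := h6.nap_iff.1 hn; omega)

theorem rv (Y : NTop t p f L G K S t' v f' c c5 M r) : r ≠ v := Y.iso Y.hr Y.hrM

theorem vM (Y : NTop t p f L G K S t' v f' c c5 M r) : ¬ v ∣ M := fun hd => Y.iso Y.X.hF.prime hd rfl

theorem r5 (Y : NTop t p f L G K S t' v f' c c5 M r) : 5 ≤ r := (Y.X.in5 Y.hr Y.hrM).five

theorem rS (Y : NTop t p f L G K S t' v f' c c5 M r) : r ∣ Nat.card S := (Y.X.good5 Y.hr Y.hrM).2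

theorem rgood (Y : NTop t p f L G K S t' v f' c c5 M r) : ¬ r ∣ Nat.card K * S.index := (Y.X.good5 Y.hr Y.hrM).1

/-- a prime adjacent to `r` in `G` -/
theorem xr (Y : NTop t p f L G K S t' v f' c c5 M r) {x : ℕ} (hx : x.Prime) (hxM : ¬ x ∣ M)
    (hg : ∃ g : G, orderOf g = x * r) : (x : ℤ) ∣ sg t (p ^ f) - 1 ∧ (x = 2 → (4 : ℤ) ∣ sg t (p ^ f) - 1) ∧
      (x = 3 → (18 : ℤ) ∣ sg t (p ^ f) - 1) := by
  obtain ⟨g, hg⟩ := hg
  refine Y.X.n.up_xr Y.hr Y.hrM hx hxM ?_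
  rw [← hg]
  exact Y.X.up g

/-- `v ∣ s - 1` -/
theorem v1 (Y : NTop t p f L G K S t' v f' c c5 M r) : (v : ℤ) ∣ sg t (p ^ f) - 1 ∧
    (v = 2 → (4 : ℤ) ∣ sg t (p ^ f) - 1) ∧ (v = 3 → (18 : ℤ) ∣ sg t (p ^ f) - 1) :=
  Y.xr Y.X.hF.prime Y.vM (F1.exists_of_S Y.hadj)

/-- `r` is not isolated -/
theorem not_nap (Y : NTop t p f L G K S t' v f' c c5 M r) (h3 : 3 ≤ cls t' (v ^ f') r) :
    ¬ nap t' (cls t' (v ^ f') r) := by
  have hF := Y.X.hF
  have h5 := Y.r5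
  have hrv : ¬ r ∣ v := fun hd => Y.rv ((Nat.prime_dvd_prime_iff_eq Y.hr hF.prime).1 hd)
  have hm := Frm.mem_of_dvd hF Y.hr (by omega) h3 Y.rS
  refine ((adjFacts hF.cla hF.prime hF.is).adjp r Y.hr (by omega) hrv h3 hm).1 ?_
  obtain ⟨g, hg⟩ := Y.hadj
  exact ⟨g, by rw [hg, mul_comm]⟩

/-- the odd irregular primes of `S` are adjacent to `r` -/
theorem irr (Y : NTop t p f L G K S t' v f' c c5 M r) {x : ℕ} (hx : x.Prime) (hx2 : x ≠ 2) (hxv : x ≠ v)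
    (hx3 : cls t' (v ^ f') x ≤ 2) (hxr : x ≠ r) : ∃ g : S, orderOf g = x * r := by
  by_contra hcon
  obtain ⟨-, h3, h4⟩ := Y.X.hF.irr_nap Y.hS hx hx2 hxv hx3 Y.hr (by have := Y.r5; omega) hxr hcon
  exact Y.not_nap h3 h4

/-- `18 ∣ s - 1` -/
theorem d18 (Y : NTop t p f L G K S t' v f' c c5 M r) : (18 : ℤ) ∣ sg t (p ^ f) - 1 := by
  by_cases hv3 : v = 3
  · exact Y.v1.2.2 hv3
  · have h3 : ¬ 3 ∣ M := fun hd => by
      have := (Y.X.in5 Nat.prime_three hd).five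
      omega
    have hr5 := Y.r5
    have h4 : cls t' (v ^ f') 3 ≤ 2 := by
      have hne : ((sg t' (v ^ f') : ℤ) : ZMod 3) ≠ 0 := by
        intro h0
        have h1 := congrArg (fun z : ℤ => (z : ZMod 3)) (sg_sq t' (v ^ f'))
        push_cast at h1
        rw [h0] at h1
        have h2 : ((v ^ f' : ℕ) : ZMod 3) ^ 2 = 0 := by push_cast; rw [← h1]; ring
        have h5 := pow_eq_zero_iff (two_ne_zero) |>.1 h2
        rw [ZMod.natCast_eq_zero_iff] at h5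
        exact hv3 ((Nat.prime_dvd_prime_iff_eq Nat.prime_three Y.X.hF.prime).1
          (Nat.prime_three.dvd_of_dvd_pow h5)).symm
      have h5 : ((sg t' (v ^ f') : ℤ) : ZMod 3) ^ 2 = 1 := by
        have key : ∀ z : ZMod 3, z ≠ 0 → z ^ 2 = 1 := by decide
        exact key _ hne
      exact Nat.le_of_dvd (by norm_num) (orderOf_dvd_of_pow_eq_one h5)
    exact (Y.xr Nat.prime_three h3 (F1.exists_of_S (Y.irr Nat.prime_three (by norm_num) (fun h => hv3 h.symm) h4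
      (by omega)))).2.2 rfl

theorem c6 (Y : NTop t p f L G K S t' v f' c c5 M r) : c = 6 := by
  have h1 := Y.X.n.hc
  have h2 : 6 ∣ (sg t (p ^ f) - 1).natAbs := by
    have := Y.d18
    omega
  rw [h1, Nat.gcd_eq_left h2]

theorem p5 (Y : NTop t p f L G K S t' v f' c c5 M r) : 5 ≤ p := by
  have h1 := Y.X.h.prime
  have h2 := h1.two_le
  have h3 := Y.X.p2
  have h4 := Y.d18
  have h5 := Y.X.n.p_dvd
  by_contra hcon
  have h6 : p = 3 ∨ p = 4 := by omega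
  rcases h6 with h6 | h6
  · rw [h6] at h5
    push_cast at h5
    rw [h6] at h4
    omega
  · rw [h6] at h1
    norm_num at h1

/-- `p` does not divide `u (u² - 1)` -/
theorem pu (Y : NTop t p f L G K S t' v f' c c5 M r) : 3 ≤ cls t' (v ^ f') p ∨ ¬ p ∣ Nat.card S := by
  by_contra hcon
  push Not at hcon
  have h6 := Y.X.t6
  have hrI := Y.X.in5 Y.hr Y.hrM
  have h1 := Y.irr Y.X.h.prime Y.X.p2 Y.X.vp.symm (by omega) (fun he => hrI.not_dvd Y.X.h.fpos (by rw [he]))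
  obtain ⟨g, hg⟩ := F1.exists_of_S h1
  exact (Y.X.h.adjp_iff hrI).1 ⟨g, by rw [hg, mul_comm]⟩ (h6.nap_iff.2 (by norm_num))

theorem pcls (Y : NTop t p f L G K S t' v f' c c5 M r) : 3 ≤ cls t' (v ^ f') p := by
  by_contra hcon
  have h6 := Y.X.t6
  have hrI := Y.X.in5 Y.hr Y.hrM
  have h1 := Y.irr Y.X.h.prime Y.X.p2 Y.X.vp.symm (by omega) (fun he => hrI.not_dvd Y.X.h.fpos (by rw [he]))
  obtain ⟨g, hg⟩ := F1.exists_of_S h1
  exact (Y.X.h.adjp_iff hrI).1 ⟨g, by rw [hg, mul_comm]⟩ (h6.nap_iff.2 (by norm_num))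

/-- the classes three and six are not adjacent to the class five -/
theorem na5 (Y : NTop t p f L G K S t' v f' c c5 M r) {i z : ℕ} (hi : i = 3 ∨ i = 6) (hz : In t (p ^ f) i z) :
    z ≠ r ∧ ¬ ∃ g : G, orderOf g = z * r := by
  have h6 := Y.X.t6
  have hrI := Y.X.in5 Y.hr Y.hrM
  have hne := hz.ne hrI (by omega)
  refine ⟨hne, fun hg => (Y.X.h.adj_iff hz hrI hne).1 hg ?_⟩
  rcases hi with rfl | rfl
  · exact h6.n35
  · exact na_symm h6.n56

theorem cls_v (Y : NTop t p f L G K S t' v f' c c5 M r) {i z : ℕ} (hz : In t (p ^ f) i z) : z ≠ v := by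
  rintro rfl
  have h1 := hz.cls_eq
  have h2 : ((sg t (p ^ f) : ℤ) : ZMod z) = 1 := by
    have h3 := (ZMod.intCast_zmod_eq_zero_iff_dvd _ z).2 Y.v1.1
    push_cast at h3
    exact sub_eq_zero.1 h3
  rw [cls_one_iff.2 h2] at h1
  have := hz.reg
  omega

/-- **bad primes**: a prime not adjacent to `r` in `G` does not divide `|K|` and is not diagonal -/
theorem bad (Y : NTop t p f L G K S t' v f' c c5 M r) {z : ℕ} (hz : z.Prime) (hz5 : 5 ≤ z) (hzv : z ≠ v) (hzr : z ≠ r)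
    (hna : ¬ ∃ g : G, orderOf g = z * r) : ¬ z ∣ Nat.card K ∧ ¬ z ∣ dg t' (v ^ f') := by
  have hF := Y.X.hF
  have hr2 : r ≠ 2 := by have := Y.r5; omega
  constructor
  · intro hzK
    obtain ⟨-, h1, h2⟩ := hF.k_an Y.hS hz hzv hzK Y.hr hr2 hzr.symm Y.rS hna
    exact Y.not_nap h1 (nap_of_an hF.cla h2)
  · intro hzd
    obtain ⟨h1, h2, n, h3⟩ := hF.dcase hz hz5 hzd Y.hr hzr.symm (fun hg => hna (F1.exists_of_S hg))
    apply Y.not_nap h1
    rcases h3 with h3 | h3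
    · rw [h3] at h2 ⊢
      exact h2
    · rw [h3] at h2 ⊢
      exact h2

/-- **the primes of the classes three and six are good** -/
theorem good36 (Y : NTop t p f L G K S t' v f' c c5 M r) {i z : ℕ} (hi : i = 3 ∨ i = 6) (hz : In t (p ^ f) i z) :
    ¬ z ∣ Nat.card K * S.index ∧ z ∣ Nat.card S := by
  have h := Y.X.h
  have h6 := Y.X.t6
  have hrI := Y.X.in5 Y.hr Y.hrM
  obtain ⟨hzr, hna⟩ := Y.na5 hi hz
  by_contra hcon
  have hbad : z ∣ Nat.card K * S.index := by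
    by_contra hb
    refine hcon ⟨hb, ?_⟩
    have h1 := hz.dvd h
    rw [card_eq_mul (K := K) (S := S)] at h1
    exact (hz.prime.dvd_mul.1 h1).resolve_right hb
  obtain ⟨hzK, hzd⟩ := Y.bad hz.prime hz.five (Y.cls_v hz) hzr hna
  have hi4 : na t i 4 := by
    rcases hi with rfl | rfl
    · exact h6.n34
    · exact na_symm h6.n46
  have hi5 : na t i 5 := by
    rcases hi with rfl | rfl
    · exact h6.n35
    · exact na_symm h6.n56
  have hHC : HC (sg t (p ^ f)) z 4 := h.hc Y.X.hR Y.X.hF hz hbad hzK hzd (by norm_num) (h6.mem_iff.2 (by norm_num))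
    hi4 ⟨5, r, hrI, hi5, h6.n45⟩
  refine killer_false (X := sg t (p ^ f)) (r := z) (i := i) hz.prime hz.five hz.cls_eq hz.reg (I := fun l => l = 4) ?_ ?_
  · rintro l rfl -
    exact hHC
  · refine Or.inl ⟨1, le_rfl, rfl, ?_, ?_⟩
    · rcases hi with rfl | rfl <;> norm_num
    · rcases hi with rfl | rfl <;> norm_num

end NTop

end Cfsg.Agent.R2.Spec.X7.N6
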