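import Cfsg.Agent.R2.Spec.X7.N6.NTNum

/-!
# Box X7, `n = 6`, packet N6-NT (helper22, S3435): the sizes
-/

set_option autoImplicit false

namespace Cfsg.Agent.R2.Spec.X7.N6

theorem pow16 {h : ℕ} (hh : 6 ≤ h) : 5771 * h ^ 4 < 16 ^ h := by
  induction h, hh using Nat.le_induction with
  | base => norm_num
  | succ n hn ih =>
    have h1 : (n + 1) ^ 4 ≤ (2 * n) ^ 4 := Nat.pow_le_pow_left (by omega) 4
    have h2 : (2 * n) ^ 4 = 16 * n ^ 4 := by ring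
    have h3 : 16 ^ (n + 1) = 16 * 16 ^ n := by ring
    omega

theorem lin_aux {q h T N u : ℤ} (hq : 37 ≤ q) (hu : 2 ≤ u) (hh : 1 ≤ h) (hi : 36 * (6 * h * T) ≤ 37 * q ^ 5)
    (lo : 36 * q ^ 5 ≤ 37 * (6 * h * T)) (hu4 : u ^ 4 ≤ 8 * T) (h4 : 4 * h ≤ q) (h1 : T ≤ 3 * N + (u + 1))
    (h6 : N ≤ (q + 1) * (6 * h * (u + 1) + (u + 1) * (q + 1))) : False := by
  -- `5 T ≤ 39 (u + 1) q^2`
  have h7 : 5 * T ≤ 39 * ((u + 1) * q ^ 2) := by
    have h8 : (q + 1) * (6 * h * (u + 1) + (u + 1) * (q + 1)) = (u + 1) * ((q + 1) * (6 * h + q + 1)) := by ring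
    have h9 : 5 * (3 * ((q + 1) * (6 * h + q + 1)) + 1) ≤ 39 * q ^ 2 := by nlinarith
    rw [h8] at h6
    nlinarith
  have h8 : 180 * q ^ 3 ≤ 8658 * (h * (u + 1)) := by
    have h9 : 180 * q ^ 5 ≤ 37 * (6 * h * (39 * ((u + 1) * q ^ 2))) := by
      have h10 : 6 * h * (5 * T) ≤ 6 * h * (39 * ((u + 1) * q ^ 2)) := mul_le_mul_of_nonneg_left h7 (by positivity)
      linarith
    have h10 : q ^ 2 * (180 * q ^ 3) ≤ q ^ 2 * (8658 * (h * (u + 1))) := by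
      calc q ^ 2 * (180 * q ^ 3) = 180 * q ^ 5 := by ring
        _ ≤ 37 * (6 * h * (39 * ((u + 1) * q ^ 2))) := h9
        _ = q ^ 2 * (8658 * (h * (u + 1))) := by ring
    exact le_of_mul_le_mul_left h10 (by positivity)
  have h9 : 3 * q ^ 2 ≤ 4 * (h * u) := by
    have h10 : 6660 * q ^ 2 ≤ 180 * q ^ 3 := by
      have : 0 ≤ (q - 37) * q ^ 2 := mul_nonneg (by linarith) (sq_nonneg q)
      nlinarith
    nlinarith
  have h10 : (3 * q ^ 2) ^ 4 ≤ (4 * (h * u)) ^ 4 := pow_le_pow_left₀ (by positivity) h9 4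
  have h11 : (4 * (h * u)) ^ 4 = 256 * (h ^ 4 * u ^ 4) := by ring
  have h12 : h ^ 4 * u ^ 4 ≤ h ^ 4 * (8 * T) := mul_le_mul_of_nonneg_left hu4 (by positivity)
  have h13 : 216 * (h ^ 4 * (8 * T)) ≤ 8 * h ^ 3 * (37 * q ^ 5) := by
    calc 216 * (h ^ 4 * (8 * T)) = 8 * h ^ 3 * (36 * (6 * h * T)) := by ring
      _ ≤ 8 * h ^ 3 * (37 * q ^ 5) := mul_le_mul_of_nonneg_left hi (by positivity)
  have h14 : (4 * h) ^ 3 ≤ q ^ 3 := pow_le_pow_left₀ (by positivity) h4 3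
  have h15 : 64 * h ^ 3 * q ^ 5 ≤ q ^ 3 * q ^ 5 := by
    apply mul_le_mul_of_nonneg_right _ (by positivity)
    calc 64 * h ^ 3 = (4 * h) ^ 3 := by ring
      _ ≤ q ^ 3 := h14
  have h16' : (3 * q ^ 2) ^ 4 = 81 * (q ^ 3 * q ^ 5) := by ring
  have h17 : 8 * h ^ 3 * (37 * q ^ 5) = 296 * (h ^ 3 * q ^ 5) := by ring
  have h18 : 64 * h ^ 3 * q ^ 5 = 64 * (h ^ 3 * q ^ 5) := by ring
  rw [h11, h16'] at h10
  rw [h17] at h13
  rw [h18] at h15
  have h19 : 0 < q ^ 3 * q ^ 5 := by positivity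
  linarith

theorem min_aux {q h T N u d c Z : ℤ} (hq : 37 ≤ q) (hu : 2 ≤ u) (hh : 1 ≤ h) (hd1 : 1 ≤ d) (hd2 : d ≤ 2)
    (lo : 36 * q ^ 5 ≤ 37 * (6 * h * T)) (hcd : d * |c| = (u - 1) ^ 2) (hrel : (u - 1) * T = u * N + c)
    (hZ : Z = d * T) (hu4 : u ^ 4 < Z) (h7 : 7 * h ≤ q) (hT0 : 0 ≤ T)
    (h5 : N ≤ (q + 1) * (6 * h * |c| + (u - 1) * (q + 1))) : False := by
  have hTZ : T ≤ Z := by rw [hZ]; nlinarith
  have h8 : Z ≤ u * (q + 1) * (6 * h * (u - 1) + 2 * (q + 1)) + (u - 1) := by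
    have h9 : (u - 1) * Z ≤ (u - 1) * (u * (q + 1) * (6 * h * (u - 1) + 2 * (q + 1)) + (u - 1)) := by
      have h10 : d * ((u - 1) * T) ≤ d * (u * N + |c|) :=
        mul_le_mul_of_nonneg_left (by rw [hrel]; linarith [le_abs_self c]) (by linarith)
      have h11 : d * (u * N) ≤ u * (q + 1) * (6 * h * (d * |c|) + d * ((u - 1) * (q + 1))) := by
        have h12 : d * (u * N) ≤ d * (u * ((q + 1) * (6 * h * |c| + (u - 1) * (q + 1)))) :=
          mul_le_mul_of_nonneg_left (mul_le_mul_of_nonneg_left h5 (by linarith)) (by linarith)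
        calc d * (u * N) ≤ _ := h12
          _ = u * (q + 1) * (6 * h * (d * |c|) + d * ((u - 1) * (q + 1))) := by ring
      have h12 : d * ((u - 1) * (q + 1)) ≤ 2 * ((u - 1) * (q + 1)) :=
        mul_le_mul_of_nonneg_right hd2 (mul_nonneg (by linarith) (by linarith))
      rw [hcd] at h11
      have h13 : u * (q + 1) * (6 * h * (u - 1) ^ 2 + d * ((u - 1) * (q + 1))) ≤
          u * (q + 1) * (6 * h * (u - 1) ^ 2 + 2 * ((u - 1) * (q + 1))) :=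
        mul_le_mul_of_nonneg_left (by linarith) (by positivity)
      calc (u - 1) * Z = d * ((u - 1) * T) := by rw [hZ]; ring
        _ ≤ d * (u * N + |c|) := h10
        _ = d * (u * N) + d * |c| := by ring
        _ ≤ u * (q + 1) * (6 * h * (u - 1) ^ 2 + 2 * ((u - 1) * (q + 1))) + (u - 1) ^ 2 := by
          rw [hcd]
          linarith
        _ = (u - 1) * (u * (q + 1) * (6 * h * (u - 1) + 2 * (q + 1)) + (u - 1)) := by ring
    exact le_of_mul_le_mul_left h9 (by linarith)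
  obtain ⟨A, hA⟩ : ∃ A : ℤ, A = 6 * h * (u ^ 2 * (q + 1)) := ⟨_, rfl⟩
  obtain ⟨B, hB⟩ : ∃ B : ℤ, B = u * (2 * (q + 1) ^ 2 + 1) := ⟨_, rfl⟩
  have h9 : Z ≤ A + B := by
    refine h8.trans ?_
    rw [hA, hB]
    have : 0 ≤ 6 * h * (u * (q + 1)) := by positivity
    nlinarith
  have hZlo : 36 * q ^ 5 ≤ 37 * (6 * h * Z) := by
    have : 6 * h * T ≤ 6 * h * Z := mul_le_mul_of_nonneg_left hTZ (by positivity)
    linarith
  have hZ0 : 0 < Z := by linarith [pow_pos (show (0 : ℤ) < u by linarith) 4]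
  rcases le_or_gt (9 * Z) (10 * A) with h10 | h10
  · have h11 : (9 * Z) ^ 2 ≤ (10 * A) ^ 2 := pow_le_pow_left₀ (by linarith) h10 2
    have h12 : (10 * A) ^ 2 ≤ 3600 * (h ^ 2 * (q + 1) ^ 2) * Z := by
      rw [hA]
      calc (10 * (6 * h * (u ^ 2 * (q + 1)))) ^ 2 = 3600 * (h ^ 2 * (q + 1) ^ 2) * u ^ 4 := by ring
        _ ≤ 3600 * (h ^ 2 * (q + 1) ^ 2) * Z := mul_le_mul_of_nonneg_left hu4.le (by positivity)
    have h13 : 81 * Z ≤ 3600 * (h ^ 2 * (q + 1) ^ 2) := by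
      have h14 : (81 * Z) * Z ≤ 3600 * (h ^ 2 * (q + 1) ^ 2) * Z := by
        calc (81 * Z) * Z = (9 * Z) ^ 2 := by ring
          _ ≤ _ := h11.trans h12
      exact le_of_mul_le_mul_right h14 hZ0
    have h14 : 81 * (6 * h * Z) ≤ 21600 * (h ^ 3 * (q + 1) ^ 2) := by
      calc 81 * (6 * h * Z) = 6 * h * (81 * Z) := by ring
        _ ≤ 6 * h * (3600 * (h ^ 2 * (q + 1) ^ 2)) := mul_le_mul_of_nonneg_left h13 (by positivity)
        _ = 21600 * (h ^ 3 * (q + 1) ^ 2) := by ring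
    have h15 : (7 * h) ^ 3 ≤ q ^ 3 := pow_le_pow_left₀ (by positivity) h7 3
    have h16' : 343 * (h ^ 3 * (q + 1) ^ 2) ≤ q ^ 3 * (q + 1) ^ 2 := by
      calc 343 * (h ^ 3 * (q + 1) ^ 2) = (7 * h) ^ 3 * (q + 1) ^ 2 := by ring
        _ ≤ _ := mul_le_mul_of_nonneg_right h15 (by positivity)
    have h17 : q ^ 3 * (1000 * (q + 1) ^ 2) ≤ q ^ 3 * (1056 * q ^ 2) :=
      mul_le_mul_of_nonneg_left (by nlinarith) (by positivity)
    have h18 : q ^ 3 * (1056 * q ^ 2) = 1056 * q ^ 5 := by ring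
    have h19 : q ^ 3 * (1000 * (q + 1) ^ 2) = 1000 * (q ^ 3 * (q + 1) ^ 2) := by ring
    have h20 : 0 < q ^ 5 := by positivity
    rw [h18, h19] at h17
    linarith
  · have h11 : Z ≤ 10 * B := by linarith
    have h12 : Z ^ 4 ≤ (10 * B) ^ 4 := pow_le_pow_left₀ hZ0.le h11 4
    have h13 : (10 * B) ^ 4 ≤ 10000 * (2 * (q + 1) ^ 2 + 1) ^ 4 * Z := by
      rw [hB]
      calc (10 * (u * (2 * (q + 1) ^ 2 + 1))) ^ 4 = 10000 * (2 * (q + 1) ^ 2 + 1) ^ 4 * u ^ 4 := by ring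
        _ ≤ _ := mul_le_mul_of_nonneg_left hu4.le (by positivity)
    have h14 : Z ^ 3 ≤ 10000 * (2 * (q + 1) ^ 2 + 1) ^ 4 := by
      have h15 : Z ^ 3 * Z ≤ 10000 * (2 * (q + 1) ^ 2 + 1) ^ 4 * Z := by
        calc Z ^ 3 * Z = Z ^ 4 := by ring
          _ ≤ _ := h12.trans h13
      exact le_of_mul_le_mul_right h15 hZ0
    have h15 : q ^ 4 ≤ Z := by
      by_contra hcon
      push Not at hcon
      have h16' : 6 * h * Z ≤ 6 * h * q ^ 4 := mul_le_mul_of_nonneg_left hcon.le (by positivity)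
      have h17 : 6 * h * q ^ 4 * 7 ≤ 6 * q * q ^ 4 := by
        have : 0 ≤ q ^ 4 := by positivity
        nlinarith
      have h18 : 6 * q * q ^ 4 = 6 * q ^ 5 := by ring
      have h20 : 0 < q ^ 5 := by positivity
      linarith
    have h16' : (q ^ 4) ^ 3 ≤ Z ^ 3 := pow_le_pow_left₀ (by positivity) h15 3
    have h17 : 2 * (q + 1) ^ 2 + 1 ≤ 3 * q ^ 2 := by nlinarith
    have h18 : (2 * (q + 1) ^ 2 + 1) ^ 4 ≤ (3 * q ^ 2) ^ 4 := pow_le_pow_left₀ (by positivity) h17 4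
    have h19 : (q ^ 4) ^ 3 = q ^ 8 * q ^ 4 := by ring
    have h20 : (3 * q ^ 2) ^ 4 = 81 * q ^ 8 := by ring
    have h21 : (37 : ℤ) ^ 4 ≤ q ^ 4 := pow_le_pow_left₀ (by norm_num) hq 4
    have h22 : q ^ 8 * (37 : ℤ) ^ 4 ≤ q ^ 8 * q ^ 4 := mul_le_mul_of_nonneg_left h21 (by positivity)
    have h23 : 0 < q ^ 8 := by positivity
    rw [h19] at h16'
    rw [h20] at h18
    norm_num at h22
    linarith

namespace NT

variable {p q : ℕ} {s : ℤ} {h T : ℕ}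

/-- small `u` -/
theorem small (X : NT p q s h T) (hh : h = 1) {N : ℕ} (hN : Up p s 6 N) (hc : Nat.Coprime N T) {a b c : ℤ}
    (ha : 1 ≤ a) (ha6 : a ≤ 6) (hba : b ≤ 3 * a) (hcc : |c| ≤ 72) (hrel : a * T = b * N + c)
    (hpb : ¬ (p : ℤ) ∣ b) : False := by
  subst hh
  have hq : (17 : ℤ) ≤ q := by exact_mod_cast X.hq
  have hN0 : (0 : ℤ) ≤ N := by positivity
  have h1 : (T : ℤ) ≤ 3 * N + 72 := by
    by_contra hcon
    push Not at hcon
    have h2 := le_abs_self c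
    nlinarith
  have h2 := X.lo
  push_cast at h2
  have hq3 : (0 : ℤ) < (q : ℤ) ^ 3 := by positivity
  have h3 : 45 * (q : ℤ) ^ 3 ≤ T := by
    have h4 : (0 : ℤ) ≤ ((q : ℤ) ^ 2 - 289) * (q : ℤ) ^ 3 := mul_nonneg (by nlinarith) hq3.le
    have h5 : ((q : ℤ) ^ 2 - 289) * (q : ℤ) ^ 3 = (q : ℤ) ^ 5 - 289 * (q : ℤ) ^ 3 := by ring
    rw [h5] at h4
    linarith
  have hq31 : (17 : ℤ) ^ 3 ≤ (q : ℤ) ^ 3 := pow_le_pow_left₀ (by norm_num) hq 3
  have h4 : 14 * (q : ℤ) ^ 3 ≤ N := by linarith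
  have hbig : q ^ 3 < N := by
    have : (q : ℤ) ^ 3 < N := by linarith
    exact_mod_cast this
  have h5 := X.bracket hN hc hbig hrel hpb
  rw [abs_of_nonneg (by linarith : 0 ≤ a)] at h5
  push_cast at h5
  have h6 : (N : ℤ) ≤ (q + 1) * (432 + 6 * (q + 1)) := by
    refine h5.trans (mul_le_mul_of_nonneg_left ?_ (by positivity))
    nlinarith
  nlinarith [sq_nonneg (q : ℤ)]

/-- linear and unitary groups -/
theorem lin (X : NT p q s h T) (hq37 : 37 ≤ q) {N u : ℕ} (hu : 2 ≤ u) (hN : Up p s 6 N) (hc : Nat.Coprime N T)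
    {a b c : ℤ} (ha : 1 ≤ a) (hau : a ≤ u + 1) (hba : b ≤ 3 * a) (hcu : |c| ≤ u + 1) (hrel : a * T = b * N + c)
    (hpb : ¬ (p : ℤ) ∣ b) (hu4 : u ^ 4 ≤ 8 * T) (h16 : 16 ^ h ≤ u ^ 4) : False := by
  have hq : (37 : ℤ) ≤ q := by exact_mod_cast hq37
  have hu' : (2 : ℤ) ≤ u := by exact_mod_cast hu
  have hN0 : (0 : ℤ) ≤ N := by positivity
  have hh1 : (1 : ℤ) ≤ h := by exact_mod_cast X.h_pos
  have hi := X.hi37 hq37
  have lo := X.lo37 hq37
  have hT := X.T_ge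
  have hu4' : (u : ℤ) ^ 4 ≤ 8 * T := by exact_mod_cast hu4
  -- `4 h ≤ q`
  have h4 : 4 * h ≤ q := by
    by_contra hcon
    push Not at hcon
    have h1 := pow16 (h := h) (by omega)
    have h2 : 27 * (h * 16 ^ h) ≤ 37 * q ^ 5 := by
      have h3 : h * 16 ^ h ≤ h * (8 * T) := Nat.mul_le_mul_left _ (h16.trans hu4)
      have h5 : 36 * (6 * h * T) ≤ 37 * q ^ 5 := by exact_mod_cast hi
      calc 27 * (h * 16 ^ h) ≤ 27 * (h * (8 * T)) := Nat.mul_le_mul_left _ h3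
        _ = 36 * (6 * h * T) := by ring
        _ ≤ _ := h5
    have h5 : q ^ 5 ≤ (4 * h) ^ 5 := Nat.pow_le_pow_left hcon.le 5
    have h6 : h * (5771 * h ^ 4) < h * 16 ^ h := Nat.mul_lt_mul_of_pos_left h1 (by omega)
    have h7 : (4 * h) ^ 5 = 1024 * (h * h ^ 4) := by ring
    have h8 : h * (5771 * h ^ 4) = 5771 * (h * h ^ 4) := by ring
    omega
  have h4' : 4 * (h : ℤ) ≤ q := by exact_mod_cast h4
  have h1 : (T : ℤ) ≤ 3 * N + (u + 1) := by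
    by_contra hcon
    push Not at hcon
    have h2 := le_abs_self c
    nlinarith
  have h6 : (37 : ℤ) ^ 3 ≤ (q : ℤ) ^ 3 := pow_le_pow_left₀ (by norm_num) hq 3
  -- `4 (u + 1) ≤ T`
  have h2 : 4 * ((u : ℤ) + 1) ≤ T := by
    by_contra hcon
    push Not at hcon
    have h3 : (u : ℤ) ^ 4 < 32 * (u + 1) := by linarith
    have h5 : (u : ℤ) ≤ 3 := by
      by_contra h6
      push Not at h6
      have h7 : (4 : ℤ) ≤ u := h6
      have h8 : (4 : ℤ) ^ 3 ≤ (u : ℤ) ^ 3 := pow_le_pow_left₀ (by norm_num) h7 3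
      nlinarith
    linarith
  have hbig : q ^ 3 < N := by
    have : (q : ℤ) ^ 3 < N := by linarith
    exact_mod_cast this
  have h5 := X.bracket hN hc hbig hrel hpb
  rw [abs_of_nonneg (by linarith : 0 ≤ a)] at h5
  have h6 : (N : ℤ) ≤ (q + 1) * (6 * h * (u + 1) + (u + 1) * (q + 1)) := by
    refine h5.trans (mul_le_mul_of_nonneg_left (add_le_add ?_ ?_) (by positivity))
    · exact mul_le_mul_of_nonneg_left hcu (by positivity)
    · exact mul_le_mul_of_nonneg_right hau (by positivity)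
  exact lin_aux hq hu' hh1 hi lo hu4' h4' h1 h6

/-- the minus type -/
theorem min (X : NT p q s h T) (hq37 : 37 ≤ q) {N u d : ℕ} (hu : 2 ≤ u) (hN : Up p s 6 N) (hc : Nat.Coprime N T)
    {c : ℤ} (hd : d = 1 ∨ d = 2) (hcd : (d : ℤ) * |c| = ((u : ℤ) - 1) ^ 2) (hrel : ((u : ℤ) - 1) * T = u * N + c)
    (hpb : ¬ (p : ℤ) ∣ u) (hu4 : u ^ 4 < d * T) (h16 : 16 ^ h ≤ u ^ 4) : False := by
  have hq : (37 : ℤ) ≤ q := by exact_mod_cast hq37
  have hu' : (2 : ℤ) ≤ u := by exact_mod_cast hu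
  have hN0 : (0 : ℤ) ≤ N := by positivity
  have hT0 : (0 : ℤ) ≤ T := by positivity
  have hh1 : (1 : ℤ) ≤ h := by exact_mod_cast X.h_pos
  have hi := X.hi37 hq37
  have lo := X.lo37 hq37
  have hT := X.T_ge
  have hd1 : (1 : ℤ) ≤ d ∧ (d : ℤ) ≤ 2 := by rcases hd with rfl | rfl <;> norm_num
  have hu4' : (u : ℤ) ^ 4 < d * T := by exact_mod_cast hu4
  have hZT : (d : ℤ) * T ≤ 2 * T := mul_le_mul_of_nonneg_right hd1.2 hT0
  have hc0 := abs_nonneg c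
  have hcu : |c| ≤ ((u : ℤ) - 1) ^ 2 := by nlinarith
  -- `7 h ≤ q`
  have h7 : 7 * h ≤ q := by
    by_contra hcon
    push Not at hcon
    have h1 := pow16 (h := h) (by omega)
    have h2 : 18 * (6 * (h * 16 ^ h)) ≤ 37 * q ^ 5 := by
      have h3 : h * 16 ^ h ≤ h * (2 * T) := by
        apply Nat.mul_le_mul_left
        have h4 : (u : ℤ) ^ 4 ≤ 2 * T := by linarith
        exact h16.trans (by exact_mod_cast h4)
      have h5 : 36 * (6 * h * T) ≤ 37 * q ^ 5 := by exact_mod_cast hi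
      calc 18 * (6 * (h * 16 ^ h)) ≤ 18 * (6 * (h * (2 * T))) := by
            exact Nat.mul_le_mul_left _ (Nat.mul_le_mul_left _ h3)
        _ = 36 * (6 * h * T) := by ring
        _ ≤ _ := h5
    have h5 : q ^ 5 ≤ (7 * h) ^ 5 := Nat.pow_le_pow_left hcon.le 5
    have h6 : h * (5771 * h ^ 4) < h * 16 ^ h := Nat.mul_lt_mul_of_pos_left h1 (by omega)
    have h7 : (7 * h) ^ 5 = 16807 * (h * h ^ 4) := by ring
    have h8 : h * (5771 * h ^ 4) = 5771 * (h * h ^ 4) := by ring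
    omega
  have h7' : 7 * (h : ℤ) ≤ q := by exact_mod_cast h7
  have hu1 : 2 * (u : ℤ) ≤ T := by
    have h1 : 8 * (u : ℤ) ≤ (u : ℤ) ^ 4 := by
      have h2 : (2 : ℤ) ^ 3 ≤ (u : ℤ) ^ 3 := pow_le_pow_left₀ (by norm_num) hu' 3
      nlinarith
    linarith
  have hN4 : (T : ℤ) ≤ 4 * N := by
    have h1 := le_abs_self c
    have h2 := neg_abs_le c
    by_contra hcon
    push Not at hcon
    nlinarith
  have hbig : q ^ 3 < N := by
    have : (q : ℤ) ^ 3 < N := by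
      have := pow_pos (show (0 : ℤ) < q by linarith) 3
      linarith
    exact_mod_cast this
  have h5 := X.bracket hN hc hbig hrel hpb
  rw [abs_of_nonneg (by linarith : (0 : ℤ) ≤ (u : ℤ) - 1)] at h5
  exact min_aux hq hu' hh1 hd1.1 hd1.2 lo hcd hrel rfl hu4' h7' hT0 h5

end NT

end Cfsg.Agent.R2.Spec.X7.N6
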