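import Cfsg.Agent.R2.Spec.X7.N6.NTA
import Cfsg.Agent.R2.Spec.X7.N6.NTNum2
import Cfsg.Agent.R2.Spec.E.SNum
import Cfsg.Agent.R2.Spec.E.IsoSz
import Cfsg.Agent.R2.Spec.X5.TorB

/-!
# Box X7, `n = 6`, packet N6-NT (helper22, S3435): the isolated number of the class six
-/

set_option autoImplicit false
set_option linter.unusedSectionVars false

namespace Cfsg.Agent.R2.Spec.X7.N6

open Subgroup Cfsg
open Cfsg.Agent.H426.LieFam Cfsg.Agent.R2.Spec Cfsg.Agent.R2.Spec.P1 Cfsg.Agent.R2.Spec.F1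
open Cfsg.Agent.H72 Cfsg.Agent.H420.QR Cfsg.Agent.R2.Spec.E

universe u w

variable {t : Fam} {p f : ℕ} {L : Type w} [Group L] [Finite L] {G : Type u} [Group G] [Finite G]
variable {K : Subgroup G} [K.Normal] {S : Subgroup (G ⧸ K)} [S.Normal] {t' : Fam} {v f' : ℕ} {c c5 M : ℕ}

/-- `(s^6 - 1) / (s - 1)` -/
def s6 (s : ℤ) : ℤ := s ^ 5 + s ^ 4 + s ^ 3 + s ^ 2 + s + 1

theorem s6_mul (s : ℤ) : s6 s * (s - 1) = s ^ 6 - 1 := by unfold s6; ring

theorem s6_fac (s : ℤ) : s6 s = (s + 1) * ((s ^ 2 + s + 1) * (s ^ 2 - s + 1)) := by unfold s6; ring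

theorem s6_mod (s : ℤ) : s6 s = 6 + (s - 1) * (s ^ 4 + 2 * s ^ 3 + 3 * s ^ 2 + 4 * s + 5) := by unfold s6; ring

theorem not_dvd_pow {t : Fam} {q z i : ℕ} (hz : In t q i z) {k : ℕ} (hk : ¬ i ∣ k) : ¬ (z : ℤ) ∣ sg t q ^ k - 1 := by
  intro hd
  have h1 := (ZMod.intCast_zmod_eq_zero_iff_dvd _ z).2 hd
  push_cast at h1
  have h2 := orderOf_dvd_of_pow_eq_one (sub_eq_zero.1 h1)
  have h3 : cls t q z = orderOf ((sg t q : ℤ) : ZMod z) := rfl
  rw [← h3, hz.cls_eq] at h2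
  exact hk h2

theorem dvd_pow_cls {t : Fam} {q z i : ℕ} (hz : In t q i z) : (z : ℤ) ∣ sg t q ^ i - 1 := by
  rw [← ZMod.intCast_zmod_eq_zero_iff_dvd]
  push_cast
  have h3 : cls t q z = orderOf ((sg t q : ℤ) : ZMod z) := rfl
  rw [← hz.cls_eq, h3, pow_orderOf_eq_one, sub_self]

namespace NTop

variable {r : ℕ}

/-- element orders divisible by a prime of the class six -/
theorem up6 (Y : NTop t p f L G K S t' v f' c c5 M r) {z E : ℕ} (hz : In t (p ^ f) 6 z) (hzE : z ∣ E)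
    (hu : Up p (sg t (p ^ f)) c E) : (6 * E : ℤ) ∣ s6 (sg t (p ^ f)) := by
  have hzp : ¬ (z : ℤ) ∣ p := fun hd => hz.not_dvd Y.X.h.fpos (by exact_mod_cast hd)
  have hpz : Prime (z : ℤ) := Nat.prime_iff_prime_int.1 hz.prime
  have hzE' : (z : ℤ) ∣ E := by exact_mod_cast hzE
  have k1 := not_dvd_pow hz (k := 5) (by norm_num)
  have k2 := not_dvd_pow hz (k := 4) (by norm_num)
  have k3 := not_dvd_pow hz (k := 3) (by norm_num)
  have k4 := not_dvd_pow hz (k := 2) (by norm_num)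
  have hc6 := Y.c6
  have hs1 : sg t (p ^ f) - 1 ≠ 0 := by
    intro h0
    exact k4 (by rw [sub_eq_zero.1 h0]; norm_num)
  generalize sg t (p ^ f) = s at *
  rcases hu with h1 | h1 | h1 | h1 | h1 | h1 | h1 | h1 | h1
  · exact absurd ((hzE'.mul_left _).trans h1) k1
  · rw [hc6, ← s6_mul] at h1
    push_cast at h1
    exact Int.dvd_of_mul_dvd_mul_right hs1 h1
  · exact absurd (hzE'.trans h1) k2
  · exact absurd ((hpz.dvd_or_dvd ((hzE'.mul_left _).trans h1)).resolve_left hzp) k2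
  · rcases hpz.dvd_or_dvd (hzE'.trans h1) with h2 | h2
    · exact absurd h2 k3
    · exact absurd (h2.trans ⟨s - 1, by ring⟩) k4
  · exact absurd ((hpz.dvd_or_dvd (hzE'.trans h1)).resolve_left hzp) k3
  · exact absurd ((hpz.dvd_or_dvd (hzE'.trans h1)).resolve_left hzp) k4
  · exact absurd h1.1 (by have := Y.p5; omega)
  · exfalso
    obtain ⟨hp5, h1⟩ := h1
    apply hzp
    have h2 : z ∣ 5 ^ 2 := hzE.trans h1
    rw [hp5]
    exact_mod_cast hz.prime.dvd_of_dvd_pow h2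

/-- the class six is not adjacent to the characteristic of `S` -/
theorem na6 (Y : NTop t p f L G K S t' v f' c c5 M r) {z : ℕ} (hz : In t (p ^ f) 6 z) :
    ¬ ∃ g : G, orderOf g = v * z := by
  rintro ⟨g, hg⟩
  have h1 := Y.up6 hz (E := v * z) (dvd_mul_left z v) (by rw [← hg]; exact Y.X.up g)
  have hv := Y.X.hF.prime
  obtain ⟨k1, k2, k3⟩ := Y.v1
  generalize sg t (p ^ f) = s at *
  have hvp : Prime (v : ℤ) := Nat.prime_iff_prime_int.1 hv
  have h2 : (6 * v : ℤ) ∣ s6 s := (Dvd.intro (z : ℤ) (by push_cast; ring)).trans h1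
  have h3 : (v : ℤ) ∣ 6 := by
    have h4 : (v : ℤ) ∣ s6 s := (Dvd.intro_left _ rfl).trans h2
    rw [s6_mod] at h4
    exact (dvd_add_left (k1.mul_right _)).1 h4
  have h5 : v ∣ 2 * 3 := by exact_mod_cast h3
  rcases hv.dvd_mul.1 h5 with h6 | h6
  · have h7 := (Nat.prime_dvd_prime_iff_eq hv Nat.prime_two).1 h6
    obtain ⟨a, ha⟩ := k2 h7
    rw [h7, s6_mod, ha] at h2
    generalize s ^ 4 + 2 * s ^ 3 + 3 * s ^ 2 + 4 * s + 5 = w at h2
    obtain ⟨b, hb⟩ := h2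
    push_cast at hb
    have : (4 : ℤ) * (a * w) = 12 * b - 6 := by linear_combination hb
    omega
  · have h7 := (Nat.prime_dvd_prime_iff_eq hv Nat.prime_three).1 h6
    obtain ⟨a, ha⟩ := k3 h7
    rw [h7, s6_mod, ha] at h2
    generalize s ^ 4 + 2 * s ^ 3 + 3 * s ^ 2 + 4 * s + 5 = w at h2
    obtain ⟨b, hb⟩ := h2
    push_cast at hb
    have : (18 : ℤ) * (a * w) = 18 * b - 6 := by linear_combination hb
    omega

/-- the numbers of the packet -/
structure Dat (t : Fam) (p f : ℕ) (G : Type u) [Group G] [Finite G]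
    (K : Subgroup G) [K.Normal] (S : Subgroup (G ⧸ K)) [S.Normal] (t' : Fam) (v f' : ℕ) (z h T i : ℕ) : Prop where
  hz : In t (p ^ f) 6 z
  hi : cls t' (v ^ f') z = i
  top : top t' i
  zS : z ∣ Nat.card S
  zT : z ∣ T
  T_eq : T = ttor t' (v ^ f') i
  eq : 6 * h * T = (s6 (sg t (p ^ f))).natAbs
  hd : ∃ κ h0 : ℕ, h ∣ κ * h0 ∧ κ ∣ Nat.card K ∧ h0 ∣ S.index

theorem exists_dat (Y : NTop t p f L G K S t' v f' c c5 M r) : ∃ z h T i, Dat t p f G K S t' v f' z h T i := by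
  have h6 := Y.X.t6
  have hF := Y.X.hF
  have hL := Y.X.h
  have hq3 := hL.q_three Y.X.p2
  obtain ⟨z, hz⟩ := exists_in hL hq3 (i := 6) (by norm_num) (h6.mem_iff.2 (by norm_num))
  obtain ⟨hzg, hzS⟩ := Y.good36 (Or.inr rfl) hz
  have hzv := Y.cls_v hz
  have hna := Y.na6 hz
  obtain ⟨h3, h4⟩ := hF.v_nap Y.hS hz.prime hz.ne_two hzv hzS fun hg => hna (F1.exists_of_S hg)
  have hm := Frm.mem_of_dvd hF hz.prime hz.ne_two h3 hzS
  have htop := top_of_iso hF.cla h3 hm h4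
  have hT := top_facts_all hF.cla hF.prime hF.is
  obtain ⟨y, hy⟩ := hT.elt _ htop
  have hzv' : ¬ z ∣ v := fun hd => hzv ((Nat.prime_dvd_prime_iff_eq hz.prime hF.prime).1 hd)
  have hzT : z ∣ ttor t' (v ^ f') (cls t' (v ^ f') z) := by
    have := Fact.mk hz.prime
    obtain ⟨x, hx⟩ := exists_prime_orderOf_dvd_card' (G := S) z hzS
    have := hT.ub z hz.prime hzv' htop x (by rw [hx])
    rwa [hx] at this
  obtain ⟨T, hTT⟩ : ∃ T, T = ttor t' (v ^ f') (cls t' (v ^ f') z) := ⟨_, rfl⟩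
  rw [← hTT] at hy hzT
  have hs1 : sg t (p ^ f) - 1 ≠ 0 := by
    intro h0
    exact not_dvd_pow hz (k := 2) (by norm_num) (by rw [sub_eq_zero.1 h0]; norm_num)
  have h1 : (6 * T : ℤ) ∣ s6 (sg t (p ^ f)) := by
    have := Y.up6 hz hzT (by rw [← hy]; exact Y.X.upS y)
    exact this
  obtain ⟨g, hg⟩ := Y.X.eltA6
  have hgA : 6 * orderOf g = (s6 (sg t (p ^ f))).natAbs := by
    rw [Y.c6, ← s6_mul, Int.natAbs_mul] at hg
    have h0 : (sg t (p ^ f) - 1).natAbs ≠ 0 := Int.natAbs_ne_zero.2 hs1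
    rw [mul_comm 6]
    exact Nat.eq_of_mul_eq_mul_right (Nat.pos_of_ne_zero h0) hg
  have hTg : T ∣ orderOf g := by
    have h2 := Int.natAbs_dvd_natAbs.2 h1
    rw [← hgA, Int.natAbs_mul, Int.natAbs_natCast] at h2
    exact Nat.dvd_of_mul_dvd_mul_left (by norm_num) h2
  have hzg' : z ∣ orderOf g := hzT.trans hTg
  obtain ⟨κ, h0, E, e1, e2, e3, y', e4⟩ := order_fac2 (K := K) (S := S) g
  have hzE : z ∣ E := by
    rw [e1] at hzg'
    rcases hz.prime.dvd_mul.1 hzg' with h5 | h5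
    · exact absurd (h5.trans (Nat.mul_dvd_mul e2 e3)) hzg
    · exact h5
  have hET : E ∣ T := by
    have := hT.ub z hz.prime hzv' htop y' (by rw [e4]; exact hzE)
    rwa [e4, ← hTT] at this
  obtain ⟨h, hh⟩ := hTg
  obtain ⟨w, hw⟩ := hET
  have hE0 : E ≠ 0 := by
    rintro rfl
    rw [mul_zero] at e1
    exact (orderOf_pos g).ne' e1
  refine ⟨z, h, T, _, hz, rfl, htop, hzS, hzT, hTT, by rw [← hgA, hh]; ring, κ, h0, ?_, e2, e3⟩
  have h7 : E * (κ * h0) = E * (w * h) := by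
    calc E * (κ * h0) = orderOf g := by rw [e1]; ring
      _ = E * (w * h) := by rw [hh, hw]; ring
  rw [Nat.eq_of_mul_eq_mul_left (Nat.pos_of_ne_zero hE0) h7]
  exact dvd_mul_left _ _

end NTop

end Cfsg.Agent.R2.Spec.X7.N6
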