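import Cfsg.Agent.R2.Spec.X7.N6.NTB

/-!
# Box X7, `n = 6`, packet N6-NT (helper22, S3435): the primes of `h` and `T`
-/

set_option autoImplicit false
set_option linter.unusedSectionVars false

namespace Cfsg.Agent.R2.Spec.X7.N6

open Subgroup Cfsg
open Cfsg.Agent.H426.LieFam Cfsg.Agent.R2.Spec Cfsg.Agent.R2.Spec.P1 Cfsg.Agent.R2.Spec.F1
open Cfsg.Agent.H72 Cfsg.Agent.H420.QR Cfsg.Agent.R2.Spec.E

universe u w

variable {t : Fam} {p f : ℕ} {L : Type w} [Group L] [Finite L] {G : Type u} [Group G] [Finite G]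
variable {K : Subgroup G} [K.Normal] {S : Subgroup (G ⧸ K)} [S.Normal] {t' : Fam} {v f' : ℕ} {c c5 M : ℕ}

/-- the numbers prime to six -/
theorem cop_six {m : ℤ} (h : m % 6 = 1 ∨ m % 6 = 5) {x : ℕ} (hx : (x : ℤ) ∣ m) : x ≠ 2 ∧ x ≠ 3 := by
  constructor
  · rintro rfl
    push_cast at hx
    omega
  · rintro rfl
    push_cast at hx
    omega

theorem isCoprime_of_primes {a : ℕ} {b : ℤ} (h : ∀ x : ℕ, x.Prime → x ∣ a → ¬ (x : ℤ) ∣ b) : IsCoprime (a : ℤ) b := by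
  rw [Int.isCoprime_iff_nat_coprime]
  rw [Int.natAbs_natCast]
  exact Nat.coprime_of_dvd fun x hx hxa hxb => h x hx hxa (Int.natCast_dvd.2 hxb)

/-- classes of the primes of `u² - 1` -/
theorem cls_of_sq {t : Fam} {q x : ℕ} (hd : (x : ℤ) ∣ (q : ℤ) ^ 2 - 1) : cls t q x ≤ 2 := by
  have h1 := (ZMod.intCast_zmod_eq_zero_iff_dvd _ x).2 hd
  have h2 : ((sg t q : ℤ) : ZMod x) ^ 2 = 1 := by
    have h3 := congrArg (fun z : ℤ => (z : ZMod x)) (sg_sq t q)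
    push_cast at h3 h1
    rw [h3]
    linear_combination h1
  exact Nat.le_of_dvd (by norm_num) (orderOf_dvd_of_pow_eq_one h2)

namespace NTop

variable {r z h T i : ℕ}

/-- the primes of `s² + s + 1` -/
theorem in3 (Y : NTop t p f L G K S t' v f' c c5 M r) {x : ℕ} (hx : x.Prime) (hx3 : x ≠ 3)
    (hd : (x : ℤ) ∣ sg t (p ^ f) ^ 2 + sg t (p ^ f) + 1) : In t (p ^ f) 3 x := by
  have hxf := Fact.mk hx
  have h1 := (ZMod.intCast_zmod_eq_zero_iff_dvd _ x).2 hd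
  push_cast at h1
  have h2 : ((sg t (p ^ f) : ℤ) : ZMod x) ^ 3 = 1 := by linear_combination ((sg t (p ^ f) : ZMod x) - 1) * h1
  have h3 : ((sg t (p ^ f) : ℤ) : ZMod x) ≠ 1 := by
    intro h4
    rw [h4] at h1
    have h5 : ((3 : ℕ) : ZMod x) = 0 := by push_cast; linear_combination h1
    rw [ZMod.natCast_eq_zero_iff] at h5
    exact hx3 ((Nat.prime_dvd_prime_iff_eq hx Nat.prime_three).1 h5)
  have hthree : Fact (Nat.Prime 3) := ⟨Nat.prime_three⟩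
  exact ⟨hx, orderOf_eq_prime h2 h3, le_rfl, Y.X.t6.mem_iff.2 (by norm_num)⟩

/-- the primes of `s² - s + 1` -/
theorem in6 (Y : NTop t p f L G K S t' v f' c c5 M r) {x : ℕ} (hx : x.Prime) (hx2 : x ≠ 2) (hx3 : x ≠ 3)
    (hd : (x : ℤ) ∣ sg t (p ^ f) ^ 2 - sg t (p ^ f) + 1) : In t (p ^ f) 6 x := by
  have hxf := Fact.mk hx
  have h1 := (ZMod.intCast_zmod_eq_zero_iff_dvd _ x).2 hd
  push_cast at h1
  have h2 : ((sg t (p ^ f) : ℤ) : ZMod x) ^ 3 = -1 := by linear_combination ((sg t (p ^ f) : ZMod x) + 1) * h1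
  have h20 : ((2 : ℕ) : ZMod x) ≠ 0 := by
    intro h
    rw [ZMod.natCast_eq_zero_iff] at h
    exact hx2 ((Nat.prime_dvd_prime_iff_eq hx Nat.prime_two).1 h)
  have h30 : ((3 : ℕ) : ZMod x) ≠ 0 := by
    intro h
    rw [ZMod.natCast_eq_zero_iff] at h
    exact hx3 ((Nat.prime_dvd_prime_iff_eq hx Nat.prime_three).1 h)
  have h6 : orderOf ((sg t (p ^ f) : ℤ) : ZMod x) ∣ 6 := by
    apply orderOf_dvd_of_pow_eq_one
    rw [show 6 = 3 * 2 by norm_num, pow_mul, h2]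
    ring
  have h3 : ¬ orderOf ((sg t (p ^ f) : ℤ) : ZMod x) ∣ 3 := by
    intro h
    have h4 := orderOf_dvd_iff_pow_eq_one.1 h
    apply h20
    push_cast
    linear_combination h2 - h4
  have h2' : ¬ orderOf ((sg t (p ^ f) : ℤ) : ZMod x) ∣ 2 := by
    intro h
    have h4 := orderOf_dvd_iff_pow_eq_one.1 h
    apply h30
    have h5 : ((sg t (p ^ f) : ℤ) : ZMod x) = -1 := by
      have h7 : ((sg t (p ^ f) : ℤ) : ZMod x) ^ 3 = ((sg t (p ^ f) : ℤ) : ZMod x) := by rw [pow_succ, h4, one_mul]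
      rw [← h7, h2]
    rw [h5] at h1
    push_cast
    linear_combination h1
  have h7 : orderOf ((sg t (p ^ f) : ℤ) : ZMod x) = 6 := by
    generalize orderOf ((sg t (p ^ f) : ℤ) : ZMod x) = n at *
    have h8 := Nat.le_of_dvd (by norm_num) h6
    interval_cases n <;> first | rfl | (exfalso; revert h6 h3 h2'; decide)
  exact ⟨hx, h7, by norm_num, Y.X.t6.mem_iff.2 (by norm_num)⟩

end NTop

namespace NTop

namespace Dat

variable {r z h T i : ℕ}

theorem bad_of (D : Dat t p f G K S t' v f' z h T i) {x : ℕ} (hx : x.Prime) (hxh : x ∣ h) :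
    x ∣ Nat.card K * S.index := by
  obtain ⟨κ, h0, h1, h2, h3⟩ := D.hd
  exact (hxh.trans h1).trans (Nat.mul_dvd_mul h2 h3)

theorem pos (D : Dat t p f G K S t' v f' z h T i) : h ≠ 0 ∧ T ≠ 0 := by
  have h1 : s6 (sg t (p ^ f)) ≠ 0 := by
    intro h0
    have h2 := not_dvd_pow D.hz (k := 5) (by norm_num)
    have h3 : sg t (p ^ f) ^ 6 = 1 := by
      have h4 := s6_mul (sg t (p ^ f))
      rw [h0, zero_mul] at h4
      linarith
    rw [pow_eq_one_iff_of_ne_zero (by norm_num)] at h3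
    have k1 := not_dvd_pow D.hz (k := 2) (by norm_num)
    rcases h3 with h3 | h3
    · exact k1 (by rw [h3]; norm_num)
    · exact k1 (by rw [h3.1]; norm_num)
  have h2 := D.eq
  have h3 := Int.natAbs_ne_zero.2 h1
  rw [← h2] at h3
  exact ⟨by rintro rfl; simp at h3, by rintro rfl; simp at h3⟩

/-- the factorization -/
theorem fac (D : Dat t p f G K S t' v f' z h T i) (Y : NTop t p f L G K S t' v f' c c5 M r) :
    ∃ k : ℤ, sg t (p ^ f) = 1 + 18 * k ∧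
      ((h * T : ℕ) : ℤ) ∣ (1 + 9 * k) * ((1 + 18 * k + 108 * k ^ 2) * (1 + 18 * k + 324 * k ^ 2)) ∧
      ((1 + 9 * k) * ((1 + 18 * k + 108 * k ^ 2) * (1 + 18 * k + 324 * k ^ 2)) ∣ ((h * T : ℕ) : ℤ)) ∧
      IsCoprime (h : ℤ) (1 + 18 * k + 108 * k ^ 2) ∧ IsCoprime (h : ℤ) (1 + 18 * k + 324 * k ^ 2) := by
  obtain ⟨k, hk⟩ := Y.d18
  have hs : sg t (p ^ f) = 1 + 18 * k := by linarith
  have h1 : s6 (sg t (p ^ f)) = 6 * ((1 + 9 * k) * ((1 + 18 * k + 108 * k ^ 2) * (1 + 18 * k + 324 * k ^ 2))) := by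
    rw [s6_fac, hs]
    ring
  have h2 := D.eq
  rw [h1, Int.natAbs_mul] at h2
  have h3 : h * T = ((1 + 9 * k) * ((1 + 18 * k + 108 * k ^ 2) * (1 + 18 * k + 324 * k ^ 2))).natAbs := by
    have h4 : (6 : ℤ).natAbs = 6 := rfl
    rw [h4, mul_assoc] at h2
    exact Nat.eq_of_mul_eq_mul_left (by norm_num) h2
  have m1 : (1 + 18 * k + 108 * k ^ 2) % 6 = 1 := by omega
  have m2 : (1 + 18 * k + 324 * k ^ 2) % 6 = 1 := by omega
  refine ⟨k, hs, ?_, ?_, ?_, ?_⟩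
  · rw [h3]
    exact Int.natAbs_dvd.2 dvd_rfl
  · rw [h3]
    exact Int.dvd_natAbs.2 dvd_rfl
  · refine isCoprime_of_primes fun x hx hxh hd => ?_
    obtain ⟨hx2, hx3⟩ := cop_six (Or.inl m1) hd
    have h5 := Y.in3 hx hx3 (by
      rw [hs]
      exact hd.trans ⟨3, by ring⟩)
    exact (Y.good36 (Or.inl rfl) h5).1 (D.bad_of hx hxh)
  · refine isCoprime_of_primes fun x hx hxh hd => ?_
    obtain ⟨hx2, hx3⟩ := cop_six (Or.inl m2) hd
    have h5 := Y.in6 hx hx2 hx3 (by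
      rw [hs]
      exact hd.trans ⟨1, by ring⟩)
    exact (Y.good36 (Or.inr rfl) h5).1 (D.bad_of hx hxh)

/-- `2 h ∣ s + 1` -/
theorem h2 (D : Dat t p f G K S t' v f' z h T i) (Y : NTop t p f L G K S t' v f' c c5 M r) :
    (2 * h : ℤ) ∣ sg t (p ^ f) + 1 := by
  obtain ⟨k, hs, h1, -, h3, h4⟩ := D.fac Y
  have h5 : (h : ℤ) ∣ (1 + 9 * k) * ((1 + 18 * k + 108 * k ^ 2) * (1 + 18 * k + 324 * k ^ 2)) := by
    refine dvd_trans ?_ h1
    push_cast
    exact dvd_mul_right _ _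
  have h6 := (h3.mul_right h4).dvd_of_dvd_mul_right h5
  obtain ⟨a, ha⟩ := h6
  exact ⟨a, by rw [hs]; linear_combination 2 * ha⟩

/-- `s² + s + 1 ∣ 3 T` -/
theorem R3 (D : Dat t p f G K S t' v f' z h T i) (Y : NTop t p f L G K S t' v f' c c5 M r) :
    sg t (p ^ f) ^ 2 + sg t (p ^ f) + 1 ∣ (3 * T : ℤ) := by
  obtain ⟨k, hs, -, h2, h3, h4⟩ := D.fac Y
  have h5 : (1 + 18 * k + 108 * k ^ 2) ∣ (h : ℤ) * T := by
    refine dvd_trans ?_ (by push_cast at h2; exact h2)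
    exact ⟨(1 + 9 * k) * (1 + 18 * k + 324 * k ^ 2), by ring⟩
  obtain ⟨a, ha⟩ := h3.symm.dvd_of_dvd_mul_left h5
  exact ⟨a, by rw [hs]; linear_combination 3 * ha⟩

/-- the odd primes of `h` -/
theorem h_prime (D : Dat t p f G K S t' v f' z h T i) (Y : NTop t p f L G K S t' v f' c c5 M r) {x : ℕ}
    (hx : x.Prime) (hx2 : x ≠ 2) (hxh : x ∣ h) : 5 ≤ x ∧ ¬ x ∣ Nat.card K ∧ ¬ x ∣ dg t' (v ^ f') := by
  have h1 := D.h2 Y
  have hxh' : (x : ℤ) ∣ h := by exact_mod_cast hxh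
  have h3 : (x : ℤ) ∣ sg t (p ^ f) + 1 := (hxh'.mul_left _).trans h1
  have hx3 : x ≠ 3 := by
    rintro rfl
    have := Y.d18
    push_cast at h3
    omega
  have hx4 : x ≠ 4 := by
    rintro rfl
    norm_num at hx
  have hx5 : 5 ≤ x := by
    have := hx.two_le
    omega
  have hns : ¬ (x : ℤ) ∣ sg t (p ^ f) - 1 := by
    intro h4
    have h5 : (x : ℤ) ∣ 2 := by
      have := dvd_sub h3 h4
      rwa [show sg t (p ^ f) + 1 - (sg t (p ^ f) - 1) = 2 by ring] at this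
    have h6 : x ∣ 2 := by exact_mod_cast h5
    have := Nat.le_of_dvd (by norm_num) h6
    omega
  have hxM : ¬ x ∣ M := by
    intro hd
    refine Y.X.n.not_dvd_r hx hd (Y := sg t (p ^ f) + 1) (k := 1) ?_ h3
    generalize sg t (p ^ f) = s
    exact ⟨s * (s - 1) * (s ^ 2 + 1) * (s ^ 2 + s + 1) * (s ^ 2 - s + 1), by ring⟩
  have hxr : x ≠ r := fun e => hxM (by rw [e]; exact Y.hrM)
  have hxv : x ≠ v := fun e => hns (by rw [e]; exact Y.v1.1)
  obtain ⟨k1, k2⟩ := Y.bad hx hx5 hxv hxr fun hg => hns (Y.xr hx hxM hg).1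
  exact ⟨hx5, k1, k2⟩

/-- `h ∣ f'` -/
theorem h_dvd (D : Dat t p f G K S t' v f' z h T i) (Y : NTop t p f L G K S t' v f' c c5 M r) (h2 : h % 2 = 1) :
    h ∣ f' := by
  obtain ⟨κ, h0, e1, e2, e3⟩ := D.hd
  have hodd : ∀ x : ℕ, x.Prime → x ∣ h → x ≠ 2 := by
    rintro x hx hxh rfl
    omega
  have hc : Nat.Coprime h κ := Nat.coprime_of_dvd fun x hx hxh hxκ =>
    (D.h_prime Y hx (hodd x hx hxh) hxh).2.1 (hxκ.trans e2)
  have h3 : h ∣ S.index := (hc.dvd_of_dvd_mul_left e1).trans e3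
  exact Y.X.hF.dvd_f h3 fun x hx hxh =>
    ⟨(D.h_prime Y hx (hodd x hx hxh) hxh).1, (D.h_prime Y hx (hodd x hx hxh) hxh).2.2⟩

/-- `T` is prime to three, and odd if `4 ∣ s - 1` -/
theorem T_mod (D : Dat t p f G K S t' v f' z h T i) (Y : NTop t p f L G K S t' v f' c c5 M r) :
    ¬ 3 ∣ T ∧ ((4 : ℤ) ∣ sg t (p ^ f) - 1 → T % 2 = 1 ∧ h % 2 = 1) := by
  obtain ⟨k, hs, h1, -, -, -⟩ := D.fac Y
  constructor
  · intro h3
    have h4 : (3 : ℤ) ∣ (1 + 9 * k) * ((1 + 18 * k + 108 * k ^ 2) * (1 + 18 * k + 324 * k ^ 2)) := by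
      refine dvd_trans ?_ h1
      exact_mod_cast h3.mul_left h
    rcases Int.prime_three.dvd_or_dvd h4 with h5 | h5
    · omega
    · rcases Int.prime_three.dvd_or_dvd h5 with h5 | h5 <;> omega
  · intro h4
    have hk : k % 2 = 0 := by
      rw [hs] at h4
      omega
    have hodd : ¬ 2 ∣ h * T := by
      intro h3
      have h4 : (2 : ℤ) ∣ (1 + 9 * k) * ((1 + 18 * k + 108 * k ^ 2) * (1 + 18 * k + 324 * k ^ 2)) := by
        refine dvd_trans ?_ h1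
        exact_mod_cast h3
      rcases Int.prime_two.dvd_or_dvd h4 with h5 | h5
      · omega
      · rcases Int.prime_two.dvd_or_dvd h5 with h5 | h5 <;> omega
    constructor
    · by_contra hcon
      exact hodd (Dvd.dvd.mul_left (by omega) _)
    · by_contra hcon
      exact hodd (Dvd.dvd.mul_right (by omega) _)

/-- the primes of `T` do not divide `u² - 1` -/
theorem T_prime (D : Dat t p f G K S t' v f' z h T i) (Y : NTop t p f L G K S t' v f' c c5 M r) {x : ℕ}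
    (hx : x.Prime) (hx2 : x ≠ 2) (hxT : x ∣ T) : ¬ (x : ℤ) ∣ ((v ^ f' : ℕ) : ℤ) ^ 2 - 1 := by
  intro hd
  have hxs : (x : ℤ) ∣ s6 (sg t (p ^ f)) := by
    rw [Int.natCast_dvd, ← D.eq]
    exact hxT.mul_left _
  have hxM : ¬ x ∣ M := by
    intro hxM
    refine Y.X.n.not_dvd_r hx hxM (Y := s6 (sg t (p ^ f))) (k := 1) ?_ hxs
    generalize sg t (p ^ f) = s
    rw [s6_fac]
    exact ⟨s * (s - 1) * (s ^ 2 + 1), by ring⟩
  have hxr : x ≠ r := fun e => hxM (by rw [e]; exact Y.hrM)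
  have hxv : x ≠ v := by
    rintro rfl
    have h1 : (x : ℤ) ∣ ((x ^ f' : ℕ) : ℤ) ^ 2 := by
      have h2 : x ∣ x ^ f' := dvd_pow_self _ Y.X.hF.f_ne
      have h3 : (x : ℤ) ∣ ((x ^ f' : ℕ) : ℤ) := by exact_mod_cast h2
      exact h3.trans (dvd_pow_self _ two_ne_zero)
    have h2 : (x : ℤ) ∣ 1 := by
      have := dvd_sub h1 hd
      rwa [sub_sub_cancel] at this
    exact hx.one_lt.ne' (Nat.dvd_one.1 (by exact_mod_cast h2))
  have h1 := (Y.xr hx hxM (F1.exists_of_S (Y.irr hx hx2 hxv (cls_of_sq hd) hxr))).1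
  rw [s6_mod] at hxs
  have h2 : (x : ℤ) ∣ 6 := (dvd_add_left (h1.mul_right _)).1 hxs
  have h3 : x ∣ 2 * 3 := by exact_mod_cast h2
  rcases hx.dvd_mul.1 h3 with h4 | h4
  · exact hx2 ((Nat.prime_dvd_prime_iff_eq hx Nat.prime_two).1 h4)
  · exact (D.T_mod Y).1 (((Nat.prime_dvd_prime_iff_eq hx Nat.prime_three).1 h4) ▸ hxT)

/-- the structure `NT` -/
theorem nt (D : Dat t p f G K S t' v f' z h T i) (Y : NTop t p f L G K S t' v f' c c5 M r) :
    NT p (p ^ f) (sg t (p ^ f)) h T := by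
  have hsq := sg_sq t (p ^ f)
  have habs : (sg t (p ^ f)).natAbs = p ^ f := by
    have h1 : (sg t (p ^ f)).natAbs ^ 2 = (p ^ f) ^ 2 := by
      zify
      rw [sq_abs, hsq]
      push_cast
      rfl
    exact Nat.pow_left_injective two_ne_zero h1
  have hq3 := Y.X.h.q_three Y.X.p2
  have h18 := Y.d18
  have hs := Y.X.n.hs
  refine ⟨Y.X.h.prime, Y.p5, habs, ?_, Y.X.n.p_dvd, Nat.le_self_pow (by have := Y.X.h.fpos; omega) p, h18, ?_, ?_, D.R3 Y⟩
  · rcases hs with h1 | h1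
    · rw [h1] at h18
      omega
    · rw [h1] at h18
      omega
  · have h1 : ((6 * h * T : ℕ) : ℤ) = |s6 (sg t (p ^ f))| := by
      rw [D.eq, Int.abs_eq_natAbs]
    rcases abs_choice (s6 (sg t (p ^ f))) with h2 | h2
    · refine ⟨1, Or.inl rfl, ?_⟩
      rw [h2] at h1
      unfold s6 at h1
      push_cast at h1
      linarith
    · refine ⟨-1, Or.inr rfl, ?_⟩
      rw [h2] at h1
      unfold s6 at h1
      push_cast at h1
      linarith
  · have h1 := D.h2 Y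
    have h2 : (2 * h : ℤ) ≤ |sg t (p ^ f) + 1| := by
      have h3 : sg t (p ^ f) + 1 ≠ 0 := by
        rcases hs with h4 | h4 <;> rw [h4] <;> omega
      have h4 := Int.le_of_dvd (abs_pos.2 h3) ((dvd_abs _ _).2 h1)
      exact h4
    have h3 : |sg t (p ^ f) + 1| ≤ (p ^ f : ℕ) + 1 := by
      rcases hs with h4 | h4 <;> rw [h4, abs_le] <;> constructor <;> omega
    omega

end Dat

end NTop

end Cfsg.Agent.R2.Spec.X7.N6
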