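import Cfsg.Agent.R2.Spec.X7.N6.NTC

/-!
# Box X7, `n = 6`, packet N6-NT (helper22, S3435): two is adjacent to `r`
-/

set_option autoImplicit false
set_option linter.unusedSectionVars false

namespace Cfsg.Agent.R2.Spec.X7.N6

open Subgroup Cfsg
open Cfsg.Agent.H426.LieFam Cfsg.Agent.R2.Spec Cfsg.Agent.R2.Spec.P1 Cfsg.Agent.R2.Spec.F1
open Cfsg.Agent.H72 Cfsg.Agent.H420.QR Cfsg.Agent.R2.Spec.E Cfsg.Agent.R2.Spec.P1.Eig

universe u w

variable {t : Fam} {p f : ℕ} {L : Type w} [Group L] [Finite L] {G : Type u} [Group G] [Finite G]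
variable {K : Subgroup G} [K.Normal] {S : Subgroup (G ⧸ K)} [S.Normal] {t' : Fam} {v f' : ℕ} {c c5 M : ℕ}

theorem AN_int' {δ : ℤ} (hδ : δ = 1 ∨ δ = -1) {m q : ℕ} (hq : 1 ≤ q) : ((AN δ m q : ℕ) : ℤ) = (q : ℤ) ^ m - δ := by
  rcases hδ with rfl | rfl
  · rw [AN_one, cast_pow_sub hq]
  · rw [AN_neg]
    push_cast
    ring

/-- orthogonal groups: two is adjacent to the primes which are not isolated -/
theorem two_adj_orth {t : Fam} {v f m : ℕ} {X : Type u} [Group X] [Finite X] (hv : v.Prime) (h : Fam.Is v f X t)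
    (ht : t = .oplus m ∨ t = .ominus m) (hu : (v ^ f) % 2 = 1) {r : ℕ} (hr : r.Prime) (hr2 : r ≠ 2)
    (h3 : 3 ≤ cls t (v ^ f) r) (hm : eta (cls t (v ^ f) r) + 2 ≤ m) : ∃ g : X, orderOf g = 2 * r := by
  have hB : X5.IsB t m := by rcases ht with rfl | rfl <;> exact rfl
  have hpsu : ∀ n, t ≠ .psu n := by rcases ht with rfl | rfl <;> exact fun n h => by cases h
  rw [cls_eq_co hpsu] at h3 hm
  have h1 := pow_eta_eq hr h3
  have hk : 1 ≤ eta (co (v ^ f) r) := one_le_eta (by omega)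
  have hq1 : 1 ≤ v ^ f := Nat.one_le_pow _ _ hv.pos
  obtain ⟨δ, hδ, hd4⟩ : ∃ δ : ℤ, (δ = 1 ∨ δ = -1) ∧ 4 ∣ AN δ 1 (v ^ f) := by
    rcases (by omega : (v ^ f) % 4 = 1 ∨ (v ^ f) % 4 = 3) with h4 | h4
    · exact ⟨1, Or.inl rfl, by rw [AN_one, pow_one]; omega⟩
    · exact ⟨-1, Or.inr rfl, by rw [AN_neg, pow_one]; omega⟩
  have hrd : r ∣ AN (sgn (co (v ^ f) r)) (eta (co (v ^ f) r)) (v ^ f) := by
    have h2 : (r : ℤ) ∣ ((AN (sgn (co (v ^ f) r)) (eta (co (v ^ f) r)) (v ^ f) : ℕ) : ℤ) := by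
      rw [AN_int' (sgn_pm _) hq1, ← ZMod.intCast_zmod_eq_zero_iff_dvd]
      push_cast
      push_cast at h1
      rw [h1, sub_self]
    exact_mod_cast h2
  obtain ⟨x, c, hc, hx⟩ := X5.torB hv h hB hk (b := 1) le_rfl (by omega) (sgn_pm (co (v ^ f) r)) hδ
  have h4r : 4 * r ∣ orderOf x * c := by
    rw [hx]
    refine Nat.Coprime.mul_dvd_of_dvd_of_dvd ?_ (hd4.trans (Nat.dvd_lcm_right _ _)) (hrd.trans (Nat.dvd_lcm_left _ _))
    have : Nat.Coprime (2 ^ 2) r := Nat.Coprime.pow_left 2 ((Nat.coprime_primes Nat.prime_two hr).2 hr2.symm)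
    exact this
  have h2r : 2 * r ∣ orderOf x := by
    have h5 : orderOf x * c ∣ orderOf x * 2 := Nat.mul_dvd_mul_left _ hc
    have h6 : 2 * (2 * r) ∣ 2 * orderOf x := by
      rw [mul_comm 2 (orderOf x)]
      exact (Dvd.intro 1 (by ring)).trans (h4r.trans h5)
    exact Nat.dvd_of_mul_dvd_mul_left two_pos h6
  exact exists_dvd_order (orderOf_pos x).ne' h2r ⟨x, rfl⟩

namespace NTop

variable {r : ℕ}

theorem adj2 (Y : NTop t p f L G K S t' v f' c c5 M r) (h1 : ∀ n, t' ≠ .psp n) (h2 : ∀ n, t' ≠ .oodd n)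
    (hv2 : v ≠ 2) : ∃ g : S, orderOf g = 2 * r := by
  have hF := Y.X.hF
  have hr5 := Y.r5
  have hr2 : r ≠ 2 := by omega
  have hvo : v % 2 = 1 := (hF.prime.eq_two_or_odd).resolve_left hv2
  have hu : (v ^ f') % 2 = 1 := pow_odd hvo f'
  obtain ⟨k1, k2, k3, k4, k5⟩ := rk_of_bigS hF Y.hS
  have hcls2 : cls t' (v ^ f') 2 ≤ 2 := by
    refine cls_of_sq ?_
    obtain ⟨a, ha⟩ : ∃ a, v ^ f' = 2 * a + 1 := ⟨v ^ f' / 2, by omega⟩
    rw [ha]
    exact ⟨2 * a ^ 2 + 2 * a, by push_cast; ring⟩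
  have hw2 := wS_le_two hF.cla hcls2
  have hrv : ¬ r ∣ v ^ f' := fun hd => Y.rv ((Nat.prime_dvd_prime_iff_eq Y.hr hF.prime).1 (Y.hr.dvd_of_dvd_pow hd))
  rcases Nat.lt_or_ge (cls t' (v ^ f') r) 3 with h3 | h3
  · -- irregular
    have hwr := wS_le_two hF.cla (q := v ^ f') (x := r) (by omega)
    by_cases hlin : ∃ n, t' = .psl n ∨ t' = .psu n
    · have e1 := k3 hlin
      have e2 := k5 hlin
      exact adj_wS hF.cla hF.is Nat.prime_two Y.hr hr2.symm (by omega)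
    · have hwr1 := wS_le_one hF.cla (fun n hn => hlin ⟨n, Or.inl hn⟩) (fun n hn => hlin ⟨n, Or.inr hn⟩) hr2 hrv
        (by omega : cls t' (v ^ f') r ≤ 2)
      have hc := hF.cla
      have hcS : cS t' = 1 ∧ 4 ≤ rk t' := by
        cases t' with
        | psl n => exact absurd ⟨n, Or.inl rfl⟩ hlin
        | psu n => exact absurd ⟨n, Or.inr rfl⟩ hlin
        | psp n => exact absurd rfl (h1 n)
        | oodd n => exact absurd rfl (h2 n)
        | oplus n => exact ⟨rfl, k2 rfl⟩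
        | ominus n => exact ⟨rfl, k2 rfl⟩
        | _ => exact hc.elim
      exact adj_wS hF.cla hF.is Nat.prime_two Y.hr hr2.symm (by omega)
  · have hn := Y.not_nap h3
    have hwr := wS_reg hF.cla (Nat.one_le_pow f' v hF.prime.pos) Y.hr h3
    have hc := hF.cla
    have hIs := hF.is
    cases t' with
    | psl n =>
      have e1 : ¬ n < cls (.psl n) (v ^ f') r + 2 := hn
      have e2 : wS (.psl n) (v ^ f') r = cls (.psl n) (v ^ f') r := hwr
      refine adj_wS hF.cla hF.is Nat.prime_two Y.hr hr2.symm ?_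
      change wS (.psl n) (v ^ f') 2 + wS (.psl n) (v ^ f') r + 0 ≤ n
      omega
    | psu n =>
      have e1 : ¬ n < cls (.psu n) (v ^ f') r + 2 := hn
      have e2 : wS (.psu n) (v ^ f') r = cls (.psu n) (v ^ f') r := hwr
      refine adj_wS hF.cla hF.is Nat.prime_two Y.hr hr2.symm ?_
      change wS (.psu n) (v ^ f') 2 + wS (.psu n) (v ^ f') r + 0 ≤ n
      omega
    | psp n => exact absurd rfl (h1 n)
    | oodd n => exact absurd rfl (h2 n)
    | oplus n =>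
      have e1 : ¬ n < eta (cls (.oplus n) (v ^ f') r) + 2 := hn
      exact two_adj_orth hF.prime hIs (Or.inl rfl) hu Y.hr hr2 h3 (by omega)
    | ominus n =>
      have e1 : ¬ n < eta (cls (.ominus n) (v ^ f') r) + 2 := hn
      exact two_adj_orth hF.prime hIs (Or.inr rfl) hu Y.hr hr2 h3 (by omega)
    | _ => exact hc.elim

/-- `4 ∣ s - 1` -/
theorem four (Y : NTop t p f L G K S t' v f' c c5 M r) (h1 : ∀ n, t' ≠ .psp n) (h2 : ∀ n, t' ≠ .oodd n) :
    (4 : ℤ) ∣ sg t (p ^ f) - 1 := by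
  by_cases hv2 : v = 2
  · exact Y.v1.2.1 hv2
  · have h2M : ¬ 2 ∣ M := fun hd => by
      have := (Y.X.in5 Nat.prime_two hd).five
      omega
    exact (Y.xr Nat.prime_two h2M (F1.exists_of_S (Y.adj2 h1 h2 hv2))).2.1 rfl

/-- `37 ≤ q` -/
theorem q37 (Y : NTop t p f L G K S t' v f' c c5 M r) (h4 : (4 : ℤ) ∣ sg t (p ^ f) - 1) : 37 ≤ p ^ f := by
  have h18 := Y.d18
  have h36 : (36 : ℤ) ∣ sg t (p ^ f) - 1 := by omega
  have hq3 := Y.X.h.q_three Y.X.p2
  have h35 : p ^ f ≠ 35 := by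
    intro h
    have hp := Y.X.h.prime
    have hf := Y.X.h.fpos
    have h5 : 5 ∣ p ^ f := by rw [h]; norm_num
    have h7 : 7 ∣ p ^ f := by rw [h]; norm_num
    have e5 := (Nat.prime_dvd_prime_iff_eq (by norm_num) hp).1 ((by norm_num : Nat.Prime 5).dvd_of_dvd_pow h5)
    have e7 := (Nat.prime_dvd_prime_iff_eq (by norm_num) hp).1 ((by norm_num : Nat.Prime 7).dvd_of_dvd_pow h7)
    omega
  rcases Y.X.n.hs with h1 | h1
  · rw [h1] at h36
    omega
  · rw [h1] at h36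
    omega

end NTop

end Cfsg.Agent.R2.Spec.X7.N6
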