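import Cfsg.Agent.R2.Spec.X7.N6.NTD

/-!
# Box X7, `n = 6`, packet N6-NT (helper22, S3435): the families
-/

set_option autoImplicit false
set_option linter.unusedSectionVars false

namespace Cfsg.Agent.R2.Spec.X7.N6

open Subgroup Cfsg
open Cfsg.Agent.H426.LieFam Cfsg.Agent.R2.Spec Cfsg.Agent.R2.Spec.P1 Cfsg.Agent.R2.Spec.F1
open Cfsg.Agent.H72 Cfsg.Agent.H420.QR Cfsg.Agent.R2.Spec.E Cfsg.Agent.R2.Spec.P1.Eig

universe u w

variable {t : Fam} {p f : ℕ} {L : Type w} [Group L] [Finite L] {G : Type u} [Group G] [Finite G]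
variable {K : Subgroup G} [K.Normal] {S : Subgroup (G ⧸ K)} [S.Normal] {t' : Fam} {v f' : ℕ} {c c5 M : ℕ}

/-- the primes of the constant term of a relation -/
theorem srel_prime {u k d x : ℕ} {s a b c : ℤ} (h : SRel u k d s a b c) (hx : x.Prime) (hx2 : x ≠ 2)
    (hd : (x : ℤ) ∣ c) : (x : ℤ) ∣ (u : ℤ) ^ 2 - 1 := by
  have hxp : Prime (x : ℤ) := Nat.prime_iff_prime_int.1 hx
  have hd' : (x : ℤ) ∣ |c| := (dvd_abs _ _).2 hd
  have hx1 : ¬ (x : ℤ) ∣ 1 := fun h1 => hx.one_lt.ne' (Nat.dvd_one.1 (by exact_mod_cast h1))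
  have hx2' : ¬ (x : ℤ) ∣ 2 := fun h1 => hx2 ((Nat.prime_dvd_prime_iff_eq hx Nat.prime_two).1 (by exact_mod_cast h1))
  have key : ∀ {s : ℤ}, (s = 1 ∨ s = -1) → (x : ℤ) ∣ u + s → (x : ℤ) ∣ (u : ℤ) ^ 2 - 1 := by
    intro s hs h1
    refine h1.trans ⟨u - s, ?_⟩
    rcases hs with rfl | rfl <;> ring
  cases h with
  | A1 _ hs _ _ he => exact key hs (by rw [← he]; exact hd'.mul_left _)
  | A2 _ hs _ _ he => exact key hs (by rw [← he]; exact hd'.mul_left _)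
  | C _ he =>
    rcases he with he | he
    · rw [he] at hd'
      exact absurd hd' hx1
    · rw [he] at hd'
      exact absurd hd' hx2'
  | D1 _ hs _ _ _ he => exact key hs (hxp.dvd_of_dvd_pow (by rw [← he]; exact hd'.mul_left _))
  | D2 _ hs _ _ _ he => exact key hs (hxp.dvd_of_dvd_pow (by rw [← he]; exact hd'.mul_left _))
  | E1 _ hs _ _ _ he =>
    have h1 : (x : ℤ) ∣ 2 * ((u + s) * (u - s)) := by rw [← he]; exact hd'.mul_left _
    have h2 := (hxp.dvd_or_dvd h1).resolve_left hx2'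
    refine h2.trans ⟨1, ?_⟩
    rcases hs with rfl | rfl <;> ring

/-- `p` does not divide the coefficient `b` -/
theorem srel_nb {u k d x : ℕ} {s a b c : ℤ} (h : SRel u k d s a b c) (hx : x.Prime) (h1 : ¬ (x : ℤ) ∣ u)
    (h2 : ¬ (x : ℤ) ∣ (u : ℤ) ^ 2 - 1) : ¬ (x : ℤ) ∣ b := by
  have hx1 : ¬ (x : ℤ) ∣ 1 := fun h1 => hx.one_lt.ne' (Nat.dvd_one.1 (by exact_mod_cast h1))
  have key : ∀ {s : ℤ}, (s = 1 ∨ s = -1) → ¬ (x : ℤ) ∣ u + s := by
    intro s hs h3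
    refine h2 (h3.trans ⟨u - s, ?_⟩)
    rcases hs with rfl | rfl <;> ring
  have key' : ∀ {s : ℤ}, (s = 1 ∨ s = -1) → ¬ (x : ℤ) ∣ u - s := by
    intro s hs h3
    refine h2 (h3.trans ⟨u + s, ?_⟩)
    rcases hs with rfl | rfl <;> ring
  cases h with
  | A1 _ hs _ _ he => exact h1
  | A2 _ hs _ _ he => exact key hs
  | C _ he => exact hx1
  | D1 _ hs _ _ _ he => exact h1
  | D2 _ hs _ _ _ he => exact key hs
  | E1 _ hs _ _ _ he => exact key' hs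

/-- the numbers `(u^k ± 1) / (2, u - 1)` -/
theorem pm_facts {u k A B : ℕ} (hu : 2 ≤ u) (hk : 1 ≤ k) (hA : A * Nat.gcd 2 (u - 1) = u ^ k + 1)
    (hB : B * Nat.gcd 2 (u - 1) = u ^ k - 1) : Nat.Coprime A B ∧ (A = B + 1 ∨ A = B + 2) := by
  have h1 := Nat.one_le_pow k u (by omega)
  rcases Nat.mod_two_eq_zero_or_one u with h | h
  · rw [gcd_two_even hu h, mul_one] at hA hB
    refine ⟨?_, Or.inr (by omega)⟩
    refine Nat.coprime_of_dvd fun x hx hxA hxB => ?_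
    have h2 : x ∣ 2 := by
      have := Nat.dvd_sub hxA hxB
      rwa [show A - B = 2 by omega] at this
    have h3 := (Nat.prime_dvd_prime_iff_eq hx Nat.prime_two).1 h2
    have h4 : u ^ k % 2 = 0 := by
      have : 2 ∣ u ^ k := dvd_pow (by omega) (by omega)
      omega
    rw [h3] at hxA
    omega
  · rw [gcd_two_odd h] at hA hB
    have h2 : A = B + 1 := by omega
    exact ⟨by rw [h2]; simp, Or.inl h2⟩

/-- the torus `(u^m - 1) / (2, u - 1)` of the symplectic and odd orthogonal groups -/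
theorem exists_pred {t : Fam} {v f m : ℕ} {X : Type u} [Group X] [Finite X] (hv : v.Prime) (h : Fam.Is v f X t)
    (ht : t = .psp m ∨ t = .oodd m) {N : ℕ} (hu : 2 ≤ v ^ f) (hm : 1 ≤ m)
    (hN : N * Nat.gcd 2 (v ^ f - 1) = (v ^ f) ^ m - 1) : ∃ x : X, orderOf x = N := by
  obtain ⟨x, c, hc, hx⟩ : ∃ x : X, ∃ c, c ∣ 2 ∧ orderOf x * c = AN 1 m (v ^ f) := by
    rcases ht with rfl | rfl
    · obtain ⟨hm, -, F, _, _, hch, hF, ⟨E⟩⟩ := h
      obtain ⟨A, hA⟩ := X5.sp_AN (F := F) (δ := 1) (Or.inl rfl) (k := m) (by omega)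
      obtain ⟨x, c, hc, hx⟩ := X5.psp_of_sp hA
      exact ⟨E.symm x, c, hc, by rw [MulEquiv.orderOf_eq, hx, Nat.card_eq_fintype_card, hF]⟩
    · obtain ⟨hm, hodd, F, _, _, hch, hF, ⟨E⟩⟩ := h
      have h2 : (2 : F) ≠ 0 := two_ne_of_odd (by rw [hF]; exact hodd)
      obtain ⟨x, c, hc, hx⟩ := X5.odd_of_elt h2 hm (le_refl m) (X5.elt_AN (F := F) (δ := 1) (Or.inl rfl) (k := m) (by omega))
      exact ⟨E.symm x, c, hc, by rw [MulEquiv.orderOf_eq, hx, Nat.card_eq_fintype_card, hF]⟩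
  rw [AN_one] at hx
  have h1 := Nat.one_le_pow m (v ^ f) (by omega)
  have hNx : N ∣ orderOf x := by
    rcases Nat.mod_two_eq_zero_or_one (v ^ f) with h2 | h2
    · rw [gcd_two_even hu h2, mul_one] at hN
      have h4 : (v ^ f) ^ m % 2 = 0 := by
        have : 2 ∣ (v ^ f) ^ m := dvd_pow (by omega) (by omega)
        omega
      have hco : Nat.Coprime ((v ^ f) ^ m - 1) c :=
        Nat.Coprime.coprime_dvd_right hc (Nat.coprime_two_right.2 (Nat.odd_iff.2 (by omega)))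
      rw [hN]
      exact hco.dvd_of_dvd_mul_right (by rw [← hx])
    · rw [gcd_two_odd h2] at hN
      have h3 : N * 2 ∣ orderOf x * 2 := by
        rw [hN, ← hx]
        exact Nat.mul_dvd_mul_left _ hc
      exact Nat.dvd_of_mul_dvd_mul_right two_pos h3
  exact exists_dvd_order (orderOf_pos x).ne' hNx ⟨x, rfl⟩

namespace NTop

namespace Dat

variable {r z h T i : ℕ}

theorem u2 (Y : NTop t p f L G K S t' v f' c c5 M r) : 2 ≤ v ^ f' :=
  Y.X.hF.prime.two_le.trans (Nat.le_self_pow Y.X.hF.f_ne v)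

theorem pu1 (Y : NTop t p f L G K S t' v f' c c5 M r) : ¬ (p : ℤ) ∣ ((v ^ f' : ℕ) : ℤ) := by
  intro hd
  have h1 : p ∣ v ^ f' := by exact_mod_cast hd
  exact Y.X.vp ((Nat.prime_dvd_prime_iff_eq Y.X.h.prime Y.X.hF.prime).1 (Y.X.h.prime.dvd_of_dvd_pow h1)).symm

theorem pu2 (Y : NTop t p f L G K S t' v f' c c5 M r) : ¬ (p : ℤ) ∣ ((v ^ f' : ℕ) : ℤ) ^ 2 - 1 := by
  intro hd
  have h1 := cls_of_sq (t := t') hd
  have h2 := Y.pcls
  omega

theorem upN (Y : NTop t p f L G K S t' v f' c c5 M r) {N : ℕ} (hN : ∃ x : S, orderOf x = N) :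
    Up p (sg t (p ^ f)) 6 N := by
  obtain ⟨x, hx⟩ := hN
  have := Y.X.upS x
  rwa [hx, Y.c6] at this

theorem upTop (Y : NTop t p f L G K S t' v f' c c5 M r) {j : ℕ} (hj : P1.top t' j) :
    Up p (sg t (p ^ f)) 6 (ttor t' (v ^ f') j) :=
  upN Y ((top_facts_all Y.X.hF.cla Y.X.hF.prime Y.X.hF.is).elt j hj)

/-- coprimality from the relation -/
theorem cop (D : Dat t p f G K S t' v f' z h T i) (Y : NTop t p f L G K S t' v f' c c5 M r) (hT2 : T % 2 = 1)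
    {N k d : ℕ} {s a b e : ℤ} (hS : SRel (v ^ f') k d s a b e) (hrel : a * T = b * N + e) : Nat.Coprime N T := by
  refine Nat.coprime_of_dvd fun x hx hxN hxT => ?_
  have hx2 : x ≠ 2 := by
    rintro rfl
    omega
  have h1 : (x : ℤ) ∣ e := by
    have e1 : (x : ℤ) ∣ a * T := Dvd.dvd.mul_left (by exact_mod_cast hxT) _
    have e2 : (x : ℤ) ∣ b * N := Dvd.dvd.mul_left (by exact_mod_cast hxN) _
    rw [hrel] at e1
    exact (dvd_add_right e2).1 e1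
  exact D.T_prime Y hx hx2 hxT (srel_prime hS hx hx2 h1)

/-- a divisor of `u² - 1` which divides `d T` -/
theorem dvd_four (D : Dat t p f G K S t' v f' z h T i) (Y : NTop t p f L G K S t' v f' c c5 M r) (hT2 : T % 2 = 1)
    {a d : ℕ} (ha : (a : ℤ) ∣ ((v ^ f' : ℕ) : ℤ) ^ 2 - 1) (hd : d ∣ 4) (had : a ∣ T * d) : a ∣ 4 := by
  have hc : Nat.Coprime a T := by
    refine Nat.coprime_of_dvd fun x hx hxa hxT => ?_
    have hx2 : x ≠ 2 := by
      rintro rfl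
      omega
    exact D.T_prime Y hx hx2 hxT ((Int.natCast_dvd_natCast.2 hxa).trans ha)
  exact (hc.dvd_of_dvd_mul_left had).trans hd

/-- `u - 1 ∣ 4` or `u + 1 ∣ 4` -/
theorem u_cases {u : ℕ} (hu : 2 ≤ u) (h : u - 1 ∣ 4 ∨ u + 1 ∣ 4) : u = 2 ∨ u = 3 ∨ u = 5 := by
  rcases h with h | h
  · have h1 := Nat.le_of_dvd (by norm_num) h
    have h2 : u ≤ 5 := by omega
    interval_cases u <;> revert h <;> decide
  · have h1 := Nat.le_of_dvd (by norm_num) h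
    have h2 : u ≤ 3 := by omega
    interval_cases u <;> revert h <;> decide

/-- small `u` -/
theorem small_case (D : Dat t p f G K S t' v f' z h T i) (Y : NTop t p f L G K S t' v f' c c5 M r)
    (hT2 : T % 2 = 1) (hh2 : h % 2 = 1) (hr4 : 4 ≤ rk t') (hu : v ^ f' = 2 ∨ v ^ f' = 3 ∨ v ^ f' = 5) {j : ℕ}
    (hj : P1.top t' j) (hij : i ≠ j) : False := by
  obtain ⟨k, d, s, a, b, e, hS⟩ := snum (u2 Y) hr4 D.top hj hij
  have hrel : a * T = b * ttor t' (v ^ f') j + e := by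
    have := hS.eq
    rwa [← D.T_eq] at this
  obtain ⟨s1, s2, -, s4, s5, -, -, -, -, s10, -, -⟩ := SRel.sz (u2 Y) hS.rel
  have hf1 : f' = 1 := by
    have : (v ^ f').Prime := by rcases hu with e | e | e <;> rw [e] <;> norm_num
    exact Nat.Prime.eq_one_of_pow this
  have hh : h = 1 := by
    have := D.h_dvd Y hh2
    rw [hf1] at this
    exact Nat.dvd_one.1 this
  have hu5 : ((v ^ f' : ℕ) : ℤ) ≤ 5 := by
    rcases hu with e | e | e <;> rw [e] <;> norm_num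
  have hu0 : (0 : ℤ) ≤ ((v ^ f' : ℕ) : ℤ) := by positivity
  refine (D.nt Y).small hh (upTop Y hj) (D.cop Y hT2 hS.rel hrel) s1 (by linarith) s5 ?_ hrel
    (srel_nb hS.rel Y.X.h.prime (pu1 Y) (pu2 Y))
  have h1 : (((v ^ f' : ℕ) : ℤ) + 1) ^ 2 ≤ 6 ^ 2 := pow_le_pow_left₀ (by linarith) (by linarith) 2
  linarith

/-- difference one or two -/
theorem pm_case (D : Dat t p f G K S t' v f' z h T i) (Y : NTop t p f L G K S t' v f' c c5 M r) {k A B : ℕ}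
    (hk : 1 ≤ k) (hA : A * Nat.gcd 2 (v ^ f' - 1) = (v ^ f') ^ k + 1)
    (hB : B * Nat.gcd 2 (v ^ f' - 1) = (v ^ f') ^ k - 1)
    (h1 : (T = A ∧ ∃ x : S, orderOf x = B) ∨ (T = B ∧ ∃ x : S, orderOf x = A)) : False := by
  obtain ⟨hc, hAB⟩ := pm_facts (u2 Y) hk hA hB
  rcases h1 with ⟨h1, h2⟩ | ⟨h1, h2⟩
  · refine (D.nt Y).k1 (upN Y h2) (by rw [h1]; exact hc.symm) (c := (A : ℤ) - B) (by rw [h1]; ring) ?_
    rcases hAB with h3 | h3 <;> rw [h3] <;> push_cast <;> rw [abs_le] <;> constructor <;> linarith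
  · refine (D.nt Y).k1 (upN Y h2) (by rw [h1]; exact hc) (c := (B : ℤ) - A) (by rw [h1]; ring) ?_
    rcases hAB with h3 | h3 <;> rw [h3] <;> push_cast <;> rw [abs_le] <;> constructor <;> linarith

/-- `16 ^ h ≤ u ^ 4` -/
theorem h16 (D : Dat t p f G K S t' v f' z h T i) (Y : NTop t p f L G K S t' v f' c c5 M r) (hh2 : h % 2 = 1) :
    16 ^ h ≤ (v ^ f') ^ 4 := by
  have h1 := Nat.le_of_dvd (Nat.pos_of_ne_zero Y.X.hF.f_ne) (D.h_dvd Y hh2)
  calc 16 ^ h = (2 ^ h) ^ 4 := by rw [show 16 = 2 ^ 4 by norm_num, ← pow_mul, ← pow_mul, mul_comm]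
    _ ≤ (2 ^ f') ^ 4 := Nat.pow_le_pow_left (Nat.pow_le_pow_right two_pos h1) 4
    _ ≤ (v ^ f') ^ 4 := Nat.pow_le_pow_left (Nat.pow_le_pow_left Y.X.hF.prime.two_le f') 4

/-- linear and unitary groups -/
theorem lin_case (D : Dat t p f G K S t' v f' z h T i) (Y : NTop t p f L G K S t' v f' c c5 M r)
    (h4 : (4 : ℤ) ∣ sg t (p ^ f) - 1) (hr4 : 4 ≤ rk t') (hlin : ∃ m, t' = .psl m ∨ t' = .psu m) {j : ℕ}
    (hj : P1.top t' j) (hij : i ≠ j) (hu4 : (v ^ f') ^ 4 ≤ 8 * T) : False := by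
  obtain ⟨hT2, hh2⟩ := (D.T_mod Y).2 h4
  obtain ⟨k, d, s, a, b, e, hS⟩ := snum (u2 Y) hr4 D.top hj hij
  have hk := hS.lk hlin
  have hrel : a * T = b * ttor t' (v ^ f') j + e := by
    have := hS.eq
    rwa [← D.T_eq] at this
  obtain ⟨s1, s2, -, s4, s5, -, -, s8, -, -, -, -⟩ := SRel.sz (u2 Y) hS.rel
  exact (D.nt Y).lin (Y.q37 h4) (u2 Y) (upTop Y hj) (D.cop Y hT2 hS.rel hrel) s1 s2 s5 (s8 (by omega)) hrel
    (srel_nb hS.rel Y.X.h.prime (pu1 Y) (pu2 Y)) hu4 (D.h16 Y hh2)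

end Dat

end NTop

end Cfsg.Agent.R2.Spec.X7.N6
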