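import Cfsg.Agent.R2.Spec.X7.N6.Def

/-!
# Box X7, `n = 6`, packet N6-NT (helper22, S3435): the numbers

`NT p q s h T` : `6 h T = |s^5 + s^4 + s^3 + s^2 + s + 1|`, `T` an isolated number of `S`;
`NT.bracket` : a second number `N` of `S` with `a T = b N + c` is small; `NT.k1`, `NT.small`, `NT.lin`, `NT.min` : contradictions.
-/

set_option autoImplicit false

namespace Cfsg.Agent.R2.Spec.X7.N6

/-- the numbers of the packet N6-NT -/
structure NT (p q : ℕ) (s : ℤ) (h T : ℕ) : Prop where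
  hp : p.Prime
  p5 : 5 ≤ p
  hs : s.natAbs = q
  hq : 17 ≤ q
  ps : (p : ℤ) ∣ s
  pq : p ≤ q
  h18 : (18 : ℤ) ∣ s - 1
  hT : ∃ σ : ℤ, (σ = 1 ∨ σ = -1) ∧ σ * (6 * h * T) = s ^ 5 + s ^ 4 + s ^ 3 + s ^ 2 + s + 1
  h2 : 2 * h ≤ q + 1
  R3 : s ^ 2 + s + 1 ∣ (3 * T : ℤ)

namespace NT

variable {p q : ℕ} {s : ℤ} {h T : ℕ}

theorem abs_s (X : NT p q s h T) : |s| = q := by
  rw [← X.hs, Int.abs_eq_natAbs]

theorem sq_s (X : NT p q s h T) : s ^ 2 = (q : ℤ) ^ 2 := by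
  rw [← X.abs_s, sq_abs]

theorem abs6 (X : NT p q s h T) : (6 * h * T : ℤ) = |s + 1| * ((q : ℤ) ^ 4 + (q : ℤ) ^ 2 + 1) := by
  obtain ⟨σ, hσ, h1⟩ := X.hT
  have h2 : s ^ 5 + s ^ 4 + s ^ 3 + s ^ 2 + s + 1 = (s + 1) * ((q : ℤ) ^ 4 + (q : ℤ) ^ 2 + 1) := by
    rw [show (q : ℤ) ^ 4 = ((q : ℤ) ^ 2) ^ 2 by ring, ← X.sq_s]
    ring
  have h3 : |σ * (6 * h * T : ℤ)| = 6 * h * T := by
    have h4 : (0 : ℤ) ≤ 6 * h * T := by positivity
    rcases hσ with rfl | rfl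
    · rw [one_mul, abs_of_nonneg h4]
    · rw [neg_one_mul, abs_neg, abs_of_nonneg h4]
  rw [h1, h2, abs_mul] at h3
  rw [← h3, abs_of_nonneg (show (0 : ℤ) ≤ (q : ℤ) ^ 4 + (q : ℤ) ^ 2 + 1 by positivity)]

theorem abs_add (X : NT p q s h T) : (q : ℤ) - 1 ≤ |s + 1| ∧ |s + 1| ≤ q + 1 := by
  have h1 := X.abs_s
  constructor
  · have h2 := abs_sub_abs_le_abs_sub s (-1)
    rw [sub_neg_eq_add, h1, abs_neg, abs_one] at h2
    exact h2
  · have h2 := abs_add_le s 1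
    rwa [h1, abs_one] at h2

theorem abs_sub' (X : NT p q s h T) : |s - 1| ≤ q + 1 := by
  have h1 := X.abs_s
  have h2 := abs_sub s 1
  rwa [h1, abs_one] at h2

theorem lo (X : NT p q s h T) : 16 * (q : ℤ) ^ 5 ≤ 17 * (6 * h * T) := by
  have hq : (17 : ℤ) ≤ q := by exact_mod_cast X.hq
  rw [X.abs6]
  have h1 := X.abs_add.1
  have h2 : ((q : ℤ) - 1) * (q : ℤ) ^ 4 ≤ |s + 1| * ((q : ℤ) ^ 4 + (q : ℤ) ^ 2 + 1) :=
    mul_le_mul h1 (by nlinarith [sq_nonneg (q : ℤ)]) (by positivity) (by positivity)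
  have h3 : (0 : ℤ) ≤ (q : ℤ) ^ 4 := by positivity
  nlinarith

theorem lo37 (X : NT p q s h T) (hq37 : 37 ≤ q) : 36 * (q : ℤ) ^ 5 ≤ 37 * (6 * h * T) := by
  have hq : (37 : ℤ) ≤ q := by exact_mod_cast hq37
  rw [X.abs6]
  have h1 := X.abs_add.1
  have h2 : ((q : ℤ) - 1) * (q : ℤ) ^ 4 ≤ |s + 1| * ((q : ℤ) ^ 4 + (q : ℤ) ^ 2 + 1) :=
    mul_le_mul h1 (by nlinarith [sq_nonneg (q : ℤ)]) (by positivity) (by positivity)
  have h3 : (0 : ℤ) ≤ (q : ℤ) ^ 4 := by positivity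
  nlinarith

theorem hi37 (X : NT p q s h T) (hq37 : 37 ≤ q) : 36 * (6 * h * T : ℤ) ≤ 37 * (q : ℤ) ^ 5 := by
  have hq : (37 : ℤ) ≤ q := by exact_mod_cast hq37
  rw [X.abs6]
  have h1 := X.abs_add.2
  have h2 : |s + 1| * ((q : ℤ) ^ 4 + (q : ℤ) ^ 2 + 1) ≤ (q + 1) * ((q : ℤ) ^ 4 + (q : ℤ) ^ 2 + 1) :=
    mul_le_mul_of_nonneg_right h1 (by positivity)
  obtain ⟨r, hr⟩ : ∃ r : ℤ, (q : ℤ) = 37 + r := ⟨q - 37, by ring⟩
  have hr0 : 0 ≤ r := by omega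
  rw [hr] at h2 ⊢
  nlinarith [pow_nonneg hr0 2, pow_nonneg hr0 3, pow_nonneg hr0 4, pow_nonneg hr0 5]

theorem h_pos (X : NT p q s h T) : 1 ≤ h := by
  by_contra hcon
  have h0 : h = 0 := by omega
  have h1 := X.lo
  rw [h0] at h1
  have hq : (17 : ℤ) ≤ q := by exact_mod_cast X.hq
  have h2 : (0 : ℤ) < (q : ℤ) ^ 5 := by positivity
  simp at h1
  linarith

/-- `T` is large -/
theorem T_ge (X : NT p q s h T) : 5 * (q : ℤ) ^ 3 ≤ T := by
  have hq : (17 : ℤ) ≤ q := by exact_mod_cast X.hq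
  have h1 := X.lo
  have h2 : (2 * h : ℤ) ≤ q + 1 := by exact_mod_cast X.h2
  have h3 : (0 : ℤ) ≤ T := by positivity
  have h4 : (6 * h * T : ℤ) ≤ 3 * (q + 1) * T := by nlinarith
  by_contra hcon
  push Not at hcon
  have h5 : 3 * ((q : ℤ) + 1) * T ≤ 3 * (q + 1) * (5 * (q : ℤ) ^ 3) := by
    apply mul_le_mul_of_nonneg_left hcon.le
    positivity
  -- `16 q^5 ≤ 17 * 15 (q+1) q^3`
  have h6 : (0 : ℤ) ≤ (q : ℤ) ^ 3 := by positivity
  have h7 : 16 * (q : ℤ) ^ 5 ≤ 255 * ((q : ℤ) + 1) * (q : ℤ) ^ 3 := by nlinarith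
  have h8 : 255 * ((q : ℤ) + 1) < 16 * (q : ℤ) ^ 2 := by nlinarith
  have h9 : 0 < (q : ℤ) ^ 3 := by positivity
  nlinarith

theorem not_dvd_sub (X : NT p q s h T) : ¬ (p : ℤ) ∣ s - 1 := by
  intro hd
  have h1 := dvd_sub X.ps hd
  rw [sub_sub_cancel] at h1
  have h2 : p ∣ 1 := by exact_mod_cast h1
  exact X.hp.one_lt.ne' (Nat.dvd_one.1 h2)

theorem not_dvd_h (X : NT p q s h T) : ¬ (p : ℤ) ∣ h := by
  intro hd
  obtain ⟨σ, hσ, h1⟩ := X.hT
  have h2 : (p : ℤ) ∣ s ^ 5 + s ^ 4 + s ^ 3 + s ^ 2 + s + 1 := by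
    rw [← h1]
    exact Dvd.dvd.mul_left (Dvd.dvd.mul_right (Dvd.dvd.mul_left hd _) _) _
  have h3 : (p : ℤ) ∣ s ^ 5 + s ^ 4 + s ^ 3 + s ^ 2 + s := by
    have : s ^ 5 + s ^ 4 + s ^ 3 + s ^ 2 + s = s * (s ^ 4 + s ^ 3 + s ^ 2 + s + 1) := by ring
    rw [this]
    exact X.ps.mul_right _
  have h4 : (p : ℤ) ∣ 1 := (dvd_add_right h3).1 h2
  have h5 : p ∣ 1 := by exact_mod_cast h4
  exact X.hp.one_lt.ne' (Nat.dvd_one.1 h5)

/-- the second number: its type -/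
theorem ty (X : NT p q s h T) {N : ℕ} (hN : Up p s 6 N) (hc : Nat.Coprime N T) (hbig : q ^ 3 < N) :
    ∃ B C : ℤ, s ^ 6 - 1 = B * N + (s - 1) * C ∧ (p : ℤ) ∣ B ∧ |C| ≤ q + 1 := by
  have hq : (17 : ℤ) ≤ q := by exact_mod_cast X.hq
  have hbz : (q : ℤ) ^ 3 < N := by exact_mod_cast hbig
  have hcT : IsCoprime (N : ℤ) T := Nat.isCoprime_iff_coprime.2 hc
  have hs2 := X.sq_s
  have hsne : s - 1 ≠ 0 := by
    intro h0
    have h1 := X.abs_s
    rw [show s = 1 by omega, abs_one] at h1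
    omega
  have hs1ne : s + 1 ≠ 0 := by
    intro h0
    have h1 := X.abs_s
    rw [show s = -1 by omega, abs_neg, abs_one] at h1
    omega
  obtain ⟨s', hs'⟩ := X.ps
  have hsp : ∀ {z : ℤ} {b : ℕ}, z ≠ 0 → (N : ℤ) ∣ z → |z| ≤ b → (N : ℤ) ≤ b := fun hz hd hb =>
    (Int.le_of_dvd (abs_pos.2 hz) ((dvd_abs _ _).2 hd)).trans hb
  have hpq : (p : ℤ) ≤ q := by exact_mod_cast X.pq
  have hp0 : (0 : ℤ) < p := by exact_mod_cast X.hp.pos
  have hsub := X.abs_sub'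
  have hadd := X.abs_add.2
  rcases hN with h1 | h1 | h1 | h1 | h1 | h1 | h1 | h1 | h1
  · obtain ⟨j, hj⟩ := h1
    refine ⟨s * (6 * j), 1, ?_, ?_, by rw [abs_one]; linarith⟩
    · push_cast at hj
      linear_combination s * hj
    · exact Dvd.dvd.mul_right ⟨s', hs'⟩ _
  · exfalso
    obtain ⟨σ, hσ, h2⟩ := X.hT
    have h3 : ((N : ℤ)) ∣ h := by
      have h4 : (N : ℤ) * (6 * (s - 1)) ∣ (h * T : ℤ) * (6 * (s - 1)) := by
        have h5 : σ * ((h * T : ℤ) * (6 * (s - 1))) = s ^ 6 - 1 := by linear_combination (s - 1) * h2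
        have h6 : (N : ℤ) * (6 * (s - 1)) ∣ σ * ((h * T : ℤ) * (6 * (s - 1))) := by
          rw [h5]
          have h7 : (N : ℤ) * (6 * (s - 1)) = ((6 : ℕ) : ℤ) * N * (s - 1) := by push_cast; ring
          rw [h7]
          exact h1
        rcases hσ with rfl | rfl
        · rwa [one_mul] at h6
        · rwa [neg_one_mul, dvd_neg] at h6
      exact hcT.dvd_of_dvd_mul_right (Int.dvd_of_mul_dvd_mul_right (mul_ne_zero (by norm_num) hsne) h4)
    have h4 : N ≤ h := Nat.le_of_dvd X.h_pos (by exact_mod_cast h3)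
    have h5 := X.h2
    have h6 : (N : ℤ) ≤ h := by exact_mod_cast h4
    have h7 : (2 * h : ℤ) ≤ q + 1 := by exact_mod_cast h5
    nlinarith [sq_nonneg (q : ℤ)]
  · obtain ⟨j, hj⟩ := h1
    refine ⟨s ^ 2 * j, s + 1, by linear_combination s ^ 2 * hj, ?_, hadd⟩
    rw [pow_two, mul_assoc]
    exact Dvd.dvd.mul_right ⟨s', hs'⟩ _
  · obtain ⟨j, hj⟩ := h1
    refine ⟨s * (s' * (6 * j)), s + 1, ?_, Dvd.dvd.mul_right ⟨s', hs'⟩ _, hadd⟩
    push_cast at hj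
    have h2 : s ^ 2 * (s ^ 4 - 1) = s * s' * (p * (s ^ 4 - 1)) := by
      linear_combination s * (s ^ 4 - 1) * hs'
    linear_combination h2 + s * s' * hj
  · exfalso
    have h2 : (N : ℤ) ∣ 3 * (s ^ 2 - 1) := by
      obtain ⟨k, hk⟩ := X.R3
      have h3 : (N : ℤ) ∣ 3 * (s ^ 2 - 1) * T := by
        have h4 : 3 * (s ^ 2 - 1) * (T : ℤ) = (s ^ 3 - 1) * (s + 1) * k := by
          linear_combination (s ^ 2 - 1) * hk
        rw [h4]
        exact h1.mul_right _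
      exact hcT.dvd_of_dvd_mul_right h3
    have h3 : (N : ℤ) ≤ 3 * (s ^ 2 - 1) := Int.le_of_dvd (by rw [hs2]; nlinarith) h2
    rw [hs2] at h3
    nlinarith [sq_nonneg (q : ℤ)]
  · exfalso
    have h2 : (N : ℤ) ∣ 3 * (p * (s - 1)) := by
      obtain ⟨k, hk⟩ := X.R3
      have h3 : (N : ℤ) ∣ 3 * (p * (s - 1)) * T := by
        have h4 : 3 * (p * (s - 1)) * (T : ℤ) = p * (s ^ 3 - 1) * k := by
          linear_combination p * (s - 1) * hk
        rw [h4]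
        exact h1.mul_right _
      exact hcT.dvd_of_dvd_mul_right h3
    have h3 := Int.le_of_dvd (abs_pos.2 (mul_ne_zero three_ne_zero (mul_ne_zero hp0.ne' hsne))) ((dvd_abs _ _).2 h2)
    rw [abs_mul, abs_mul, abs_of_nonneg hp0.le, abs_of_nonneg (by norm_num : (0 : ℤ) ≤ 3)] at h3
    have h4 : (p : ℤ) * |s - 1| ≤ q * (q + 1) := mul_le_mul hpq hsub (abs_nonneg _) (by positivity)
    nlinarith [sq_nonneg (q : ℤ)]
  · exfalso
    have h2 : (N : ℤ) ≤ p * (s ^ 2 - 1) := Int.le_of_dvd (by rw [hs2]; nlinarith) h1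
    rw [hs2] at h2
    nlinarith [sq_nonneg (q : ℤ)]
  · exact absurd h1.1 (by have := X.p5; omega)
  · exfalso
    have h2 : N ≤ 25 := Nat.le_of_dvd (by norm_num) h1.2
    have h3 : 17 ^ 3 ≤ q ^ 3 := Nat.pow_le_pow_left X.hq 3
    omega

/-- **The bracket lemma.** -/
theorem bracket (X : NT p q s h T) {N : ℕ} (hN : Up p s 6 N) (hc : Nat.Coprime N T) (hbig : q ^ 3 < N) {a b c : ℤ}
    (hrel : a * T = b * N + c) (hpb : ¬ (p : ℤ) ∣ b) : (N : ℤ) ≤ (q + 1) * (6 * h * |c| + |a| * (q + 1)) := by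
  obtain ⟨B, C, h1, h2, h3⟩ := X.ty hN hc hbig
  obtain ⟨σ, hσ, h4⟩ := X.hT
  have hpp : Prime (p : ℤ) := Nat.prime_iff_prime_int.1 X.hp
  have h5 : (N : ℤ) * (a * B - (s - 1) * σ * (6 * h) * b) = (s - 1) * (σ * (6 * h) * c - a * C) := by
    have h6 : (s - 1) * (σ * (6 * h * T)) = B * N + (s - 1) * C := by rw [h4, ← h1]; ring
    linear_combination (s - 1) * σ * (6 * h) * hrel - a * h6
  have h6 : a * B - (s - 1) * σ * (6 * h) * b ≠ 0 := by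
    intro h0
    have h7 : (p : ℤ) ∣ (s - 1) * σ * (6 * h) * b := by
      rw [← sub_eq_zero.1 h0]
      exact h2.mul_left _
    rcases hpp.dvd_or_dvd h7 with h8 | h8
    · rcases hpp.dvd_or_dvd h8 with h9 | h9
      · rcases hpp.dvd_or_dvd h9 with h10 | h10
        · exact X.not_dvd_sub h10
        · have h11 : (p : ℤ) ∣ 1 := by
            rcases hσ with rfl | rfl
            · exact h10
            · exact (dvd_neg).1 h10
          have h12 : p ∣ 1 := by exact_mod_cast h11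
          exact X.hp.one_lt.ne' (Nat.dvd_one.1 h12)
      · rcases hpp.dvd_or_dvd h9 with h10 | h10
        · have h11 : p ∣ 6 := by exact_mod_cast h10
          have h12 := Nat.le_of_dvd (by norm_num) h11
          have := X.p5
          have h13 := X.hp
          interval_cases p
          · norm_num at h11
          · norm_num at h13
        · exact X.not_dvd_h h10
    · exact hpb h8
  have h7 : (N : ℤ) ≤ |(s - 1) * (σ * (6 * h) * c - a * C)| := by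
    rw [← h5, abs_mul, abs_of_nonneg (by positivity : (0 : ℤ) ≤ N)]
    exact le_mul_of_one_le_right (by positivity) (Int.one_le_abs h6)
  refine h7.trans ?_
  rw [abs_mul]
  have h8 : |σ * (6 * h) * c - a * C| ≤ 6 * h * |c| + |a| * (q + 1) := by
    refine (abs_sub _ _).trans (add_le_add ?_ ?_)
    · rw [abs_mul, abs_mul]
      have h9 : |σ| = 1 := by rcases hσ with rfl | rfl <;> simp
      rw [h9, one_mul, abs_of_nonneg (by positivity : (0 : ℤ) ≤ 6 * h)]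
    · rw [abs_mul]
      exact mul_le_mul_of_nonneg_left h3 (abs_nonneg _)
  exact mul_le_mul X.abs_sub' h8 (abs_nonneg _) (by positivity)

/-- difference `1` or `2` -/
theorem k1 (X : NT p q s h T) {N : ℕ} (hN : Up p s 6 N) (hc : Nat.Coprime N T) {c : ℤ}
    (hrel : (1 : ℤ) * T = 1 * N + c) (hc2 : |c| ≤ 2) : False := by
  have hq : (17 : ℤ) ≤ q := by exact_mod_cast X.hq
  have h1 := X.T_ge
  obtain ⟨h2, h3⟩ := abs_le.1 hc2
  have hq3 : (0 : ℤ) < (q : ℤ) ^ 3 := by positivity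
  have hbig : q ^ 3 < N := by
    have : (q : ℤ) ^ 3 < N := by
      have : 2 * (q : ℤ) ^ 3 ≤ (q : ℤ) ^ 3 * 2 := by ring_nf; rfl
      nlinarith
    exact_mod_cast this
  have h4 := X.bracket hN hc hbig hrel (by
    intro hd
    have h5 : p ∣ 1 := by exact_mod_cast hd
    exact X.hp.one_lt.ne' (Nat.dvd_one.1 h5))
  rw [abs_one, one_mul] at h4
  have h5 := X.lo
  have h6 : (2 * h : ℤ) ≤ q + 1 := by exact_mod_cast X.h2
  have hh : (1 : ℤ) ≤ h := by exact_mod_cast X.h_pos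
  have h7 : (6 * h * |c| : ℤ) ≤ 6 * (q + 1) := by
    have := abs_nonneg c
    nlinarith
  have h8 : (N : ℤ) ≤ 7 * (q + 1) ^ 2 := by
    calc (N : ℤ) ≤ (q + 1) * (6 * h * |c| + (q + 1)) := h4
      _ ≤ (q + 1) * (6 * (q + 1) + (q + 1)) := mul_le_mul_of_nonneg_left (by linarith) (by positivity)
      _ = 7 * (q + 1) ^ 2 := by ring
  have h9 : (T : ℤ) ≤ 7 * (q + 1) ^ 2 + 2 := by linarith
  -- contradiction with `T ≥ 5 q^3`
  nlinarith [sq_nonneg (q : ℤ)]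

end NT

end Cfsg.Agent.R2.Spec.X7.N6
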