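import Cfsg.Agent.R2.Spec.X7.N6.ZNum

/-!
# Box X7, `n = 6` (helper14, S3435): the equations of the zero cases

* `zG` : `(y - 1) Φ₅(s) = y ^ m - 1`, `y = ± u`;
* `zF` : `6 Φ₅(s) = 5 ^ m + 5`;
* `zP` : `u ^ k + 1 = 2 Φ₅(s)`.
-/

set_option autoImplicit false
set_option linter.unusedVariables false
set_option linter.unnecessarySeqFocus false

namespace Cfsg.Agent.R2.Spec.X7.N6

variable {p q : ℕ} {s : ℤ} {c c5 M : ℕ}

/-- `Φ₅(s)` in terms of `q` -/
theorem SixN.phi_P (n : SixN p q s c c5 M) : (s = q ∧ s ^ 4 + s ^ 3 + s ^ 2 + s + 1 = (P1 q : ℤ)) ∨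
    (s = -(q : ℤ) ∧ s ^ 4 + s ^ 3 + s ^ 2 + s + 1 = (P2 q : ℤ)) := by
  have hq := n.q3
  rcases n.hs with h | h
  · left
    refine ⟨h, ?_⟩
    rw [h, P1]
    push_cast
    ring
  · right
    refine ⟨h, ?_⟩
    rw [h, P2]
    push_cast [Nat.cast_sub (show 1 ≤ q by omega)]
    ring

theorem P2_le_P1 {q : ℕ} (hq : 1 ≤ q) : P2 q ≤ P1 q := by
  unfold P1 P2
  obtain ⟨x, rfl⟩ : ∃ x, q = x + 1 := ⟨q - 1, by omega⟩
  rw [Nat.add_sub_cancel]
  nlinarith [Nat.zero_le x, Nat.zero_le (x ^ 2), Nat.zero_le (x ^ 3)]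

/-- the data of the radical -/
structure Kp (v κ c5 w : ℕ) : Prop where
  pr : ∀ z : ℕ, z.Prime → z ∣ κ → z = v
  dvd : κ ∣ c5 * w

theorem SixN.w_pos (n : SixN p q s c c5 M) {w : ℕ} (hw : (s - 1).natAbs = c * w) : 0 < w := by
  rcases Nat.eq_zero_or_pos w with h | h
  · rw [h, mul_zero, Int.natAbs_eq_zero] at hw
    exact absurd hw n.s_ne
  · exact h

theorem SixN.dvd_s (n : SixN p q s c c5 M) {w z : ℕ} (hw : (s - 1).natAbs = c * w) (hz : z.Prime) (h : z ∣ c5 * w) :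
    (z : ℤ) ∣ s - 1 := by
  rcases hz.dvd_mul.1 h with h1 | h1
  · have h2 : (z : ℤ) ∣ (c5 : ℤ) := by exact_mod_cast h1
    exact h2.trans n.c5_dvd
  · rw [Int.natCast_dvd, hw]
    exact h1.mul_left _

theorem Kp.pow {v κ w : ℕ} (n : SixN p q s c c5 M) (hw : (s - 1).natAbs = c * w) (hκ : Kp v κ c5 w) :
    ∃ j : ℕ, κ = v ^ j := by
  have h0 : κ ≠ 0 := by
    rintro rfl
    have h1 := zero_dvd_iff.1 hκ.dvd
    have h2 := n.w_pos hw
    rcases n.c5_or with h3 | h3 <;> rw [h3] at h1 <;> omega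
  exact ⟨_, Nat.eq_prime_pow_of_unique_prime_dvd h0 fun {d} hd hdk => hκ.pr d hd hdk⟩

theorem SixN.c_le (n : SixN p q s c c5 M) : c ≤ 6 := by rcases n.c_or with h | h <;> omega

theorem SixN.two_c (n : SixN p q s c c5 M) : 2 ∣ c := by rcases n.c_or with h | h <;> rw [h] <;> norm_num

theorem SixN.q_le (n : SixN p q s c c5 M) {w : ℕ} (hw : (s - 1).natAbs = c * w) : q ≤ c * w + 1 := by
  rcases n.hs with h | h <;> omega

theorem pow_two_lt (n : ℕ) (hn : 7 ≤ n) : 12 * n + 1 < 2 ^ n := by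
  induction n, hn using Nat.le_induction with
  | base => norm_num
  | succ n hn ih =>
    rw [pow_succ]
    omega

/-- the equation in the natural numbers -/
theorem eq_nat {u m P : ℕ} {y : ℤ} (hu : 2 ≤ u) (hy : y = u ∨ (y = -(u : ℤ) ∧ m % 2 = 1)) (e : (y - 1) * P = y ^ m - 1) :
    (u - 1) * P + 1 = u ^ m ∨ (u + 1) * P = u ^ m + 1 := by
  rcases hy with rfl | ⟨rfl, hm⟩
  · left
    zify [show 1 ≤ u by omega]
    rw [e]
    ring
  · right
    have ho : Odd m := Nat.odd_iff.2 hm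
    rw [Odd.neg_pow ho] at e
    zify
    linear_combination -e

theorem u_lt {q u m P : ℕ} (hq : 3 ≤ q) (hu : 2 ≤ u) (huq : u ≠ q) (hm : 5 ≤ m) (hP : P ≤ P1 q)
    (h : (u - 1) * P + 1 = u ^ m ∨ (u + 1) * P = u ^ m + 1) : u < q := by
  by_contra hcon
  have h1 : q + 1 ≤ u := by omega
  have h5 : u ^ 5 ≤ u ^ m := Nat.pow_le_pow_right (by omega) hm
  rcases h with h | h
  · obtain ⟨x, rfl⟩ : ∃ x, u = x + 1 := ⟨u - 1, by omega⟩
    rw [Nat.add_sub_cancel] at h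
    have h6 : x * P1 (x + 1) + 1 = (x + 1) ^ 5 := by
      unfold P1
      ring
    have h7 : x * P1 (x + 1) ≤ x * P := by omega
    have h8 : P1 (x + 1) ≤ P := Nat.le_of_mul_le_mul_left h7 (by omega)
    have h9 : P1 q < P1 (x + 1) := by
      unfold P1
      have e1 := Nat.pow_le_pow_left (show q ≤ x + 1 by omega) 4
      have e2 := Nat.pow_le_pow_left (show q ≤ x + 1 by omega) 3
      have e3 := Nat.pow_le_pow_left (show q ≤ x + 1 by omega) 2
      omega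
    omega
  · obtain ⟨x, rfl⟩ : ∃ x, u = x + 1 := ⟨u - 1, by omega⟩
    have h6 : (x + 1 + 1) * P2 (x + 1) = (x + 1) ^ 5 + 1 := by
      unfold P2
      rw [Nat.add_sub_cancel]
      ring
    have h7 : (x + 1 + 1) * P2 (x + 1) ≤ (x + 1 + 1) * P := by omega
    have h8 : P2 (x + 1) ≤ P := Nat.le_of_mul_le_mul_left h7 (by omega)
    have h9 : P1 q < P2 (x + 1) := by
      unfold P1 P2
      rw [Nat.add_sub_cancel]
      have e1 : (q + 1) ^ 3 * q ≤ (x + 1) ^ 3 * x := Nat.mul_le_mul (Nat.pow_le_pow_left (by omega) 3) (by omega)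
      have e2 : (q + 1) * q ≤ (x + 1) * x := Nat.mul_le_mul (by omega) (by omega)
      have e3 : q ^ 4 + q ^ 3 + q ^ 2 + q + 1 < (q + 1) ^ 3 * q + (q + 1) * q + 1 := by
        nlinarith [Nat.zero_le (q ^ 3), Nat.zero_le (q ^ 2), hq]
      omega
    omega

/-- the radical, case G -/
theorem kapG (n : SixN p q s c c5 M) {u v f' m w κ : ℕ} {y : ℤ} (hv : v.Prime) (hf : 1 ≤ f') (hu : u = v ^ f')
    (hw : (s - 1).natAbs = c * w) (hy : y = u ∨ (y = -(u : ℤ) ∧ m % 2 = 1)) (hm : 4 ≤ m)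
    (e : (y - 1) * (s ^ 4 + s ^ 3 + s ^ 2 + s + 1) = y ^ m - 1) (hκ : Kp v κ c5 w) : κ = 1 ∨ (f' = 2 ∧ κ ∣ 4) := by
  by_cases h1 : κ = 1
  · exact Or.inl h1
  right
  obtain ⟨z, hz, hzκ⟩ := Nat.exists_prime_and_dvd h1
  have hzv := hκ.pr z hz hzκ
  subst hzv
  have hs := n.dvd_s hw hz (hzκ.trans hκ.dvd)
  have hzu : (z : ℤ) ∣ (u : ℤ) := by
    rw [hu]
    push_cast
    exact dvd_pow_self _ (by omega)
  have hzy : (z : ℤ) ∣ y := by
    rcases hy with h | ⟨h, -⟩ <;> rw [h]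
    · exact hzu
    · exact (dvd_neg).2 hzu
  have h4 : (z : ℤ) ∣ 4 := by
    obtain ⟨a, ha⟩ := hs
    have hzm : (z : ℤ) ∣ y ^ m := hzy.trans (dvd_pow_self y (by omega))
    have h5 : (4 : ℤ) = y * (s ^ 4 + s ^ 3 + s ^ 2 + s + 1) - y ^ m - (s - 1) * (s ^ 3 + 2 * s ^ 2 + 3 * s + 4) := by
      linear_combination -e
    rw [h5]
    exact dvd_sub (dvd_sub (hzy.mul_right _) hzm) (Dvd.dvd.mul_right ⟨a, ha⟩ _)
  have hz2 : z = 2 := by
    have h5 : z ∣ 2 ^ 2 := by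
      norm_num
      exact_mod_cast h4
    exact (Nat.prime_dvd_prime_iff_eq hz Nat.prime_two).1 (hz.dvd_of_dvd_pow h5)
  subst hz2
  have hc5 : Nat.Coprime 2 c5 := by rcases n.c5_or with h | h <;> rw [h] <;> decide
  have h2w : 2 ∣ w := hc5.dvd_of_dvd_mul_left (hzκ.trans hκ.dvd)
  have h4s : (4 : ℤ) ∣ s - 1 := by
    have h6 : 2 * 2 ∣ c * w := Nat.mul_dvd_mul n.two_c h2w
    rw [← hw] at h6
    exact Int.natCast_dvd.2 h6
  obtain ⟨t, ht⟩ := h4s
  have hs1 : s = 1 + 4 * t := by linarith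
  -- `f' = 2`
  have hf2 : f' = 2 := by
    rcases Nat.lt_or_ge f' 3 with h6 | h6
    · by_contra hf2
      have hf1 : f' = 1 := by omega
      have h7 : (4 : ℤ) ∣ y ^ m := by
        have h8 : (2 : ℤ) ^ m ∣ y ^ m := pow_dvd_pow_of_dvd hzy m
        exact (show (4 : ℤ) ∣ 2 ^ m from by
          rw [show (4 : ℤ) = 2 ^ 2 by norm_num]
          exact pow_dvd_pow 2 (by omega)).trans h8
      have h9 : y = 2 ∨ y = -2 := by
        rw [hf1, pow_one] at hu
        rw [hu] at hy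
        rcases hy with h | ⟨h, -⟩
        · left; exact_mod_cast h
        · right; exact_mod_cast h
      have h10 : (4 : ℤ) ∣ y := by
        have h11 : y = y ^ m - 4 * ((y - 1) * (t * (s ^ 3 + 2 * s ^ 2 + 3 * s + 4) + 1)) := by
          rw [hs1] at e ⊢
          linear_combination e
        rw [h11]
        exact dvd_sub h7 (Dvd.intro _ rfl)
      rcases h9 with h9 | h9 <;> rw [h9] at h10 <;> revert h10 <;> decide
    · exfalso
      have h7 : (8 : ℤ) ∣ y := by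
        have h8 : (8 : ℤ) ∣ (u : ℤ) := by
          rw [hu]
          push_cast
          rw [show (8 : ℤ) = 2 ^ 3 by norm_num]
          exact pow_dvd_pow 2 h6
        rcases hy with h | ⟨h, -⟩ <;> rw [h]
        · exact h8
        · exact (dvd_neg).2 h8
      have h8 : (8 : ℤ) ∣ y ^ m := h7.trans (dvd_pow_self y (by omega))
      have h9 : (8 : ℤ) ∣ 4 := by
        have h10 : (4 : ℤ) = y * (s ^ 4 + s ^ 3 + s ^ 2 + s + 1) - y ^ m -
            8 * (5 * t + 20 * t ^ 2 + 40 * t ^ 3 + 32 * t ^ 4) := by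
          rw [hs1] at e ⊢
          linear_combination -e
        rw [h10]
        exact dvd_sub (dvd_sub (h7.mul_right _) h8) (Dvd.intro _ rfl)
      revert h9
      decide
  refine ⟨hf2, ?_⟩
  have h16 : ¬ (16 : ℤ) ∣ s - 1 := by
    rintro ⟨t', ht'⟩
    have hs2 : s = 1 + 16 * t' := by linarith
    have h9 : y = 4 ∨ y = -4 := by
      rw [hf2] at hu
      rw [hu] at hy
      rcases hy with h | ⟨h, -⟩
      · left; exact_mod_cast h
      · right; exact_mod_cast h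
    have h7 : (32 : ℤ) ∣ y ^ m := by
      have h8 : (32 : ℤ) ∣ y ^ 4 := by
        rcases h9 with h | h <;> rw [h] <;> norm_num
      exact h8.trans (pow_dvd_pow y hm)
    have h10 : (32 : ℤ) ∣ (y - 1) * 5 + 1 := by
      have h11 : (y - 1) * 5 + 1 = y ^ m - 32 * ((y - 1) * (5 * t' + 80 * t' ^ 2 + 640 * t' ^ 3 + 2048 * t' ^ 4)) := by
        rw [hs2] at e
        linear_combination e
      rw [h11]
      exact dvd_sub h7 (Dvd.intro _ rfl)
    rcases h9 with h9 | h9 <;> rw [h9] at h10 <;> revert h10 <;> decide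
  obtain ⟨j, hj⟩ := hκ.pow n hw
  have h11 : κ ∣ w := by
    refine Nat.Coprime.dvd_of_dvd_mul_left ?_ hκ.dvd
    rw [hj]
    exact Nat.Coprime.pow_left _ hc5
  have h12 : 2 * κ ∣ (s - 1).natAbs := by
    rw [hw]
    exact Nat.mul_dvd_mul n.two_c h11
  rw [hj] at h12 ⊢
  rcases Nat.lt_or_ge 2 j with h13 | h13
  · exfalso
    apply h16
    have h14 : (2 : ℕ) ^ 4 ∣ 2 * 2 ^ j := by
      rw [← pow_succ']
      exact pow_dvd_pow 2 (by omega)
    exact Int.natCast_dvd.2 (h14.trans h12)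
  · rw [show (4 : ℕ) = 2 ^ 2 by norm_num]
    exact pow_dvd_pow 2 h13

/-- **case G** -/
theorem zG (n : SixN p q s c c5 M) {u v f' m w κ : ℕ} {y : ℤ} (hv : v.Prime) (hf : 1 ≤ f') (hu : u = v ^ f')
    (huq : u ≠ q) (hw : (s - 1).natAbs = c * w) (hy : y = u ∨ (y = -(u : ℤ) ∧ m % 2 = 1)) (hm : 5 ≤ m)
    (e : (y - 1) * (s ^ 4 + s ^ 3 + s ^ 2 + s + 1) = y ^ m - 1) (hκ : Kp v κ c5 w) (hd : w ∣ 2 * κ * f') : False := by
  have hq3 := n.q3
  have hu2 : 2 ^ f' ≤ u := by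
    rw [hu]
    exact Nat.pow_le_pow_left hv.two_le _
  have hu2' : 2 ≤ u := le_trans (by
    calc 2 = 2 ^ 1 := rfl
      _ ≤ 2 ^ f' := Nat.pow_le_pow_right (by norm_num) hf) hu2
  obtain ⟨P, hP, hPe⟩ : ∃ P : ℕ, (s ^ 4 + s ^ 3 + s ^ 2 + s + 1 = (P : ℤ)) ∧ (P = P1 q ∨ P = P2 q) := by
    rcases n.phi_P with ⟨-, h⟩ | ⟨-, h⟩
    · exact ⟨_, h, Or.inl rfl⟩
    · exact ⟨_, h, Or.inr rfl⟩
  have hPle : P ≤ P1 q := by
    rcases hPe with h | h
    · exact h.le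
    · rw [h]
      exact P2_le_P1 (by omega)
  have e' := e
  rw [hP] at e'
  have hN := eq_nat hu2' hy e'
  have hlt := u_lt hq3 hu2' huq hm hPle hN
  have hκ' := kapG n hv hf hu hw hy (by omega) e hκ
  have hq1 := n.q_le hw
  have hcw : c * w ≤ 6 * w := Nat.mul_le_mul_right _ n.c_le
  have hq97 : q ≤ 97 := by
    rcases hκ' with h | ⟨h, h'⟩
    · subst h
      have h1 : w ≤ 2 * 1 * f' := Nat.le_of_dvd (by omega) hd
      have h2 : f' ≤ 6 := by
        by_contra hc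
        have := pow_two_lt f' (by omega)
        omega
      omega
    · subst h
      have h1 : κ ≤ 4 := Nat.le_of_dvd (by norm_num) h'
      have h0 : 0 < κ := Nat.pos_of_dvd_of_pos h' (by norm_num)
      have h2 : w ≤ 2 * κ * 2 := Nat.le_of_dvd (by omega) hd
      omega
  have hP1 : P1 q ≤ 89451461 := by
    have h1 : P1 q ≤ P1 97 := by
      unfold P1
      have e1 := Nat.pow_le_pow_left hq97 4
      have e2 := Nat.pow_le_pow_left hq97 3
      have e3 := Nat.pow_le_pow_left hq97 2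
      omega
    exact h1.trans (by norm_num [P1])
  have hm33 : m ≤ 33 := by
    by_contra hc
    have h1 : 2 ^ 34 ≤ u ^ m := (Nat.pow_le_pow_right (by norm_num) (by omega)).trans (Nat.pow_le_pow_left hu2' m)
    have h2 : (u + 1) * P ≤ 98 * 89451461 := Nat.mul_le_mul (by omega) (by omega)
    have h3 : (u - 1) * P ≤ (u + 1) * P := Nat.mul_le_mul_right _ (by omega)
    norm_num at h1 h2
    rcases hN with h | h <;> omega
  have ho : q % 2 = 1 := Nat.odd_iff.1 n.odd_q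
  obtain ⟨g1, g2, g3, g4⟩ := gall_spec hq3 hq97 ho hu2' hlt hm hm33
  rcases hPe with h | h <;> rw [h] at hN <;> rcases hN with hN | hN
  · exact g1 hN
  · exact g3 hN
  · exact g2 hN
  · exact g4 hN

/-- `s` in terms of `|s - 1|` -/
theorem SixN.exists_P (n : SixN p q s c c5 M) {d : ℕ} (hd : (s - 1).natAbs = d) : 2 ≤ d ∧ q ≤ d + 1 ∧
    ∃ P : ℕ, (s ^ 4 + s ^ 3 + s ^ 2 + s + 1 = (P : ℤ)) ∧ 61 ≤ P ∧ P ≤ P1 q ∧ (P = P1 (d + 1) ∨ (4 ≤ d ∧ P = P2 (d - 1))) := by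
  have hq := n.q3
  have hP2 : 61 ≤ P2 q := by
    unfold P2
    have e1 : 3 ^ 3 * 2 ≤ q ^ 3 * (q - 1) := Nat.mul_le_mul (Nat.pow_le_pow_left hq 3) (by omega)
    have e2 : 3 * 2 ≤ q * (q - 1) := Nat.mul_le_mul hq (by omega)
    omega
  have hP12 := P2_le_P1 (show 1 ≤ q by omega)
  rcases n.phi_P with ⟨h, h'⟩ | ⟨h, h'⟩
  · have h1 : q = d + 1 := by omega
    refine ⟨by omega, by omega, P1 q, h', by omega, le_rfl, Or.inl (by rw [h1])⟩
  · have h1 : q = d - 1 := by omega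
    refine ⟨by omega, by omega, P2 q, h', hP2, hP12, Or.inr ⟨by omega, by rw [h1]⟩⟩

theorem SixN.c_dvd6 (n : SixN p q s c c5 M) : c ∣ 6 := by rcases n.c_or with h | h <;> rw [h]; norm_num

/-- **case F** -/
theorem zF (n : SixN p q s c c5 M) {m w κ : ℕ} (hw : (s - 1).natAbs = c * w) (h5 : c5 = 5)
    (e : 6 * (s ^ 4 + s ^ 3 + s ^ 2 + s + 1) = 5 ^ m + 5) (hκ : Kp 5 κ c5 w) (hd : 5 * w ∣ 72 * κ) : False := by
  obtain ⟨h2, hq, P, hP, hP61, hPle, hPe⟩ := n.exists_P hw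
  have eN : 6 * P = 5 ^ m + 5 := by
    rw [hP] at e
    exact_mod_cast e
  have hm : 3 ≤ m := by
    by_contra hc
    have h3 : 5 ^ m ≤ 5 ^ 2 := Nat.pow_le_pow_right (by norm_num) (by omega)
    norm_num at h3
    omega
  have h25 : ¬ (25 : ℤ) ∣ s - 1 := by
    rintro ⟨t, ht⟩
    have hs : s = 1 + 25 * t := by linarith
    have h6 : (125 : ℤ) ∣ 5 ^ m := by
      rw [show (125 : ℤ) = 5 ^ 3 by norm_num]
      exact pow_dvd_pow 5 hm
    have h7 : (125 : ℤ) ∣ 25 := by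
      have h8 : (25 : ℤ) = 5 ^ m - 125 * (12 * t + 300 * t ^ 2 + 3750 * t ^ 3 + 18750 * t ^ 4) := by
        rw [hs] at e
        linear_combination e
      rw [h8]
      exact dvd_sub h6 (Dvd.intro _ rfl)
    revert h7
    decide
  obtain ⟨j, hj⟩ := hκ.pow n hw
  have hj2 : κ ∣ 25 := by
    rw [hj]
    rcases Nat.lt_or_ge 2 j with h | h
    · exfalso
      apply h25
      have h8 : 5 * 25 ∣ 5 * w := by
        have h9 := hκ.dvd
        rw [h5, hj] at h9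
        refine Dvd.dvd.trans ?_ h9
        rw [show 5 * 25 = 5 ^ 3 by norm_num]
        exact pow_dvd_pow 5 h
      have h9 : 25 ∣ w := Nat.dvd_of_mul_dvd_mul_left (by norm_num) h8
      have h10 : 25 ∣ (s - 1).natAbs := by
        rw [hw]
        exact h9.mul_left _
      exact Int.natCast_dvd.2 h10
    · rw [show 25 = 5 ^ 2 by norm_num]
      exact pow_dvd_pow 5 h
  have h360 : w ∣ 360 := by
    have h8 : 5 * w ∣ 5 * 360 := hd.trans (by
      rw [show 5 * 360 = 72 * 25 by norm_num]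
      exact Nat.mul_dvd_mul_left _ hj2)
    exact Nat.dvd_of_mul_dvd_mul_left (by norm_num) h8
  have hcw : c * w ∣ 2160 := by
    rw [show 2160 = 6 * 360 by norm_num]
    exact Nat.mul_dvd_mul n.c_dvd6 h360
  have hd2160 : c * w ≤ 2160 := Nat.le_of_dvd (by norm_num) hcw
  have hm21 : m ≤ 21 := by
    by_contra hc
    have h3 : 5 ^ 22 ≤ 5 ^ m := Nat.pow_le_pow_right (by norm_num) (by omega)
    have h4 : P1 q ≤ P1 2161 := by
      unfold P1
      have e1 := Nat.pow_le_pow_left (show q ≤ 2161 by omega) 4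
      have e2 := Nat.pow_le_pow_left (show q ≤ 2161 by omega) 3
      have e3 := Nat.pow_le_pow_left (show q ≤ 2161 by omega) 2
      omega
    have h5 : P1 2161 ≤ 22000000000000 := by norm_num [P1]
    norm_num at h3
    omega
  obtain ⟨g1, g2⟩ := fall_spec h2 hcw hm21
  rcases hPe with h | ⟨h4, h⟩
  · rw [h] at eN
    exact g1 eN
  · rw [h] at eN
    exact g2 h4 eN

theorem P1_le (x : ℕ) : P1 x ≤ (x + 1) ^ 4 := by
  unfold P1
  nlinarith [Nat.zero_le (x ^ 3), Nat.zero_le (x ^ 2), Nat.zero_le x]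

theorem pow8 (n : ℕ) (hn : 10 ≤ n) : (12 * n + 2) ^ 4 ≤ 8 ^ n := by
  induction n, hn using Nat.le_induction with
  | base => norm_num
  | succ n hn ih =>
    have h1 : (2 * (12 * (n + 1) + 2)) ^ 4 ≤ (3 * (12 * n + 2)) ^ 4 := Nat.pow_le_pow_left (by omega) 4
    rw [mul_pow, mul_pow, show (2 : ℕ) ^ 4 = 16 by norm_num, show (3 : ℕ) ^ 4 = 81 by norm_num] at h1
    have h2 : 8 ^ (n + 1) = 8 ^ n * 8 := pow_succ _ _
    rw [h2]
    omega

/-- **case G**, `m = 4` -/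
theorem zG4 (n : SixN p q s c c5 M) {u v f' w κ : ℕ} (hv : v.Prime) (hf : 1 ≤ f') (hu : u = v ^ f')
    (hw : (s - 1).natAbs = c * w) (e : ((u : ℤ) - 1) * (s ^ 4 + s ^ 3 + s ^ 2 + s + 1) = (u : ℤ) ^ 4 - 1)
    (hκ : Kp v κ c5 w) (hd : w ∣ 2 * κ * f') : False := by
  have hq3 := n.q3
  have hu2 : 2 ^ f' ≤ u := by
    rw [hu]
    exact Nat.pow_le_pow_left hv.two_le _
  have hu2' : 2 ≤ u := le_trans (by
    calc 2 = 2 ^ 1 := rfl
      _ ≤ 2 ^ f' := Nat.pow_le_pow_right (by norm_num) hf) hu2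
  obtain ⟨P, hP, hPe⟩ : ∃ P : ℕ, (s ^ 4 + s ^ 3 + s ^ 2 + s + 1 = (P : ℤ)) ∧ (P = P1 q ∨ P = P2 q) := by
    rcases n.phi_P with ⟨-, h⟩ | ⟨-, h⟩
    · exact ⟨_, h, Or.inl rfl⟩
    · exact ⟨_, h, Or.inr rfl⟩
  have hPle : P ≤ P1 q := by
    rcases hPe with h | h
    · exact h.le
    · rw [h]
      exact P2_le_P1 (by omega)
  have hN : (u + 1) * (u * u + 1) = P := by
    have h1 : ((u : ℤ) - 1) * ((u + 1) * (u * u + 1)) = ((u : ℤ) - 1) * P := by
      rw [← hP, e]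
      ring
    have h2 : ((u : ℤ) - 1) ≠ 0 := by
      have : (2 : ℤ) ≤ u := by exact_mod_cast hu2'
      linarith
    exact_mod_cast mul_left_cancel₀ h2 h1
  have hκ' := kapG n hv hf hu hw (Or.inl rfl) le_rfl e hκ
  have hq1 := n.q_le hw
  have hcw : c * w ≤ 6 * w := Nat.mul_le_mul_right _ n.c_le
  have hP4 := P1_le q
  have hu3 : u ^ 3 < P := by
    rw [← hN]
    nlinarith [Nat.zero_le (u ^ 2), hu2']
  have hq109 : q ≤ 109 := by
    rcases hκ' with h | ⟨h, h'⟩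
    · subst h
      have h1 : w ≤ 2 * 1 * f' := Nat.le_of_dvd (by omega) hd
      have h2 : f' ≤ 9 := by
        by_contra hc
        have h3 := pow8 f' (by omega)
        have h4 : 8 ^ f' ≤ u ^ 3 := by
          calc 8 ^ f' = (2 ^ f') ^ 3 := by rw [← pow_mul, mul_comm, pow_mul]; norm_num
            _ ≤ u ^ 3 := Nat.pow_le_pow_left hu2 3
        have h5 : (q + 1) ^ 4 ≤ (12 * f' + 2) ^ 4 := Nat.pow_le_pow_left (by omega) 4
        omega
      omega
    · subst h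
      have h1 : κ ≤ 4 := Nat.le_of_dvd (by norm_num) h'
      have h0 : 0 < κ := Nat.pos_of_dvd_of_pos h' (by norm_num)
      have h2 : w ≤ 2 * κ * 2 := Nat.le_of_dvd (by omega) hd
      omega
  have hu528 : u < 528 := by
    by_contra hc
    have h1 : 528 ^ 3 ≤ u ^ 3 := Nat.pow_le_pow_left (by omega) 3
    have h5 : (q + 1) ^ 4 ≤ 110 ^ 4 := Nat.pow_le_pow_left (by omega) 4
    norm_num at h1 h5
    omega
  have ho : q % 2 = 1 := Nat.odd_iff.1 n.odd_q
  obtain ⟨g1, g2⟩ := g4_spec hq3 hq109 ho hu2' hu528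
  rcases hPe with h | h <;> rw [h] at hN
  · exact g1 hN
  · exact g2 hN

theorem pow27 (n : ℕ) (hn : 12 ≤ n) : 2 * (864 * n + 2) ^ 4 ≤ 27 ^ n := by
  induction n, hn using Nat.le_induction with
  | base => norm_num
  | succ n hn ih =>
    have h1 : (864 * (n + 1) + 2) ^ 4 ≤ (2 * (864 * n + 2)) ^ 4 := Nat.pow_le_pow_left (by omega) 4
    rw [mul_pow, show (2 : ℕ) ^ 4 = 16 by norm_num] at h1
    have h2 : 27 ^ (n + 1) = 27 ^ n * 27 := pow_succ _ _
    rw [h2]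
    omega

/-- **case P** -/
theorem zP (n : SixN p q s c c5 M) {u v f' k w κ : ℕ} (hv : v.Prime) (hf : 1 ≤ f') (hu : u = v ^ f')
    (hw : (s - 1).natAbs = c * w) (hk : 3 ≤ k) (e : (u : ℤ) ^ k + 1 = 2 * (s ^ 4 + s ^ 3 + s ^ 2 + s + 1))
    (hκ : Kp v κ c5 w) (hd : w ∣ 48 * κ * f') : False := by
  obtain ⟨h2, hq, P, hP, hP61, hPle, hPe⟩ := n.exists_P hw
  have eN : u ^ k + 1 = 2 * P := by
    rw [hP] at e
    exact_mod_cast e
  have hv2 : v ≠ 2 := by
    rintro rfl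
    have h3 : 2 ∣ u ^ k := by
      rw [hu, ← pow_mul]
      exact dvd_pow_self 2 (Nat.mul_ne_zero (by omega) (by omega))
    omega
  have hv3 : 3 ≤ v := by
    have := hv.two_le
    omega
  have hκ3 : κ ∣ 3 := by
    by_cases h1 : κ = 1
    · rw [h1]
      exact one_dvd _
    obtain ⟨z, hz, hzκ⟩ := Nat.exists_prime_and_dvd h1
    have hzv := hκ.pr z hz hzκ
    subst hzv
    have hs := n.dvd_s hw hz (hzκ.trans hκ.dvd)
    have hzu : (z : ℤ) ∣ (u : ℤ) := by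
      rw [hu]
      push_cast
      exact dvd_pow_self _ (by omega)
    have h9 : (z : ℤ) ∣ 9 := by
      have h5 : (9 : ℤ) = (u : ℤ) ^ k - (s - 1) * (2 * (s ^ 3 + 2 * s ^ 2 + 3 * s + 4)) := by
        linear_combination -e
      rw [h5]
      exact dvd_sub (hzu.trans (dvd_pow_self _ (by omega))) (hs.mul_right _)
    have hz3 : z = 3 := by
      have h5 : z ∣ 3 ^ 2 := by
        norm_num
        exact_mod_cast h9
      exact (Nat.prime_dvd_prime_iff_eq hz Nat.prime_three).1 (hz.dvd_of_dvd_pow h5)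
    subst hz3
    have h27 : ¬ (27 : ℤ) ∣ s - 1 := by
      rintro ⟨t, ht⟩
      have h6 : (27 : ℤ) ∣ (u : ℤ) ^ k := by
        have h7 : ((3 : ℕ) : ℤ) ^ 3 ∣ (u : ℤ) ^ k := (pow_dvd_pow_of_dvd hzu 3).trans (pow_dvd_pow _ hk)
        norm_num at h7
        exact h7
      have h7 : (27 : ℤ) ∣ 9 := by
        have h8 : (9 : ℤ) = (u : ℤ) ^ k - 27 * (t * (2 * (s ^ 3 + 2 * s ^ 2 + 3 * s + 4))) := by
          linear_combination -e - (2 * (s ^ 3 + 2 * s ^ 2 + 3 * s + 4)) * ht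
        rw [h8]
        exact dvd_sub h6 (Dvd.intro _ rfl)
      revert h7
      decide
    have hc5 : Nat.Coprime 3 c5 := by rcases n.c5_or with h | h <;> rw [h] <;> decide
    obtain ⟨j, hj⟩ := hκ.pow n hw
    have h11 : κ ∣ w := by
      refine Nat.Coprime.dvd_of_dvd_mul_left ?_ hκ.dvd
      rw [hj]
      exact Nat.Coprime.pow_left _ hc5
    have h3c : 3 ∣ c := by
      rw [n.hc]
      exact Nat.dvd_gcd (by norm_num) (Int.natCast_dvd.1 hs)
    have h12 : 3 * κ ∣ (s - 1).natAbs := by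
      rw [hw]
      exact Nat.mul_dvd_mul h3c h11
    rw [hj] at h12 ⊢
    rcases Nat.lt_or_ge 1 j with h13 | h13
    · exfalso
      apply h27
      have h14 : (3 : ℕ) ^ 3 ∣ 3 * 3 ^ j := by
        rw [← pow_succ']
        exact pow_dvd_pow 3 (by omega)
      exact Int.natCast_dvd.2 (h14.trans h12)
    · exact (pow_dvd_pow 3 h13).trans (by norm_num)
  have hcw : c * w ∣ 864 * f' := by
    have h3 : w ∣ 48 * 3 * f' := hd.trans (Nat.mul_dvd_mul_right (Nat.mul_dvd_mul_left _ hκ3) _)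
    have h4 := Nat.mul_dvd_mul n.c_dvd6 h3
    rw [show 6 * (48 * 3 * f') = 864 * f' by ring] at h4
    exact h4
  have hcwle : c * w ≤ 864 * f' := Nat.le_of_dvd (by omega) hcw
  have hub : u ^ k < 2 * (q + 1) ^ 4 := by
    have := P1_le q
    omega
  have hu27 : 27 ^ f' ≤ u ^ k := by
    calc 27 ^ f' = (3 ^ f') ^ 3 := by rw [← pow_mul, mul_comm, pow_mul]; norm_num
      _ ≤ u ^ 3 := Nat.pow_le_pow_left (by rw [hu]; exact Nat.pow_le_pow_left hv3 _) 3
      _ ≤ u ^ k := Nat.pow_le_pow_right (by rw [hu]; exact Nat.pow_pos hv.pos) hk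
  have hf10 : f' ≤ 11 := by
    by_contra hc
    have h3 := pow27 f' (by omega)
    have h4 : (q + 1) ^ 4 ≤ (864 * f' + 2) ^ 4 := Nat.pow_le_pow_left (by omega) 4
    omega
  have hu3 : 3 ≤ u := by
    rw [hu]
    exact hv3.trans (Nat.le_self_pow (by omega) v)
  have hk31 : k ≤ 33 := by
    by_contra hc
    have h3 : 3 ^ 34 ≤ u ^ k := (Nat.pow_le_pow_right (by norm_num) (by omega)).trans (Nat.pow_le_pow_left hu3 k)
    have h4 : (q + 1) ^ 4 ≤ 9506 ^ 4 := Nat.pow_le_pow_left (by omega) 4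
    norm_num at h3 h4
    omega
  obtain ⟨g1, g2⟩ := pall_spec (x := u) hf hf10 h2 hcw hk hk31
  rcases hPe with h | ⟨h4, h⟩
  · apply g1
    rw [← h]
    omega
  · apply g2 h4
    rw [← h]
    omega

end Cfsg.Agent.R2.Spec.X7.N6
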