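import Cfsg.Agent.R2.Spec.X7.N6.Ctx
import Cfsg.Agent.R2.Spec.X7.N6.ZEq
import Cfsg.Agent.R2.Spec.F1.DuelEx
import Cfsg.Agent.R2.Spec.F1.NL

/-!
# Box X7, `n = 6` (helper14, S3435): the zero cases

* `Ctx.dvd6` : the primes of class six divide `|S|`;
* `Ctx.no_kap` : the primes of the radical which divide `c₅ (s - 1) / c` are equal to `v`;
* `Ctx.fac` : `c₅ (s - 1) / c = κ h E'`;
* `Ctx.no_zero` : the zero cases.
-/

set_option autoImplicit false
set_option linter.unusedSectionVars false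
set_option linter.unusedVariables false

namespace Cfsg.Agent.R2.Spec.X7.N6

open Subgroup Cfsg
open Cfsg.Agent.H426.LieFam Cfsg.Agent.R2.Spec Cfsg.Agent.R2.Spec.P1 Cfsg.Agent.R2.Spec.F1
open Cfsg.Agent.H72 Cfsg.Agent.H420.QR Cfsg.Agent.R2.Spec.E

universe u w

variable {t : Fam} {p f : ℕ} {L : Type w} [Group L] [Finite L] {G : Type u} [Group G] [Finite G]
variable {K : Subgroup G} [K.Normal] {S : Subgroup (G ⧸ K)} [S.Normal] {t' : Fam} {v f' : ℕ} {c c5 M : ℕ}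

namespace Ctx

/-- **The primes of class six divide `|S|`.** -/
theorem dvd6 (X : Ctx t p f L G K S t' v f' c c5 M) (hS : BigS t') {z : ℕ} (hz : In t (p ^ f) 6 z) :
    z ∣ Nat.card S := by
  have h := X.h
  have hF := X.hF
  have hq := F1.LS.q_three h X.p2
  by_contra hc
  have hzv : z ≠ v := by
    rintro rfl
    exact hc hF.vdvd
  have h3 : 3 ≤ cls t' (v ^ f') z := by
    by_contra h3
    push Not at h3
    obtain ⟨g, hg⟩ := F1.Frm.irr_v hF hS hz.prime hz.ne_two hzv (by omega)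
    exact hc ((dvd_mul_right z v).trans (by rw [← hg]; exact orderOf_dvd_natCard g))
  have hzG := hz.dvd h
  rw [card_eq_mul (K := K) (S := S)] at hzG
  have hbad := (hz.prime.dvd_mul.1 hzG).resolve_left hc
  have hzK : ¬ z ∣ Nat.card K := fun hd => by
    have h1 := F1.LS.kprime_cls h X.hR hF hS (by rw [X.t6.rk]; norm_num) hq hz.prime hzv hd
    rw [hz.cls_eq] at h1
    omega
  have hzd : ¬ z ∣ dg t' (v ^ f') := not_dvd_dg (Nat.one_le_pow _ _ hF.prime.pos) hz.prime h3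
  obtain ⟨z5, H5⟩ := exists_in h hq (i := 5) (by norm_num) (X.t6.mem_iff.2 (by norm_num))
  have hHC : HC (sg t (p ^ f)) z 4 := h.hc X.hR hF hz hbad hzK hzd (by norm_num) (X.t6.mem_iff.2 (by norm_num))
    (na_symm X.t6.n46) ⟨5, z5, H5, na_symm X.t6.n56, X.t6.n45⟩
  refine killer_false (X := sg t (p ^ f)) (r := z) (i := 6) hz.prime hz.five hz.cls_eq (by norm_num)
    (I := fun l => l = 4) ?_ ?_
  · rintro l rfl -
    exact hHC
  · exact Or.inl ⟨1, le_rfl, rfl, by norm_num, by norm_num⟩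

/-- a prime `z ∣ c₅ (s - 1) / c` is not adjacent to the primes of class six -/
theorem not_adj6 (X : Ctx t p f L G K S t' v f' c c5 M) {w : ℕ} (hw : (sg t (p ^ f) - 1).natAbs = c * w) {z Z : ℕ}
    (hz : z.Prime) (hzw : z ∣ c5 * w) (H : In t (p ^ f) 6 Z) : ¬ ∃ g : G, orderOf g = z * Z := by
  rintro ⟨g, hg⟩
  have n := X.n
  have hup := X.up g
  rw [hg] at hup
  have hzs := n.dvd_s hw hz hzw
  have hs0 := n.s_ne
  have hc6 := n.c_dvd6
  have hZf := Fact.mk H.prime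
  have hZp : ¬ (Z : ℤ) ∣ (p : ℤ) := fun hd => H.not_dvd X.h.fpos (by exact_mod_cast hd)
  have hord : orderOf ((sg t (p ^ f) : ℤ) : ZMod Z) = 6 := H.cls_eq
  have hZ5 := H.five
  obtain ⟨s, hs⟩ : ∃ s, s = sg t (p ^ f) := ⟨_, rfl⟩
  rw [← hs] at hup hzs hs0 hord hw n
  have key : ∀ j : ℕ, (Z : ℤ) ∣ s ^ j - 1 → 6 ∣ j := by
    intro j hj
    rw [← hord]
    apply orderOf_dvd_of_pow_eq_one
    have h1 := (ZMod.intCast_zmod_eq_zero_iff_dvd _ Z).2 hj
    push_cast at h1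
    linear_combination h1
  have hZpr : _root_.Prime (Z : ℤ) := Nat.prime_iff_prime_int.1 H.prime
  have e1 : (Z : ℤ) ∣ (c * ((z * Z : ℕ) : ℤ)) := by
    push_cast
    exact ⟨c * z, by ring⟩
  have e2 : (Z : ℤ) ∣ ((z * Z : ℕ) : ℤ) := by
    push_cast
    exact ⟨z, by ring⟩
  rcases hup with h1 | h1 | h1 | h1 | h1 | h1 | h1 | ⟨-, h1⟩ | ⟨hp5, h1⟩
  · exact absurd (key 5 (e1.trans h1)) (by decide)
  · obtain ⟨k, hk⟩ := h1
    have h2 : s ^ 5 + s ^ 4 + s ^ 3 + s ^ 2 + s + 1 = (c * z) * (Z * k) := by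
      apply mul_left_cancel₀ hs0
      push_cast at hk
      linear_combination hk
    have h3 : s ^ 5 + s ^ 4 + s ^ 3 + s ^ 2 + s + 1 = 6 + (s - 1) * (s ^ 4 + 2 * s ^ 3 + 3 * s ^ 2 + 4 * s + 5) := by ring
    have h6 : (z : ℤ) ∣ 6 := by
      have h4 : (6 : ℤ) = c * z * (Z * k) - (s - 1) * (s ^ 4 + 2 * s ^ 3 + 3 * s ^ 2 + 4 * s + 5) := by
        rw [← h2, h3]
        ring
      rw [h4]
      exact dvd_sub ⟨c * (Z * k), by ring⟩ (hzs.mul_right _)
    have key2 : ∀ d : ℕ, z = d → d ∣ c → d ∣ w → ((d : ℤ) * d) ∣ 6 := by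
      rintro d rfl hdc hdw
      have h4 : ((z * z : ℕ) : ℤ) ∣ s - 1 := by
        rw [Int.natCast_dvd, hw]
        exact Nat.mul_dvd_mul hdc hdw
      push_cast at h4
      have h5 : (6 : ℤ) = c * z * (Z * k) - (s - 1) * (s ^ 4 + 2 * s ^ 3 + 3 * s ^ 2 + 4 * s + 5) := by
        rw [← h2, h3]
        ring
      rw [h5]
      have h6 : (z : ℤ) * z ∣ c * z := mul_dvd_mul_right (by exact_mod_cast hdc) _
      exact dvd_sub (h6.mul_right _) (h4.mul_right _)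
    have h7 : z ∣ 6 := by exact_mod_cast h6
    have h8 : z = 2 ∨ z = 3 := by
      have : z ∣ 2 * 3 := h7
      rcases hz.dvd_mul.1 this with h | h
      · exact Or.inl ((Nat.prime_dvd_prime_iff_eq hz Nat.prime_two).1 h)
      · exact Or.inr ((Nat.prime_dvd_prime_iff_eq hz Nat.prime_three).1 h)
    have hc5 : Nat.Coprime z c5 := by
      rcases h8 with h | h <;> rw [h] <;> rcases n.c5_or with h' | h' <;> rw [h'] <;> decide
    have hzw' : z ∣ w := hc5.dvd_of_dvd_mul_left hzw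
    have hzc : z ∣ c := by
      rw [n.hc]
      exact Nat.dvd_gcd h7 (Int.natCast_dvd.1 hzs)
    have h9 := key2 z rfl hzc hzw'
    rcases h8 with h | h <;> rw [h] at h9 <;> revert h9 <;> decide
  · exact absurd (key 4 (e2.trans h1)) (by decide)
  · rcases hZpr.dvd_or_dvd (e1.trans h1) with h2 | h2
    · exact hZp h2
    · exact absurd (key 4 h2) (by decide)
  · rcases hZpr.dvd_or_dvd (e2.trans h1) with h2 | h2
    · exact absurd (key 3 h2) (by decide)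
    · exact absurd (key 2 (h2.trans ⟨s - 1, by ring⟩)) (by decide)
  · rcases hZpr.dvd_or_dvd (e2.trans h1) with h2 | h2
    · exact hZp h2
    · exact absurd (key 3 h2) (by decide)
  · rcases hZpr.dvd_or_dvd (e2.trans h1) with h2 | h2
    · exact hZp h2
    · exact absurd (key 2 h2) (by decide)
  · rcases hZpr.dvd_or_dvd (e2.trans h1) with h2 | h2
    · have h3 : Z ∣ 3 ^ 2 := by
        norm_num
        exact_mod_cast h2
      have := (Nat.prime_dvd_prime_iff_eq H.prime Nat.prime_three).1 (H.prime.dvd_of_dvd_pow h3)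
      omega
    · exact absurd (key 2 h2) (by decide)
  · have h3 : Z ∣ 5 ^ 2 := (dvd_mul_left Z z).trans h1
    have h4 := (Nat.prime_dvd_prime_iff_eq H.prime Nat.prime_five).1 (H.prime.dvd_of_dvd_pow h3)
    apply hZp
    rw [hp5, h4]

/-- **The primes of the radical.** -/
theorem no_kap (X : Ctx t p f L G K S t' v f' c c5 M) (hS : BigS t') {w : ℕ}
    (hw : (sg t (p ^ f) - 1).natAbs = c * w) {r : ℕ} (hr : r.Prime) (hrM : r ∣ M) (h3 : 3 ≤ cls t' (v ^ f') r)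
    (hAn : An t' (cls t' (v ^ f') r)) {z : ℕ} (hz : z.Prime) (hzK : z ∣ Nat.card K) (hzw : z ∣ c5 * w) : z = v := by
  by_contra hzv
  have h := X.h
  have hF := X.hF
  have hq := F1.LS.q_three h X.p2
  obtain ⟨z6, H6⟩ := exists_in h hq (i := 6) (by norm_num) (X.t6.mem_iff.2 (by norm_num))
  have hz6S := X.dvd6 hS H6
  have H5 := X.in5 hr hrM
  have hzs := X.n.dvd_s hw hz hzw
  have hne : z6 ≠ z := by
    rintro rfl
    have h1 : cls t (p ^ f) z6 = 6 := H6.cls_eq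
    have h2 := (ZMod.intCast_zmod_eq_zero_iff_dvd _ z6).2 hzs
    push_cast at h2
    have h3 : cls t (p ^ f) z6 = 1 := cls_one_iff.2 (by linear_combination h2)
    omega
  obtain ⟨h1, h2, h4⟩ := hF.k_an hS hz hzv hzK H6.prime H6.ne_two hne hz6S (X.not_adj6 hw hz hzw H6)
  exact h.not_adj_S H5 H6 X.t6.n56 (adj_same' hF.cla hF.prime hF.is hr H6.prime H5.ne_two H6.ne_two
    (H5.ne H6 (by norm_num)) (F1.Frm.ne_v_of_reg hF hr h3) h1 (X.good5 hr hrM).2 hz6S (an_unique hF.cla hAn h4))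

/-- **The decomposition of the order of the torus of class five.** -/
theorem fac (X : Ctx t p f L G K S t' v f' c c5 M) (hS : BigS t') {w : ℕ}
    (hw : (sg t (p ^ f) - 1).natAbs = c * w) {r : ℕ} (hr : r.Prime) (hrM : r ∣ M) (h3 : 3 ≤ cls t' (v ^ f') r)
    (hAn : An t' (cls t' (v ^ f') r)) : ∃ κ h E' : ℕ, c5 * w = κ * h * E' ∧ Kp v κ c5 w ∧ h ∣ outB t' v f' ∧
      ∃ x : S, orderOf x = M * E' := by
  have n := X.n
  have hM0 := n.M_pos
  have hc0 : 0 < c := by rcases n.c_or with h | h <;> omega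
  obtain ⟨g, hg⟩ := X.eltA5
  have hg' : orderOf g = M * (c5 * w) := by
    apply Nat.eq_of_mul_eq_mul_right hc0
    rw [hg, ← n.hM, Int.natAbs_mul, Int.natAbs_mul, Int.natAbs_natCast, Int.natAbs_natCast, hw]
    ring
  obtain ⟨κ, h, E, hE, hκ, hh, y, hy⟩ := order_fac2 (K := K) (S := S) g
  rw [hg'] at hE
  have hgood : ∀ z : ℕ, z.Prime → z ∣ M → ¬ z ∣ Nat.card K * S.index := fun z hz hzM => (X.good5 hz hzM).1
  have hcκ : Nat.Coprime M κ := Nat.coprime_of_dvd fun z hz hzM hzκ =>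
    hgood z hz hzM ((hzκ.trans hκ).mul_right _)
  have hch : Nat.Coprime M h := Nat.coprime_of_dvd fun z hz hzM hzh =>
    hgood z hz hzM ((hzh.trans hh).mul_left _)
  have hME : M ∣ E := by
    have h1 : M ∣ κ * h * E := by
      rw [← hE]
      exact Dvd.intro _ rfl
    exact (Nat.Coprime.mul_right hcκ hch).dvd_of_dvd_mul_left h1
  obtain ⟨E', rfl⟩ := hME
  have h1 : c5 * w = κ * h * E' := by
    apply Nat.eq_of_mul_eq_mul_left hM0
    rw [hE]
    ring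
  have hκw : κ ∣ c5 * w := by
    rw [h1, mul_assoc]
    exact Dvd.intro _ rfl
  refine ⟨κ, h, E', h1, ⟨fun z hz hzκ => ?_, hκw⟩, ?_, y, hy⟩
  · exact X.no_kap hS hw hr hrM h3 hAn hz (hzκ.trans hκ) (hzκ.trans hκw)
  · exact (hh.trans X.hF.index_dvd_out).trans (out_dvd hS X.hF.center X.hF.prime X.hF.is)

end Ctx

/-- the linear and unitary groups: the quotient -/
theorem lin_q {m a g P : ℕ} {T : ℕ} (ha : 0 < a) (hg : g * a ∣ a * P) (hT : T = (a * P) / (a * g)) : T * g = P := by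
  obtain ⟨k, hk⟩ := hg
  have h1 : P = g * k := by
    apply Nat.eq_of_mul_eq_mul_left ha
    rw [hk]
    ring
  rw [hT, h1]
  rcases Nat.eq_zero_or_pos g with h | h
  · rw [h]
    simp
  · rw [show a * (g * k) = (a * g) * k by ring, Nat.mul_div_cancel_left _ (Nat.mul_pos ha h)]
    ring

/-- the size -/
theorem size_lin {w c5 κ h E' g f' : ℕ} (h5 : 0 < c5) (e : c5 * w = κ * h * E') (hh : h ∣ 2 * g * f')
    (hE : E' * g ∣ c5) : w ∣ 2 * κ * f' := by
  have h1 : c5 * w ∣ c5 * (2 * κ * f') := by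
    rw [e]
    calc κ * h * E' ∣ κ * (2 * g * f') * E' := Nat.mul_dvd_mul_right (Nat.mul_dvd_mul_left _ hh) _
      _ = (E' * g) * (2 * κ * f') := by ring
      _ ∣ c5 * (2 * κ * f') := Nat.mul_dvd_mul_right hE _
  exact Nat.dvd_of_mul_dvd_mul_left h5 h1

/-- **The zero cases.** -/
theorem Ctx.no_zero (X : Ctx t p f L G K S t' v f' c c5 M) (hS : BigS t') (hqp : p ^ f = p) (hq11 : 11 ≤ p ^ f)
    (hq41 : c5 = 5 → 41 ≤ p ^ f)
    {r e : ℕ} (hr : r.Prime) (hrM : r ∣ M) (h3 : 3 ≤ cls t' (v ^ f') r) (hAn : An t' (cls t' (v ^ f') r))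
    (hub : ∀ x : S, r ∣ orderOf x → orderOf x ∣ M * e)
    (hcase :
      (∃ m, t' = .psl m ∧ 4 ≤ m ∧ (((v ^ f' : ℕ) : ℤ) - 1) *
        (sg t (p ^ f) ^ 4 + sg t (p ^ f) ^ 3 + sg t (p ^ f) ^ 2 + sg t (p ^ f) + 1) = ((v ^ f' : ℕ) : ℤ) ^ m - 1 ∧
          e ∣ c5) ∨
      (∃ m, t' = .psu m ∧ 4 ≤ m ∧ m % 2 = 1 ∧ (((v ^ f' : ℕ) : ℤ) + 1) *
        (sg t (p ^ f) ^ 4 + sg t (p ^ f) ^ 3 + sg t (p ^ f) ^ 2 + sg t (p ^ f) + 1) = ((v ^ f' : ℕ) : ℤ) ^ m + 1 ∧
          e ∣ c5) ∨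
      (∃ m, t' = .psu m ∧ 4 ≤ m ∧ m % 2 = 0 ∧ v ^ f' = 5 ∧ c5 = 5 ∧ (5 : ℤ) ^ (m - 1) + 1 = 6 * M ∧ e ∣ 6) ∨
      (∃ k, (t' = .psp k ∨ t' = .oodd k ∨ t' = .oplus (k + 1)) ∧ 3 ≤ k ∧ ((v ^ f' : ℕ) : ℤ) ^ k + 1 =
        2 * (sg t (p ^ f) ^ 4 + sg t (p ^ f) ^ 3 + sg t (p ^ f) ^ 2 + sg t (p ^ f) + 1) ∧ e ∣ 2 * c5)) : False := by
  have n := X.n
  have hF := X.hF
  have hv := hF.prime
  have hf1 : 1 ≤ f' := by
    have := hF.f_ne
    omega
  have hM0 := n.M_pos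
  have h50 : 0 < c5 := by rcases n.c5_or with h | h <;> omega
  obtain ⟨w, hw⟩ : ∃ w, (sg t (p ^ f) - 1).natAbs = c * w := Int.natCast_dvd.1 n.c_dvd
  obtain ⟨κ, h, E', e1, hκ, hh, x, hx⟩ := X.fac hS hw hr hrM h3 hAn
  have hTF := top_facts_all hF.cla hv hF.is
  have hrx : r ∣ orderOf x := by
    rw [hx]
    exact hrM.mul_right _
  have hrv : ¬ r ∣ v := fun hd => F1.Frm.ne_v_of_reg hF hr h3 ((Nat.prime_dvd_prime_iff_eq hr hv).1 hd)
  have hu2 : 2 ≤ v ^ f' := hv.two_le.trans (Nat.le_self_pow (by omega) v)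
  have hphi := n.phi
  have huq : v ^ f' ≠ p ^ f := by
    intro he
    have h1 : v ∣ p ^ f := by
      rw [← he]
      exact dvd_pow_self v (by omega)
    exact X.vp ((Nat.prime_dvd_prime_iff_eq hv X.h.prime).1 (hv.dvd_of_dvd_pow h1))
  obtain ⟨s, hs⟩ : ∃ s, s = sg t (p ^ f) := ⟨_, rfl⟩
  rw [← hs] at hcase hw n hphi
  obtain ⟨U, hU⟩ : ∃ U, U = v ^ f' := ⟨_, rfl⟩
  rcases hcase with ⟨m, ht, hm, hc, -⟩ | ⟨m, ht, hm, hmo, hc, -⟩ | ⟨m, ht, hm, hme, hu5, hc5, hc, -⟩ | ⟨k, ht, hk, hc, he⟩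
  · -- `psl m`
    subst ht
    have hcm : cls (.psl m) (v ^ f') r = m := hAn
    have h1 := hTF.ub r hr hrv (by rw [hcm]; exact ⟨by omega, Or.inl rfl⟩) x hrx
    rw [hcm, hx] at h1
    rw [← hU] at h1 hc hu2
    have hcN : U ^ m - 1 = (U - 1) * (c5 * M) := by
      zify [show 1 ≤ U by omega, Nat.one_le_pow m U (by omega)]
      rw [hphi, hc]
    have hT : ttor (.psl m) U m = ((U - 1) * (c5 * M)) / ((U - 1) * Nat.gcd m (U - 1)) := by
      rw [← hcN, ttor, if_pos rfl]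
    have e0 : ((U : ℤ) - 1).natAbs = U - 1 := by omega
    have hgd := gcd_mul_dvd_ua (s := (U : ℤ)) (n := m) e0
    rw [ua_plus (by omega), hcN] at hgd
    have hTg := lin_q (m := m) (by omega) hgd hT
    have hE : E' * Nat.gcd m (U - 1) ∣ c5 := by
      have h2 := Nat.mul_dvd_mul_right h1 (Nat.gcd m (U - 1))
      rw [hTg, mul_assoc, mul_comm c5 M] at h2
      exact Nat.dvd_of_mul_dvd_mul_left hM0 h2
    have hh' : h ∣ 2 * Nat.gcd m (U - 1) * f' := by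
      rw [hU]
      exact hh
    have hd := size_lin h50 e1 hh' hE
    rcases Nat.lt_or_ge 4 m with h5 | h5
    · exact zG n hv hf1 hU (by rw [hU]; exact huq) hw (Or.inl rfl) h5 hc hκ hd
    · obtain rfl : m = 4 := by omega
      exact zG4 n hv hf1 hU hw hc hκ hd
  · -- `psu m`, `m` odd
    subst ht
    have hcm : cls (.psu m) (v ^ f') r = m := by
      have h1 : _ % 2 = 1 ∧ (_ = m ∨ _ + 1 = m) := hAn
      omega
    have h1 := hTF.ub r hr hrv (by rw [hcm]; exact ⟨by omega, Or.inl rfl⟩) x hrx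
    rw [hcm, hx] at h1
    rw [← hU] at h1 hc hu2
    have hcN : U ^ m + 1 = (U + 1) * (c5 * M) := by
      zify
      rw [hphi, hc]
    have hT : ttor (.psu m) U m = ((U + 1) * (c5 * M)) / ((U + 1) * Nat.gcd m (U + 1)) := by
      rw [← hcN, ttor, if_pos rfl, if_neg (by omega)]
    have e0 : (-(U : ℤ) - 1).natAbs = U + 1 := by omega
    have hgd := gcd_mul_dvd_ua (s := -(U : ℤ)) (n := m) e0
    rw [ua_minus_odd (Nat.odd_iff.2 hmo), hcN] at hgd
    have hTg := lin_q (m := m) (by omega) hgd hT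
    have hE : E' * Nat.gcd m (U + 1) ∣ c5 := by
      have h2 := Nat.mul_dvd_mul_right h1 (Nat.gcd m (U + 1))
      rw [hTg, mul_assoc, mul_comm c5 M] at h2
      exact Nat.dvd_of_mul_dvd_mul_left hM0 h2
    have hh' : h ∣ 2 * Nat.gcd m (U + 1) * f' := by
      rw [hU]
      exact hh
    have hd := size_lin h50 e1 hh' hE
    refine zG n hv hf1 hU (by rw [hU]; exact huq) hw (y := -(U : ℤ)) (m := m) (Or.inr ⟨rfl, hmo⟩) (by omega) ?_ hκ hd
    rw [Odd.neg_pow (Nat.odd_iff.2 hmo)]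
    linear_combination -hc
  · -- `psu m`, `m` even, `u = 5`
    subst ht
    have hv5 : v = 5 ∧ f' = 1 := (Nat.prime_five.pow_eq_iff).1 hu5
    obtain ⟨rfl, rfl⟩ := hv5
    have hcm : cls (.psu m) (5 ^ 1) r = m - 1 := by
      have h1 : _ % 2 = 1 ∧ (_ = m ∨ _ + 1 = m) := hAn
      omega
    have h1 := hTF.ub r hr hrv (by rw [hcm]; exact ⟨by omega, Or.inr (by omega)⟩) x hrx
    rw [hcm, hx] at h1
    have hcN : 5 ^ (m - 1) + 1 = 6 * M := by exact_mod_cast hc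
    have hT : ttor (.psu m) (5 ^ 1) (m - 1) = (6 * M) / Nat.gcd m 6 := by
      rw [← hcN, ttor, if_neg (by omega), if_pos hme]
      rfl
    have hTg : ttor (.psu m) (5 ^ 1) (m - 1) * Nat.gcd m 6 = 6 * M := by
      rw [hT]
      exact Nat.div_mul_cancel ((Nat.gcd_dvd_right m 6).mul_right _)
    have hE : E' * Nat.gcd m 6 ∣ 6 := by
      have h2 := Nat.mul_dvd_mul_right h1 (Nat.gcd m 6)
      rw [hTg, mul_assoc, mul_comm 6 M] at h2
      exact Nat.dvd_of_mul_dvd_mul_left hM0 h2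
    have hh' : h ∣ 2 * Nat.gcd m 6 * 1 := hh
    have hd : 5 * w ∣ 72 * κ := by
      rw [hc5] at e1
      rw [e1]
      calc κ * h * E' ∣ κ * (2 * Nat.gcd m 6 * 1) * E' := Nat.mul_dvd_mul_right (Nat.mul_dvd_mul_left _ hh') _
        _ = (E' * Nat.gcd m 6) * (2 * κ) := by ring
        _ ∣ 6 * (2 * κ) := Nat.mul_dvd_mul_right hE _
        _ ∣ 72 * κ := ⟨6, by ring⟩
    refine zF n (m := m) hw hc5 ?_ hκ hd
    rw [← hphi, hc5]
    have h5 : (5 : ℤ) ^ m = 5 * 5 ^ (m - 1) := by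
      rw [← pow_succ', show m - 1 + 1 = m by omega]
    rw [h5]
    push_cast
    linear_combination -5 * hc
  · -- `psp k`, `oodd k`, `oplus (k + 1)`
    have hE : E' ∣ e := by
      have h1 := hub x hrx
      rw [hx] at h1
      exact Nat.dvd_of_mul_dvd_mul_left hM0 h1
    have hout : outB t' v f' ∣ 24 * f' := by
      rcases ht with rfl | rfl | rfl
      · exact ⟨12, by change _ = 2 * f' * 12; ring⟩
      · exact ⟨12, by change _ = 2 * f' * 12; ring⟩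
      · change (if k + 1 = 4 then 24 * f' else 8 * f') ∣ _
        split_ifs
        · exact dvd_rfl
        · exact ⟨3, by ring⟩
    have hd : w ∣ 48 * κ * f' := by
      have h1 : c5 * w ∣ c5 * (48 * κ * f') := by
        rw [e1]
        calc κ * h * E' ∣ κ * (24 * f') * (2 * c5) :=
              Nat.mul_dvd_mul (Nat.mul_dvd_mul_left _ (hh.trans hout)) (hE.trans he)
          _ = c5 * (48 * κ * f') := by ring
      exact Nat.dvd_of_mul_dvd_mul_left h50 h1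
    exact zP n hv hf1 rfl hw hk hc hκ hd

end Cfsg.Agent.R2.Spec.X7.N6
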