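import Cfsg.Agent.R2.Spec.X7.N6.Top
import Cfsg.Agent.R2.Spec.X7.N6.FinT
import Cfsg.Agent.R2.Spec.X7.N6.Z

/-!
# Box X7, `n = 6` (helper15, S3435): no prime of class five is nonadjacent to the characteristic
-/

set_option autoImplicit false
set_option linter.unusedSectionVars false
set_option linter.unusedVariables false

namespace Cfsg.Agent.R2.Spec.X7.N6

open Subgroup Cfsg
open Cfsg.Agent.H426.LieFam Cfsg.Agent.R2.Spec Cfsg.Agent.R2.Spec.P1 Cfsg.Agent.R2.Spec.F1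
open Cfsg.Agent.H72 Cfsg.Agent.H420.QR Cfsg.Agent.R2.Spec.E

universe u w

variable {t : Fam} {p f : ℕ} {L : Type w} [Group L] [Finite L] {G : Type u} [Group G] [Finite G]
variable {K : Subgroup G} [K.Normal] {S : Subgroup (G ⧸ K)} [S.Normal] {t' : Fam} {v f' : ℕ} {c c5 M : ℕ}

/-- **The top case.** -/
theorem Ctx.no_top (X : Ctx t p f L G K S t' v f' c c5 M) (hS : BigS t') {r : ℕ} (hr : r.Prime) (hrM : r ∣ M)
    (hna : ¬ ∃ g : S, orderOf g = v * r) : False := by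
  obtain ⟨h3, htop, e, hT, he, hub⟩ := X.top_data hS hr hrM hna
  have hu : 2 ≤ v ^ f' := (Nat.one_lt_pow X.hF.f_ne X.hF.prime.one_lt)
  have hup : ¬ p ∣ v ^ f' := fun h =>
    X.vp ((Nat.prime_dvd_prime_iff_eq X.h.prime X.hF.prime).1 (X.h.prime.dvd_of_dvd_pow h)).symm
  by_cases hsm : p ^ f < 11 ∨ (c5 = 5 ∧ p ^ f < 71)
  · refine fin_T X.n hsm hT he hu hup (t := t') ?_ htop rfl
    have h1 := X.rkB hS
    cases t' with
    | psl m => exact Or.inl ⟨m, h1, Or.inl rfl⟩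
    | psu m => exact Or.inl ⟨m, h1, Or.inr (Or.inl rfl)⟩
    | psp m => exact Or.inr ⟨m, h1, Or.inl rfl⟩
    | oodd m => exact Or.inr ⟨m, h1, Or.inr rfl⟩
    | oplus m => exact Or.inl ⟨m, h1, Or.inr (Or.inr (Or.inl rfl))⟩
    | ominus m => exact Or.inl ⟨m, h1, Or.inr (Or.inr (Or.inr rfl))⟩
    | _ => exact h1.elim
  · rw [not_or, not_and] at hsm
    have h11 : 11 ≤ p ^ f := Nat.le_of_not_lt hsm.1
    have h71 : c5 = 5 → 71 ≤ p ^ f := fun h => Nat.le_of_not_lt (hsm.2 h)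
    have h41 : c5 = 5 → 41 ≤ p ^ f := fun h => le_trans (by norm_num) (h71 h)
    obtain ⟨hqp, hAn, hz⟩ := X.top_big hS h11 h41 (fun _ => h71) htop hT he
    exact X.no_zero hS hqp h11 h41 hr hrM h3 hAn hub hz

end Cfsg.Agent.R2.Spec.X7.N6
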