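import Cfsg.Agent.R2.Spec.X7.N6.Core

/-!
# Box X7, `n = 6` (helper15, S3435): large `q`, only the zero cases remain
-/

set_option autoImplicit false
set_option maxHeartbeats 4000000

namespace Cfsg.Agent.R2.Spec.X7.N6

variable {p q : ℕ} {s : ℤ} {c c5 M : ℕ}

/-- the kinds of pairs of tori -/
def Kind (c5 q u D g : ℕ) (β γ : ℤ) : Prop :=
  (|γ| * g ≤ u + 1 ∧ |β| ≤ u + 1 ∧ g ≤ D + 1 ∧ (D = 3 → c5 = 5 → 71 ≤ q)) ∨
  (|γ| * g ≤ 2 ∧ |β| ≤ 1) ∨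
  (4 ≤ D ∧ |γ| * g ≤ (u + 1) ^ 2 ∧ |β| ≤ u + 1 ∧ g ≤ 4)

lemma four_pow_ge {u : ℕ} (hu : 2 ≤ u) {D : ℕ} (hD : 3 ≤ D) : (D + 1) * u ^ 2 ≤ 4 * u ^ (D - 1) := by
  obtain ⟨k, rfl⟩ := Nat.exists_eq_add_of_le hD
  have h1 : 3 + k - 1 = 2 + k := by omega
  rw [h1, pow_add]
  have h2 : 3 + k + 1 ≤ 4 * u ^ k := by
    induction k with
    | zero => simp
    | succ k ih =>
      have h3 : 1 ≤ u ^ k := Nat.one_le_pow _ _ (by omega)
      have h4 := ih (by omega) (by omega)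
      rw [pow_succ]
      nlinarith
  calc (3 + k + 1) * u ^ 2 ≤ (4 * u ^ k) * u ^ 2 := Nat.mul_le_mul_right _ h2
    _ = 4 * (u ^ 2 * u ^ k) := by ring

lemma five_pow_ge {u : ℕ} (hu : 2 ≤ u) {D : ℕ} (hD : 4 ≤ D) : (D + 1) * u ^ 3 ≤ 5 * u ^ (D - 1) := by
  obtain ⟨k, rfl⟩ := Nat.exists_eq_add_of_le hD
  have h1 : 4 + k - 1 = 3 + k := by omega
  rw [h1, pow_add]
  have h2 : 4 + k + 1 ≤ 5 * u ^ k := by
    induction k with
    | zero => simp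
    | succ k ih =>
      have h3 : 1 ≤ u ^ k := Nat.one_le_pow _ _ (by omega)
      have h4 := ih (by omega) (by omega)
      rw [pow_succ]
      nlinarith
  calc (4 + k + 1) * u ^ 3 ≤ (5 * u ^ k) * u ^ 3 := Nat.mul_le_mul_right _ h2
    _ = 5 * (u ^ 3 * u ^ k) := by ring

/-- case (II) -/
lemma caseII {a Q : ℤ} (ha : 2 ≤ a) (hQ : 11 ≤ Q) (h1 : 2 * Q ^ 2 ≤ a) (h2 : (a - 1) * a ^ 2 ≤ 2 * (Q ^ 5 + 1)) : False := by
  have e1 : (2 * Q ^ 2) ^ 2 ≤ a ^ 2 := by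
    have : 0 ≤ 2 * Q ^ 2 := by positivity
    nlinarith
  have e2 : (2 * Q ^ 2 - 1) * (4 * Q ^ 4) ≤ (a - 1) * a ^ 2 := by
    have h3 : 0 ≤ 2 * Q ^ 2 - 1 := by nlinarith
    have h4 : (2 * Q ^ 2) ^ 2 = 4 * Q ^ 4 := by ring
    rw [h4] at e1
    have h5 : 0 ≤ a ^ 2 := sq_nonneg a
    calc (2 * Q ^ 2 - 1) * (4 * Q ^ 4) ≤ (2 * Q ^ 2 - 1) * a ^ 2 := by nlinarith
      _ ≤ (a - 1) * a ^ 2 := by nlinarith
  have e3 : 0 < Q ^ 4 := by positivity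
  have e4 : Q ^ 5 = Q * Q ^ 4 := by ring
  have e5 : Q ^ 2 * Q ^ 4 = Q ^ 6 := by ring
  have e6 : 121 ≤ Q ^ 2 := by nlinarith
  nlinarith [mul_pos (by linarith : (0 : ℤ) < Q) e3, mul_le_mul_of_nonneg_right (show Q * 11 ≤ Q ^ 2 by nlinarith) e3.le]

/-- case (III), the power `a ^ 3` -/
lemma caseIII4 {a Q : ℤ} (hQ : 11 ≤ Q) (h1 : 3 * Q ≤ a) (h2 : (a - 1) * a ^ 3 ≤ 5 * ((Q ^ 3 + 1) * (Q + 1))) : False := by
  have e0 : 0 ≤ 3 * Q := by linarith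
  have e1 : (3 * Q) ^ 3 ≤ a ^ 3 := pow_le_pow_left₀ e0 h1 3
  have e2 : (3 * Q - 1) * (3 * Q) ^ 3 ≤ (a - 1) * a ^ 3 := by
    have h3 : 0 ≤ 3 * Q - 1 := by linarith
    have h4 : 0 ≤ a ^ 3 := pow_nonneg (by linarith) 3
    calc (3 * Q - 1) * (3 * Q) ^ 3 ≤ (3 * Q - 1) * a ^ 3 := mul_le_mul_of_nonneg_left e1 h3
      _ ≤ (a - 1) * a ^ 3 := mul_le_mul_of_nonneg_right (by linarith) h4
  have e3 : 0 < Q ^ 3 := by positivity
  nlinarith [mul_le_mul_of_nonneg_right hQ e3.le]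

/-- case (III), the power `a ^ 2`, `c₅ = 1` -/
lemma caseIII3a {a Q : ℤ} (hQ : 11 ≤ Q) (h1 : 3 * Q ^ 2 - 7 ≤ 8 * a) (h2 : (a - 1) * a ^ 2 ≤ 4 * ((Q ^ 3 + 1) * (Q + 1))) :
    False := by
  have e0 : 4 * Q ≤ a := by nlinarith
  have e1 : 0 ≤ 3 * Q ^ 2 - 7 := by nlinarith
  have e2 : (3 * Q ^ 2 - 7) ^ 2 ≤ (8 * a) ^ 2 := pow_le_pow_left₀ e1 h1 2
  have e3 : (4 * Q - 1) * (3 * Q ^ 2 - 7) ^ 2 ≤ 64 * ((a - 1) * a ^ 2) := by
    have h3 : 0 ≤ 4 * Q - 1 := by linarith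
    calc (4 * Q - 1) * (3 * Q ^ 2 - 7) ^ 2 ≤ (4 * Q - 1) * (8 * a) ^ 2 := mul_le_mul_of_nonneg_left e2 h3
      _ ≤ (a - 1) * (8 * a) ^ 2 := mul_le_mul_of_nonneg_right (by linarith) (sq_nonneg _)
      _ = 64 * ((a - 1) * a ^ 2) := by ring
  obtain ⟨k, hk⟩ : ∃ k : ℤ, Q = 11 + k := ⟨Q - 11, by ring⟩
  have hk0 : 0 ≤ k := by linarith
  subst hk
  have : 0 < (4 * (11 + k) - 1) * (3 * (11 + k) ^ 2 - 7) ^ 2 - 64 * (4 * (((11 + k) ^ 3 + 1) * ((11 + k) + 1))) := by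
    ring_nf
    positivity
  linarith

/-- case (III), the power `a ^ 2`, `c₅ = 5` -/
lemma caseIII3b {a Q : ℤ} (hQ : 71 ≤ Q) (h1 : 2 * Q ^ 2 - 20 ≤ 21 * a) (h2 : (a - 1) * a ^ 2 ≤ 4 * ((Q ^ 3 + 1) * (Q + 1))) :
    False := by
  have e0 : 47 * Q ≤ 7 * (a - 1) := by nlinarith
  have e1 : 0 ≤ 2 * Q ^ 2 - 20 := by nlinarith
  have e2 : (2 * Q ^ 2 - 20) ^ 2 ≤ (21 * a) ^ 2 := pow_le_pow_left₀ e1 h1 2
  have e3 : (47 * Q) * (2 * Q ^ 2 - 20) ^ 2 ≤ 3087 * ((a - 1) * a ^ 2) := by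
    have h3 : 0 ≤ 47 * Q := by linarith
    calc (47 * Q) * (2 * Q ^ 2 - 20) ^ 2 ≤ (47 * Q) * (21 * a) ^ 2 := mul_le_mul_of_nonneg_left e2 h3
      _ ≤ (7 * (a - 1)) * (21 * a) ^ 2 := mul_le_mul_of_nonneg_right e0 (sq_nonneg _)
      _ = 3087 * ((a - 1) * a ^ 2) := by ring
  obtain ⟨k, hk⟩ : ∃ k : ℤ, Q = 71 + k := ⟨Q - 71, by ring⟩
  have hk0 : 0 ≤ k := by linarith
  subst hk
  have : 0 < (47 * (71 + k)) * (2 * (71 + k) ^ 2 - 20) ^ 2 - 3087 * (4 * (((71 + k) ^ 3 + 1) * ((71 + k) + 1))) := by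
    ring_nf
    positivity
  linarith

/-- case (I), kind A -/
lemma caseIA {a Kc P T g N : ℤ} (ha : 2 ≤ a) (hK : 3 ≤ Kc) (hg : 1 ≤ g) (hT0 : 0 ≤ T) (hP : a ^ 2 ≤ P) (hTup : T * g * (a - 1) ≤ P * a ^ 2)
    (hNlo : (a - 1) * P ≤ N * g) (hI : N * g ≤ Kc * (a + 1)) : T ≤ Kc * (Kc + 10) := by
  have e1 : (a - 1) * P ≤ Kc * (a + 1) := hNlo.trans hI
  have e2 : (a - 1) * a ^ 2 ≤ Kc * (a + 1) := le_trans (mul_le_mul_of_nonneg_left hP (by linarith)) e1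
  have e3 : a ^ 2 ≤ 3 * Kc := by
    have h1 : Kc * (a + 1) ≤ Kc * (3 * (a - 1)) := mul_le_mul_of_nonneg_left (by linarith) (by linarith)
    have h2 : (a - 1) * a ^ 2 ≤ (a - 1) * (3 * Kc) := by nlinarith
    exact le_of_mul_le_mul_left h2 (by linarith)
  have e4 : a ≤ Kc := by nlinarith
  have e5 : (T * g) * (a - 1) ^ 2 ≤ Kc * ((a + 10) * (a - 1) ^ 2) := by
    calc (T * g) * (a - 1) ^ 2 = (T * g * (a - 1)) * (a - 1) := by ring
      _ ≤ (P * a ^ 2) * (a - 1) := mul_le_mul_of_nonneg_right hTup (by linarith)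
      _ = ((a - 1) * P) * a ^ 2 := by ring
      _ ≤ (Kc * (a + 1)) * a ^ 2 := mul_le_mul_of_nonneg_right e1 (sq_nonneg _)
      _ = Kc * ((a + 1) * a ^ 2) := by ring
      _ ≤ Kc * ((a + 10) * (a - 1) ^ 2) := by
        refine mul_le_mul_of_nonneg_left ?_ (by linarith)
        nlinarith
  have e6 : T * g ≤ Kc * (a + 10) := by
    have h1 : (T * g) * (a - 1) ^ 2 ≤ (Kc * (a + 10)) * (a - 1) ^ 2 := by nlinarith
    exact le_of_mul_le_mul_right h1 (by nlinarith)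
  calc T ≤ T * g := by nlinarith
    _ ≤ Kc * (a + 10) := e6
    _ ≤ Kc * (Kc + 10) := mul_le_mul_of_nonneg_left (by linarith) (by linarith)

/-- case (I), kind C -/
lemma caseIC {a Kc P T g N : ℤ} (ha : 2 ≤ a) (hK : 3 ≤ Kc) (hg : 1 ≤ g) (hT0 : 0 ≤ T) (hP : a ^ 3 ≤ P) (hTup : T * g * (a - 1) ≤ P * a ^ 2)
    (hNlo : (a - 1) * P ≤ N * g) (hI : N * g ≤ Kc * (a + 1) ^ 2) : a ^ 2 - 3 * a ≤ Kc ∧ T ≤ Kc * (a + 4) ^ 2 := by
  have e1 : (a - 1) * P ≤ Kc * (a + 1) ^ 2 := hNlo.trans hI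
  have e2 : (a - 1) * a ^ 3 ≤ Kc * (a + 1) ^ 2 := le_trans (mul_le_mul_of_nonneg_left hP (by linarith)) e1
  constructor
  · by_contra hcon
    push Not at hcon
    have h1 : Kc * (a + 1) ^ 2 < (a ^ 2 - 3 * a) * (a + 1) ^ 2 := mul_lt_mul_of_pos_right hcon (by positivity)
    nlinarith
  · have e5 : (T * g) * (a - 1) ^ 2 ≤ (Kc * (a + 4) ^ 2) * (a - 1) ^ 2 := by
      calc (T * g) * (a - 1) ^ 2 = (T * g * (a - 1)) * (a - 1) := by ring
        _ ≤ (P * a ^ 2) * (a - 1) := mul_le_mul_of_nonneg_right hTup (by linarith)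
        _ = ((a - 1) * P) * a ^ 2 := by ring
        _ ≤ (Kc * (a + 1) ^ 2) * a ^ 2 := mul_le_mul_of_nonneg_right e1 (sq_nonneg _)
        _ = Kc * (((a + 1) * a) ^ 2) := by ring
        _ ≤ Kc * (((a + 4) * (a - 1)) ^ 2) := by
          refine mul_le_mul_of_nonneg_left ?_ (by linarith)
          exact pow_le_pow_left₀ (by positivity) (by nlinarith) 2
        _ = (Kc * (a + 4) ^ 2) * (a - 1) ^ 2 := by ring
    have e6 : T * g ≤ Kc * (a + 4) ^ 2 := le_of_mul_le_mul_right e5 (by nlinarith)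
    calc T ≤ T * g := by nlinarith
      _ ≤ Kc * (a + 4) ^ 2 := e6

lemma fin1 {Q m : ℤ} (hQ : 11 ≤ Q) (h1 : m ≤ 16 * (1 * (Q + 1) + 1)) (h2 : Q ^ 3 * (Q - 1) < 1 * m) : False := by
  obtain ⟨k, hk⟩ : ∃ k : ℤ, Q = 11 + k := ⟨Q - 11, by ring⟩
  have hk0 : 0 ≤ k := by linarith
  subst hk
  have : 0 < (11 + k) ^ 3 * (11 + k - 1) - 16 * (1 * (11 + k + 1) + 1) := by
    ring_nf
    positivity
  linarith

lemma fin2 {Q m : ℤ} (hQ : 41 ≤ Q) (h1 : m ≤ 16 * (5 * (Q + 1) + 1)) (h2 : Q ^ 3 * (Q - 1) < 5 * m) : False := by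
  obtain ⟨k, hk⟩ : ∃ k : ℤ, Q = 41 + k := ⟨Q - 41, by ring⟩
  have hk0 : 0 ≤ k := by linarith
  subst hk
  have : 0 < (41 + k) ^ 3 * (41 + k - 1) - 5 * (16 * (5 * (41 + k + 1) + 1)) := by
    ring_nf
    positivity
  linarith

lemma fin3 {Q m : ℤ} (hQ : 11 ≤ Q) (h1 : m < 2 * ((Q + 1) ^ 2 + 1)) (h2 : Q ^ 3 * (Q - 1) < 1 * m) : False := by
  obtain ⟨k, hk⟩ : ∃ k : ℤ, Q = 11 + k := ⟨Q - 11, by ring⟩
  have hk0 : 0 ≤ k := by linarith
  subst hk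
  have : 0 < (11 + k) ^ 3 * (11 + k - 1) - 2 * ((11 + k + 1) ^ 2 + 1) := by
    ring_nf
    positivity
  linarith

lemma fin4 {Q m : ℤ} (hQ : 41 ≤ Q) (h1 : m < 2 * ((Q + 1) ^ 2 + 1)) (h2 : Q ^ 3 * (Q - 1) < 5 * m) : False := by
  obtain ⟨k, hk⟩ : ∃ k : ℤ, Q = 41 + k := ⟨Q - 41, by ring⟩
  have hk0 : 0 ≤ k := by linarith
  subst hk
  have : 0 < (41 + k) ^ 3 * (41 + k - 1) - 5 * (2 * ((41 + k + 1) ^ 2 + 1)) := by
    ring_nf
    positivity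
  linarith

lemma fin5 {Q m a : ℤ} (hQ : 11 ≤ Q) (h1 : m < 2 * (a + 1) * (Q + 1)) (h2 : Q ^ 3 * (Q - 1) < 1 * m) : 2 * Q ^ 2 ≤ a := by
  by_contra hcon
  push Not at hcon
  have h5 : a + 1 ≤ 2 * Q ^ 2 := hcon
  have h6 : 2 * (a + 1) * (Q + 1) ≤ 2 * (2 * Q ^ 2) * (Q + 1) := by
    have := mul_le_mul_of_nonneg_right h5 (show (0 : ℤ) ≤ Q + 1 by linarith)
    linarith
  obtain ⟨k, hk⟩ : ∃ k : ℤ, Q = 11 + k := ⟨Q - 11, by ring⟩
  have hk0 : 0 ≤ k := by linarith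
  subst hk
  have : 0 < (11 + k) ^ 3 * (11 + k - 1) - 2 * (2 * (11 + k) ^ 2) * (11 + k + 1) := by
    ring_nf
    positivity
  linarith

lemma fin6 {Q m a : ℤ} (hQ : 41 ≤ Q) (h1 : m < 2 * (a + 1) * (Q + 1)) (h2 : Q ^ 3 * (Q - 1) < 5 * m) : 2 * Q ^ 2 ≤ a := by
  by_contra hcon
  push Not at hcon
  have h5 : a + 1 ≤ 2 * Q ^ 2 := hcon
  have h6 : 2 * (a + 1) * (Q + 1) ≤ 2 * (2 * Q ^ 2) * (Q + 1) := by
    have := mul_le_mul_of_nonneg_right h5 (show (0 : ℤ) ≤ Q + 1 by linarith)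
    linarith
  obtain ⟨k, hk⟩ : ∃ k : ℤ, Q = 41 + k := ⟨Q - 41, by ring⟩
  have hk0 : 0 ≤ k := by linarith
  subst hk
  have : 0 < (41 + k) ^ 3 * (41 + k - 1) - 5 * (2 * (2 * (41 + k) ^ 2) * (41 + k + 1)) := by
    ring_nf
    positivity
  linarith

/-- **Large `q`** : only the zero cases remain. -/
theorem SixN.big_zero (h : SixN p q s c c5 M) (hbig : (c5 = 1 ∧ 11 ≤ q) ∨ (c5 = 5 ∧ 41 ≤ q)) {u D g T N e : ℕ}
    {α β γ : ℤ} (hu : 2 ≤ u) (hD : 3 ≤ D) (hg : 1 ≤ g) (hTlo : (u - 1) * u ^ (D - 1) ≤ T * g)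
    (hTup : T * g * (u - 1) ≤ u ^ (D + 1)) (hNlo : (u - 1) * u ^ (D - 1) ≤ N * g) (hk : Kind c5 q u D g β γ)
    (hT : T = M * e) (he : (c * e : ℤ) ∣ c5 * (s - 1)) (hN : Up p s c N) (hcop : Nat.Coprime N M)
    (hrel : α * T + β * N = γ) : Zero p s c c5 N e α β γ := by
  have hq11 : 11 ≤ q := by rcases hbig with h1 | h1 <;> omega
  have hQ : (11 : ℤ) ≤ q := by exact_mod_cast hq11
  have hlo := h.lo
  have hM0 : (0 : ℤ) < M := by exact_mod_cast h.M_pos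
  have he0 : 1 ≤ e := by
    rcases Nat.eq_zero_or_pos e with h0 | h0
    · exfalso
      rw [h0] at he
      simp only [Nat.cast_zero, mul_zero, zero_dvd_iff, mul_eq_zero] at he
      rcases he with h1 | h1
      · rcases h.c5_or with h2 | h2 <;> rw [h2] at h1 <;> norm_num at h1
      · exact h.s_ne h1
    · exact h0
  have hMT : (M : ℤ) ≤ T := by
    rw [hT]
    push_cast
    nlinarith [show (1 : ℤ) ≤ e by exact_mod_cast he0]
  have ha : (2 : ℤ) ≤ u := by exact_mod_cast hu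
  have hg' : (1 : ℤ) ≤ g := by exact_mod_cast hg
  -- integers
  have hucast : ((u - 1 : ℕ) : ℤ) = (u : ℤ) - 1 := by
    rw [Nat.cast_sub (by omega)]
    norm_num
  have hTlo' : ((u : ℤ) - 1) * (u : ℤ) ^ (D - 1) ≤ T * g := by
    rw [← hucast]
    exact_mod_cast hTlo
  have hNlo' : ((u : ℤ) - 1) * (u : ℤ) ^ (D - 1) ≤ N * g := by
    rw [← hucast]
    exact_mod_cast hNlo
  have hTup' : (T : ℤ) * g * ((u : ℤ) - 1) ≤ (u : ℤ) ^ (D - 1) * (u : ℤ) ^ 2 := by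
    have h1 : (u : ℤ) ^ (D - 1) * (u : ℤ) ^ 2 = (u : ℤ) ^ (D + 1) := by
      rw [← pow_add]
      congr 1
      omega
    rw [h1, ← hucast]
    exact_mod_cast hTup
  have hP2 : (u : ℤ) ^ 2 ≤ (u : ℤ) ^ (D - 1) := pow_le_pow_right₀ (by linarith) (by omega)
  have hP0 : (0 : ℤ) < (u : ℤ) ^ (D - 1) := by positivity
  have hTN : (T : ℤ) ≤ 4 * N := by
    have h1 : (T : ℤ) * g * ((u : ℤ) - 1) ≤ (4 * N * g) * ((u : ℤ) - 1) := by
      calc (T : ℤ) * g * ((u : ℤ) - 1) ≤ (u : ℤ) ^ (D - 1) * (u : ℤ) ^ 2 := hTup'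
        _ ≤ (u : ℤ) ^ (D - 1) * (4 * ((u : ℤ) - 1) ^ 2) := mul_le_mul_of_nonneg_left (by nlinarith) hP0.le
        _ = 4 * (((u : ℤ) - 1) * (u : ℤ) ^ (D - 1)) * ((u : ℤ) - 1) := by ring
        _ ≤ 4 * (N * g) * ((u : ℤ) - 1) := by
          refine mul_le_mul_of_nonneg_right ?_ (by linarith)
          linarith
        _ = (4 * N * g) * ((u : ℤ) - 1) := by ring
    have h2 := le_of_mul_le_mul_right h1 (by linarith)
    have h3 : (T : ℤ) * g ≤ (4 * N) * g := by linarith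
    exact le_of_mul_le_mul_right h3 (by linarith)
  -- the hypothesis of the bracket
  have h4M : 4 * (q : ℤ) ^ 3 < M := by
    rcases hbig with ⟨h1, h2⟩ | ⟨h1, h2⟩
    · rw [h1] at hlo
      push_cast at hlo
      have : 0 < (q : ℤ) ^ 3 := by positivity
      nlinarith
    · rw [h1] at hlo
      push_cast at hlo
      have h2' : (41 : ℤ) ≤ q := by exact_mod_cast h2
      have : 0 < (q : ℤ) ^ 3 := by positivity
      nlinarith
  have hNq : q ^ 3 < N := by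
    have : (q : ℤ) ^ 3 < N := by linarith
    exact_mod_cast this
  have hup : (c : ℤ) * T ≤ (q : ℤ) ^ 5 + 1 := by
    have h1 : ((c : ℤ) * e * M) ∣ s ^ 5 - 1 := by
      rw [← h.hM]
      have : (M : ℤ) * (c5 * (s - 1)) = (c5 * (s - 1)) * M := by ring
      rw [this]
      exact mul_dvd_mul_right he _
    have hne : s ^ 5 - 1 ≠ 0 := by
      rw [← h.hM]
      refine mul_ne_zero hM0.ne' (mul_ne_zero ?_ h.s_ne)
      rcases h.c5_or with h2 | h2 <;> rw [h2] <;> norm_num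
    have h2 := Int.le_of_dvd (abs_pos.mpr hne) ((dvd_abs _ _).mpr h1)
    have h3 : |s ^ 5 - 1| ≤ (q : ℤ) ^ 5 + 1 := by
      have := abs_sub (s ^ 5) 1
      rw [abs_pow, h.abs_s] at this
      simpa using this
    rw [hT]
    push_cast
    linarith
  have hT2 : 2 * (T : ℤ) ≤ (q : ℤ) ^ 5 + 1 := by
    have : (2 : ℤ) ≤ c := by rcases h.c_or with h1 | h1 <;> rw [h1] <;> norm_num
    have hT0 : (0 : ℤ) ≤ T := by positivity
    nlinarith
  have hrel' : α * (M * e : ℕ) + β * N = γ := by rw [← hT]; exact hrel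
  have hMc : (q : ℤ) ^ 3 * (q - 1) < c5 * M := by nlinarith
  rcases h.bracket' hN hcop hNq (fun h3 => by omega) hrel' with hI | hII | hIII | hZ
  · -- (I)
    exfalso
    have hIg : (N : ℤ) * g ≤ 2 * (c5 * (q + 1) + 1) * (|γ| * g) := by nlinarith
    have hK3 : (3 : ℤ) ≤ 2 * (c5 * (q + 1) + 1) := by
      rcases h.c5_or with h2 | h2 <;> rw [h2] <;> push_cast <;> linarith
    have hT0 : (0 : ℤ) ≤ T := by positivity
    rcases hk with ⟨k1, k2, k3, k4⟩ | ⟨k1, k2⟩ | ⟨k0, k1, k2, k3⟩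
    · have h1 := caseIA ha hK3 hg' hT0 hP2 hTup' hNlo' (hIg.trans (mul_le_mul_of_nonneg_left k1 (by linarith)))
      rcases hbig with ⟨h2, h3⟩ | ⟨h2, h3⟩
      · rw [h2] at h1 hMc
        push_cast at h1 hMc
        obtain ⟨k, hk⟩ : ∃ k : ℤ, (q : ℤ) = 11 + k := ⟨q - 11, by ring⟩
        have hk0 : 0 ≤ k := by linarith
        rw [hk] at h1 hMc
        have : 0 < (11 + k) ^ 3 * (11 + k - 1) - 2 * (1 * (11 + k + 1) + 1) * (2 * (1 * (11 + k + 1) + 1) + 10) := by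
          ring_nf
          positivity
        linarith
      · rw [h2] at h1 hMc
        push_cast at h1 hMc
        have h3' : (41 : ℤ) ≤ q := by exact_mod_cast h3
        obtain ⟨k, hk⟩ : ∃ k : ℤ, (q : ℤ) = 41 + k := ⟨q - 41, by ring⟩
        have hk0 : 0 ≤ k := by linarith
        rw [hk] at h1 hMc
        have : 0 < (41 + k) ^ 3 * (41 + k - 1) - 5 * (2 * (5 * (41 + k + 1) + 1) * (2 * (5 * (41 + k + 1) + 1) + 10)) := by
          ring_nf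
          positivity
        linarith
    · have h1 : (T : ℤ) ≤ 16 * (c5 * (q + 1) + 1) := by
        have h5 : (N : ℤ) * g ≤ 2 * (c5 * (q + 1) + 1) * 2 := hIg.trans (mul_le_mul_of_nonneg_left k1 (by linarith))
        have h6 : (N : ℤ) ≤ N * g := by
          have : (0 : ℤ) ≤ N := by positivity
          nlinarith
        linarith
      rcases hbig with ⟨h2, h3⟩ | ⟨h2, h3⟩
      · rw [h2] at h1 hMc
        push_cast at h1 hMc
        exact fin1 hQ (hMT.trans h1) hMc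
      · rw [h2] at h1 hMc
        push_cast at h1 hMc
        exact fin2 (by exact_mod_cast h3) (hMT.trans h1) hMc
    · have hP3 : (u : ℤ) ^ 3 ≤ (u : ℤ) ^ (D - 1) := pow_le_pow_right₀ (by linarith) (by omega)
      obtain ⟨h0, h1⟩ := caseIC ha hK3 hg' hT0 hP3 hTup' hNlo' (hIg.trans (mul_le_mul_of_nonneg_left k1 (by linarith)))
      rcases hbig with ⟨h2, h3⟩ | ⟨h2, h3⟩
      · rw [h2] at h0 h1 hMc
        push_cast at h0 h1 hMc
        have h5 : (u : ℤ) ≤ q := by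
          by_contra hcon
          push Not at hcon
          have h6 : (q : ℤ) + 1 ≤ u := hcon
          nlinarith
        have h6 : (T : ℤ) ≤ 2 * (1 * (q + 1) + 1) * (q + 4) ^ 2 := by
          refine h1.trans (mul_le_mul_of_nonneg_left ?_ (by linarith))
          exact pow_le_pow_left₀ (by linarith) (by linarith) 2
        obtain ⟨k, hk⟩ : ∃ k : ℤ, (q : ℤ) = 11 + k := ⟨q - 11, by ring⟩
        have hk0 : 0 ≤ k := by linarith
        rw [hk] at h6 hMc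
        have : 0 < (11 + k) ^ 3 * (11 + k - 1) - 2 * (1 * (11 + k + 1) + 1) * (11 + k + 4) ^ 2 := by
          ring_nf
          positivity
        linarith
      · rw [h2] at h0 h1 hMc
        push_cast at h0 h1 hMc
        have h3' : (41 : ℤ) ≤ q := by exact_mod_cast h3
        have h5 : 2 * (u : ℤ) ≤ q + 4 := by
          by_contra hcon
          push Not at hcon
          have h6 : (q : ℤ) + 5 ≤ 2 * u := hcon
          nlinarith
        have h6 : 2 * (T : ℤ) ≤ 2 * (5 * (q + 1) + 1) * (2 * (2 * (5 * (q + 1) + 1)) + 11 * (q + 4) + 32) := by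
          have h7 : ((u : ℤ) + 4) ^ 2 ≤ 2 * (5 * (q + 1) + 1) + 11 * u + 16 := by nlinarith
          have h8 : 2 * ((u : ℤ) + 4) ^ 2 ≤ 2 * (2 * (5 * (q + 1) + 1)) + 11 * (q + 4) + 32 := by linarith
          have h9 := mul_le_mul_of_nonneg_left h8 (show (0 : ℤ) ≤ 2 * (5 * (q + 1) + 1) by linarith)
          linarith
        obtain ⟨k, hk⟩ : ∃ k : ℤ, (q : ℤ) = 41 + k := ⟨q - 41, by ring⟩
        have hk0 : 0 ≤ k := by linarith
        rw [hk] at h6 hMc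
        have : 0 < 2 * ((41 + k) ^ 3 * (41 + k - 1)) -
            5 * (2 * (5 * (41 + k + 1) + 1) * (2 * (2 * (5 * (41 + k + 1) + 1)) + 11 * (41 + k + 4) + 32)) := by
          ring_nf
          positivity
        linarith
  · -- (II)
    exfalso
    have key : |β| ≤ u + 1 → (g : ℤ) * (u : ℤ) ^ 2 ≤ 4 * (u : ℤ) ^ (D - 1) → False := by
      intro hb hgP
      have h1 : (M : ℤ) < 2 * (u + 1) * (q + 1) := lt_of_lt_of_le hII (by gcongr)
      have h2 : ((u : ℤ) - 1) * (u : ℤ) ^ 2 ≤ 2 * ((q : ℤ) ^ 5 + 1) := by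
        have h3 : 2 * (((u : ℤ) - 1) * (u : ℤ) ^ (D - 1)) ≤ ((q : ℤ) ^ 5 + 1) * g := by nlinarith
        have h4 : (u : ℤ) ^ (D - 1) * (((u : ℤ) - 1) * (u : ℤ) ^ 2) ≤ (u : ℤ) ^ (D - 1) * (2 * ((q : ℤ) ^ 5 + 1)) := by
          have h5 : 2 * (((u : ℤ) - 1) * (u : ℤ) ^ (D - 1)) * (u : ℤ) ^ 2 ≤ ((q : ℤ) ^ 5 + 1) * g * (u : ℤ) ^ 2 :=
            mul_le_mul_of_nonneg_right h3 (sq_nonneg _)
          have h6 : ((q : ℤ) ^ 5 + 1) * (g * (u : ℤ) ^ 2) ≤ ((q : ℤ) ^ 5 + 1) * (4 * (u : ℤ) ^ (D - 1)) :=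
            mul_le_mul_of_nonneg_left hgP (by positivity)
          linarith
        exact le_of_mul_le_mul_left h4 hP0
      refine caseII ha hQ ?_ h2
      have hq0 : (0 : ℤ) < q := by linarith
      rcases hbig with ⟨h3, h4⟩ | ⟨h3, h4⟩
      · rw [h3] at hMc
        push_cast at hMc
        exact fin5 hQ h1 hMc
      · rw [h3] at hMc
        push_cast at hMc
        exact fin6 (by exact_mod_cast h4) h1 hMc
    rcases hk with ⟨k1, k2, k3, k4⟩ | ⟨k1, k2⟩ | ⟨k0, k1, k2, k3⟩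
    · refine key k2 ?_
      have h1 := four_pow_ge hu hD
      have h2 : g * u ^ 2 ≤ 4 * u ^ (D - 1) := (Nat.mul_le_mul_right _ k3).trans h1
      exact_mod_cast h2
    · have h1 := h.big
      have h2 : 2 * |β| * ((q : ℤ) + 1) ≤ 2 * (q + 1) := by
        have h3 := mul_le_mul_of_nonneg_right k2 (show (0 : ℤ) ≤ q + 1 by linarith)
        linarith
      nlinarith
    · refine key k2 ?_
      have h3 : (g : ℤ) ≤ 4 := by exact_mod_cast k3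
      nlinarith [sq_nonneg (u : ℤ)]
  · -- (III)
    exfalso
    obtain ⟨hM3, hN3⟩ := hIII
    have hq0 : (0 : ℤ) < q := by linarith
    -- `(u - 1) u ^ 2 ≤ 4 ..`
    have key3 : (g : ℤ) * (u : ℤ) ^ 2 ≤ 4 * (u : ℤ) ^ (D - 1) →
        ((u : ℤ) - 1) * (u : ℤ) ^ 2 ≤ 4 * (((q : ℤ) ^ 3 + 1) * (q + 1)) := by
      intro hgP
      have h3 : ((u : ℤ) - 1) * (u : ℤ) ^ (D - 1) ≤ (((q : ℤ) ^ 3 + 1) * (q + 1)) * g :=
        hNlo'.trans (mul_le_mul_of_nonneg_right hN3 (by linarith))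
      have h4 : (u : ℤ) ^ (D - 1) * (((u : ℤ) - 1) * (u : ℤ) ^ 2) ≤
          (u : ℤ) ^ (D - 1) * (4 * (((q : ℤ) ^ 3 + 1) * (q + 1))) := by
        have h5 := mul_le_mul_of_nonneg_right h3 (sq_nonneg (u : ℤ))
        have h6 := mul_le_mul_of_nonneg_left hgP (show (0 : ℤ) ≤ ((q : ℤ) ^ 3 + 1) * (q + 1) by positivity)
        linarith
      exact le_of_mul_le_mul_left h4 hP0
    have key4 : (g : ℤ) * (u : ℤ) ^ 3 ≤ 5 * (u : ℤ) ^ (D - 1) →
        ((u : ℤ) - 1) * (u : ℤ) ^ 3 ≤ 5 * (((q : ℤ) ^ 3 + 1) * (q + 1)) := by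
      intro hgP
      have h3 : ((u : ℤ) - 1) * (u : ℤ) ^ (D - 1) ≤ (((q : ℤ) ^ 3 + 1) * (q + 1)) * g :=
        hNlo'.trans (mul_le_mul_of_nonneg_right hN3 (by linarith))
      have h4 : (u : ℤ) ^ (D - 1) * (((u : ℤ) - 1) * (u : ℤ) ^ 3) ≤
          (u : ℤ) ^ (D - 1) * (5 * (((q : ℤ) ^ 3 + 1) * (q + 1))) := by
        have h5 := mul_le_mul_of_nonneg_right h3 (show (0 : ℤ) ≤ (u : ℤ) ^ 3 by positivity)
        have h6 := mul_le_mul_of_nonneg_left hgP (show (0 : ℤ) ≤ ((q : ℤ) ^ 3 + 1) * (q + 1) by positivity)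
        linarith
      exact le_of_mul_le_mul_left h4 hP0
    -- `D ≥ 4` and `c₅ = 5`, or `c₅ = 1`, or `71 ≤ q`
    have fin : |β| ≤ u + 1 → (g : ℤ) * (u : ℤ) ^ 2 ≤ 4 * (u : ℤ) ^ (D - 1) →
        (4 ≤ D → (g : ℤ) * (u : ℤ) ^ 3 ≤ 5 * (u : ℤ) ^ (D - 1)) → (D = 3 → c5 = 5 → 71 ≤ q) → False := by
      intro hb hgP hgP4 h71
      have h1 : (M : ℤ) < 2 * (u + 1) * ((q + 1) ^ 2 + 1) := lt_of_lt_of_le hM3 (by gcongr)
      rcases hbig with ⟨h3, h4⟩ | ⟨h3, h4⟩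
      · rw [h3] at hMc
        push_cast at hMc
        refine caseIII3a hQ ?_ (key3 hgP)
        by_contra hcon
        push Not at hcon
        have h5 : 8 * ((u : ℤ) + 1) ≤ 3 * (q : ℤ) ^ 2 := by linarith
        have h6 : 8 * (2 * ((u : ℤ) + 1) * ((q + 1) ^ 2 + 1)) ≤ 2 * (3 * (q : ℤ) ^ 2) * ((q + 1) ^ 2 + 1) := by
          have : (0 : ℤ) ≤ (q + 1) ^ 2 + 1 := by positivity
          nlinarith
        obtain ⟨k, hk⟩ : ∃ k : ℤ, (q : ℤ) = 11 + k := ⟨q - 11, by ring⟩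
        have hk0 : 0 ≤ k := by linarith
        rw [hk] at h1 h6 hMc
        have : 0 ≤ 8 * ((11 + k) ^ 3 * (11 + k - 1)) - 2 * (3 * (11 + k) ^ 2) * ((11 + k + 1) ^ 2 + 1) := by
          ring_nf
          positivity
        linarith
      · rw [h3] at hMc
        push_cast at hMc
        have h4' : (41 : ℤ) ≤ q := by exact_mod_cast h4
        by_cases hD3 : D = 3
        · have h71' : (71 : ℤ) ≤ q := by exact_mod_cast h71 hD3 h3
          refine caseIII3b h71' ?_ (key3 hgP)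
          by_contra hcon
          push Not at hcon
          have h5 : 21 * ((u : ℤ) + 1) ≤ 2 * (q : ℤ) ^ 2 := by linarith
          have h6 : 21 * (2 * ((u : ℤ) + 1) * ((q + 1) ^ 2 + 1)) ≤ 2 * (2 * (q : ℤ) ^ 2) * ((q + 1) ^ 2 + 1) := by
            have : (0 : ℤ) ≤ (q + 1) ^ 2 + 1 := by positivity
            nlinarith
          obtain ⟨k, hk⟩ : ∃ k : ℤ, (q : ℤ) = 71 + k := ⟨q - 71, by ring⟩
          have hk0 : 0 ≤ k := by linarith
          rw [hk] at h1 h6 hMc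
          have : 0 ≤ 21 * ((71 + k) ^ 3 * (71 + k - 1)) - 5 * (2 * (2 * (71 + k) ^ 2) * ((71 + k + 1) ^ 2 + 1)) := by
            ring_nf
            positivity
          linarith
        · refine caseIII4 hQ ?_ (key4 (hgP4 (by omega)))
          by_contra hcon
          push Not at hcon
          have h5 : ((u : ℤ) + 1) ≤ 3 * (q : ℤ) := by linarith
          have h6 : (2 * ((u : ℤ) + 1) * ((q + 1) ^ 2 + 1)) ≤ 2 * (3 * (q : ℤ)) * ((q + 1) ^ 2 + 1) := by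
            have : (0 : ℤ) ≤ (q + 1) ^ 2 + 1 := by positivity
            nlinarith
          obtain ⟨k, hk⟩ : ∃ k : ℤ, (q : ℤ) = 41 + k := ⟨q - 41, by ring⟩
          have hk0 : 0 ≤ k := by linarith
          rw [hk] at h1 h6 hMc
          have : 0 ≤ ((41 + k) ^ 3 * (41 + k - 1)) - 5 * (2 * (3 * (41 + k)) * ((41 + k + 1) ^ 2 + 1)) := by
            ring_nf
            positivity
          linarith
    rcases hk with ⟨k1, k2, k3, k4⟩ | ⟨k1, k2⟩ | ⟨k0, k1, k2, k3⟩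
    · refine fin k2 ?_ (fun h4 => ?_) k4
      · have h1 := four_pow_ge hu hD
        have h2 : g * u ^ 2 ≤ 4 * u ^ (D - 1) := (Nat.mul_le_mul_right _ k3).trans h1
        exact_mod_cast h2
      · have h1 := five_pow_ge hu h4
        have h2 : g * u ^ 3 ≤ 5 * u ^ (D - 1) := (Nat.mul_le_mul_right _ k3).trans h1
        exact_mod_cast h2
    · have h1 : (M : ℤ) < 2 * ((q + 1) ^ 2 + 1) := by
        have h2 : (0 : ℤ) ≤ (q + 1) ^ 2 + 1 := by positivity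
        have h3 := mul_le_mul_of_nonneg_right k2 h2
        linarith
      rcases hbig with ⟨h3, h4⟩ | ⟨h3, h4⟩
      · rw [h3] at hMc
        push_cast at hMc
        exact fin3 hQ h1 hMc
      · rw [h3] at hMc
        push_cast at hMc
        exact fin4 (by exact_mod_cast h4) h1 hMc
    · have h3 : (g : ℤ) ≤ 4 := by exact_mod_cast k3
      have hP3 : (u : ℤ) ^ 3 ≤ (u : ℤ) ^ (D - 1) := pow_le_pow_right₀ (by linarith) (by omega)
      have hu3 : (0 : ℤ) < (u : ℤ) ^ 3 := by positivity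
      refine fin k2 (by nlinarith [sq_nonneg (u : ℤ)]) (fun _ => by nlinarith) (fun h5 => by omega)
  · exact hZ

end Cfsg.Agent.R2.Spec.X7.N6
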