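import Mathlib

/-!
# S3435, box X7, `n = 6`, packet N6-S (helper8): finite checks
-/

set_option autoImplicit false

namespace Cfsg.Agent.R2.Spec.X7.N6

/-- `M` divides none of `u ^ 2 + u + 1`, `u ^ 2 - u + 1`, `u ^ 2 - 1` -/
def okA (M u : ℕ) : Bool := (u ^ 2 + u + 1) % M != 0 && (u ^ 2 - u + 1) % M != 0 && (u ^ 2 - 1) % M != 0

/-- `M` divides none of `u (u + 1)`, `u (u - 1)` -/
def okB (M u : ℕ) : Bool := (u * (u + 1)) % M != 0 && (u * (u - 1)) % M != 0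

/-- the range `2 ≤ u < b` -/
def okR (f : ℕ → Bool) (b : ℕ) : Bool := (List.range b).all fun u => Nat.ble u 1 || f u

theorem okR_spec {f : ℕ → Bool} {b : ℕ} (h : okR f b = true) {u : ℕ} (h2 : 2 ≤ u) (hb : u < b) : f u = true := by
  have h1 := List.all_eq_true.1 h u (List.mem_range.2 hb)
  rcases Bool.or_eq_true_iff.1 h1 with h3 | h3
  · have := Nat.le_of_ble_eq_true h3
    omega
  · exact h3

theorem okA_spec {M u : ℕ} (h : okA M u = true) :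
    ¬ M ∣ u ^ 2 + u + 1 ∧ ¬ M ∣ u ^ 2 - u + 1 ∧ ¬ M ∣ u ^ 2 - 1 := by
  have h1 := Bool.and_eq_true_iff.1 h
  have h2 := Bool.and_eq_true_iff.1 h1.1
  have e : ∀ n : ℕ, (n % M != 0) = true → ¬ M ∣ n := fun n hn hd => by
    rw [Nat.mod_eq_zero_of_dvd hd] at hn
    exact absurd hn (by decide)
  exact ⟨e _ h2.1, e _ h2.2, e _ h1.2⟩

theorem okB_spec {M u : ℕ} (h : okB M u = true) : ¬ M ∣ u * (u + 1) ∧ ¬ M ∣ u * (u - 1) := by
  have h1 := Bool.and_eq_true_iff.1 h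
  have e : ∀ n : ℕ, (n % M != 0) = true → ¬ M ∣ n := fun n hn hd => by
    rw [Nat.mod_eq_zero_of_dvd hd] at hn
    exact absurd hn (by decide)
  exact ⟨e _ h1.1, e _ h1.2⟩

theorem okA_1181 : okR (okA 1181) 260 = true := by decide +kernel
theorem okA_3221 : okR (okA 3221) 260 = true := by decide +kernel
theorem okA_24761 : okR (okA 24761) 260 = true := by decide +kernel
theorem okA_40841 : okR (okA 40841) 260 = true := by decide +kernel
theorem okA_121 : okR (okA 121) 18 = true := by decide +kernel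
theorem okA_61 : okR (fun u => u == 13 || (u == 14 || okA 61 u)) 18 = true := by decide +kernel

theorem okB_all : (okR (okB 1181) 850 && okR (okB 3221) 850 && okR (okB 24761) 850 && okR (okB 40841) 850 &&
    okR (okB 136741) 850 && okR (okB 190861) 850 && okR (okB 451121) 850 && okR (okB 579281) 850) = true := by
  decide +kernel

theorem okB_small : (okR (okB 121) 32 && okR (okB 61) 32 && okR (okB 781) 32 && okR (okB 521) 32) = true := by
  decide +kernel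

/-- `M ∤ u ^ 2 ± u + 1, u ^ 2 - 1` -/
theorem chk_a {M u : ℕ} (hM : M = 1181 ∨ M = 3221 ∨ M = 24761 ∨ M = 40841) (h2 : 2 ≤ u) (hu : u < 260) :
    ¬ M ∣ u ^ 2 + u + 1 ∧ ¬ M ∣ u ^ 2 - u + 1 ∧ ¬ M ∣ u ^ 2 - 1 := by
  rcases hM with rfl | rfl | rfl | rfl
  · exact okA_spec (okR_spec okA_1181 h2 hu)
  · exact okA_spec (okR_spec okA_3221 h2 hu)
  · exact okA_spec (okR_spec okA_24761 h2 hu)
  · exact okA_spec (okR_spec okA_40841 h2 hu)

theorem chk_a3 {M u : ℕ} (hM : M = 121 ∨ M = 61) (h2 : 2 ≤ u) (hu : u < 18) :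
    (M = 61 ∧ u = 13) ∨ (M = 61 ∧ u = 14) ∨ (¬ M ∣ u ^ 2 + u + 1 ∧ ¬ M ∣ u ^ 2 - u + 1 ∧ ¬ M ∣ u ^ 2 - 1) := by
  rcases hM with rfl | rfl
  · exact Or.inr (Or.inr (okA_spec (okR_spec okA_121 h2 hu)))
  · have h1 := okR_spec okA_61 h2 hu
    rcases Bool.or_eq_true_iff.1 h1 with h3 | h3
    · exact Or.inl ⟨rfl, by simpa using h3⟩
    · rcases Bool.or_eq_true_iff.1 h3 with h4 | h4
      · exact Or.inr (Or.inl ⟨rfl, by simpa using h4⟩)
      · exact Or.inr (Or.inr (okA_spec h4))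

/-- `M ∤ u (u ± 1)` -/
theorem chk_b {M u : ℕ} (hM : M = 1181 ∨ M = 3221 ∨ M = 24761 ∨ M = 40841 ∨ M = 136741 ∨ M = 190861 ∨ M = 451121 ∨
    M = 579281) (h2 : 2 ≤ u) (hu : u < 850) : ¬ M ∣ u * (u + 1) ∧ ¬ M ∣ u * (u - 1) := by
  have h0 := okB_all
  simp only [Bool.and_eq_true] at h0
  obtain ⟨⟨⟨⟨⟨⟨⟨h1, h3⟩, h4⟩, h5⟩, h6⟩, h7⟩, h8⟩, h9⟩ := h0
  rcases hM with rfl | rfl | rfl | rfl | rfl | rfl | rfl | rfl
  · exact okB_spec (okR_spec h1 h2 hu)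
  · exact okB_spec (okR_spec h3 h2 hu)
  · exact okB_spec (okR_spec h4 h2 hu)
  · exact okB_spec (okR_spec h5 h2 hu)
  · exact okB_spec (okR_spec h6 h2 hu)
  · exact okB_spec (okR_spec h7 h2 hu)
  · exact okB_spec (okR_spec h8 h2 hu)
  · exact okB_spec (okR_spec h9 h2 hu)

theorem chk_b3 {M u : ℕ} (hM : M = 121 ∨ M = 61 ∨ M = 781 ∨ M = 521) (h2 : 2 ≤ u) (hu : u < 32) :
    ¬ M ∣ u * (u + 1) ∧ ¬ M ∣ u * (u - 1) := by
  have h0 := okB_small
  simp only [Bool.and_eq_true] at h0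
  obtain ⟨⟨⟨h1, h3⟩, h4⟩, h5⟩ := h0
  rcases hM with rfl | rfl | rfl | rfl
  · exact okB_spec (okR_spec h1 h2 hu)
  · exact okB_spec (okR_spec h3 h2 hu)
  · exact okB_spec (okR_spec h4 h2 hu)
  · exact okB_spec (okR_spec h5 h2 hu)

end Cfsg.Agent.R2.Spec.X7.N6
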