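import Cfsg.Agent.R2.Spec.X7.N6.Core

/-!
# S3435, box X7, `n = 6`, packet N6-S (helper8): numbers I

* `SixN.up_prime` : an order divisible by a prime divisor of `M`;
* `SixN.two_tori` : two orders `T, N = (U ± 1) / g`, `M ∣ T`: `U = 2 Φ₅(s) - 1`.
-/

set_option autoImplicit false
set_option maxHeartbeats 1000000

namespace Cfsg.Agent.R2.Spec.X7.N6

variable {p q : ℕ} {s : ℤ} {c c5 M : ℕ}

namespace SixN

/-- a prime divisor of `M` divides nothing else -/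
lemma prime_not_dvd (h : SixN p q s c c5 M) {r : ℕ} (hr : r.Prime) (hrM : r ∣ M) {X : ℤ} {k : ℕ}
    (hX : X ∣ (s * (s - 1) * (s + 1) * (s ^ 2 + 1) * (s ^ 2 + s + 1) * (s ^ 2 - s + 1)) ^ k) (hrX : (r : ℤ) ∣ X) :
    False := by
  have h1 : IsCoprime (M : ℤ) X := (h.cop.pow_right (n := k)).of_isCoprime_of_dvd_right hX
  have h2 : IsUnit (r : ℤ) := h1.isUnit_of_dvd' (Int.natCast_dvd_natCast.2 hrM) hrX
  have h3 := Int.natAbs_of_isUnit h2
  have h4 := hr.two_le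
  simp at h3
  omega

/-- an element order divisible by a prime divisor of `M` -/
theorem up_prime (h : SixN p q s c c5 M) {r E : ℕ} (hr : r.Prime) (hrM : r ∣ M) (hrE : r ∣ E) (hu : Up p s c E) :
    (c * E : ℤ) ∣ s ^ 5 - 1 := by
  have hpd := h.p_dvd
  have hrE' : (r : ℤ) ∣ E := Int.natCast_dvd_natCast.2 hrE
  rcases hu with h1 | h1 | h1 | h1 | h1 | h1 | h1 | h1 | h1
  · exact h1
  · exfalso
    exact h.prime_not_dvd hr hrM (X := s ^ 6 - 1) (k := 1) ⟨s * (s ^ 2 + 1), by ring⟩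
      (dvd_trans (dvd_trans hrE' ⟨c * (s - 1), by ring⟩) h1)
  · exfalso
    exact h.prime_not_dvd hr hrM (X := s ^ 4 - 1) (k := 1) ⟨s * (s ^ 2 + s + 1) * (s ^ 2 - s + 1), by ring⟩
      (dvd_trans hrE' h1)
  · exfalso
    refine h.prime_not_dvd hr hrM (X := p * (s ^ 4 - 1)) (k := 1) ?_ (dvd_trans (dvd_trans hrE' ⟨c, by ring⟩) h1)
    obtain ⟨t, ht⟩ := hpd
    exact ⟨t * (s ^ 2 + s + 1) * (s ^ 2 - s + 1), by linear_combination ((s ^ 4 - 1) * (s ^ 2 + s + 1) * (s ^ 2 - s + 1)) * ht⟩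
  · exfalso
    exact h.prime_not_dvd hr hrM (X := (s ^ 3 - 1) * (s + 1)) (k := 1) ⟨s * (s ^ 2 + 1) * (s ^ 2 - s + 1), by ring⟩
      (dvd_trans hrE' h1)
  · exfalso
    refine h.prime_not_dvd hr hrM (X := p * (s ^ 3 - 1)) (k := 1) ?_ (dvd_trans hrE' h1)
    obtain ⟨t, ht⟩ := hpd
    exact ⟨t * (s + 1) * (s ^ 2 + 1) * (s ^ 2 - s + 1), by
      linear_combination ((s ^ 3 - 1) * (s + 1) * (s ^ 2 + 1) * (s ^ 2 - s + 1)) * ht⟩
  · exfalso
    refine h.prime_not_dvd hr hrM (X := p * (s ^ 2 - 1)) (k := 1) ?_ (dvd_trans hrE' h1)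
    obtain ⟨t, ht⟩ := hpd
    exact ⟨t * (s ^ 2 + 1) * (s ^ 2 + s + 1) * (s ^ 2 - s + 1), by
      linear_combination ((s ^ 2 - 1) * (s ^ 2 + 1) * (s ^ 2 + s + 1) * (s ^ 2 - s + 1)) * ht⟩
  · exfalso
    obtain ⟨hp3, h1⟩ := h1
    refine h.prime_not_dvd hr hrM (X := 9 * (s ^ 2 - 1)) (k := 2) ?_ (dvd_trans hrE' h1)
    obtain ⟨t, ht⟩ := hpd
    rw [hp3] at ht
    push_cast at ht
    refine ⟨t ^ 2 * (s ^ 2 - 1) * ((s ^ 2 + 1) * (s ^ 2 + s + 1) * (s ^ 2 - s + 1)) ^ 2, ?_⟩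
    have h9 : 9 * t ^ 2 = s ^ 2 := by rw [ht]; ring
    linear_combination (-((s ^ 2 - 1) ^ 2 * ((s ^ 2 + 1) * (s ^ 2 + s + 1) * (s ^ 2 - s + 1)) ^ 2)) * h9
  · exfalso
    obtain ⟨hp5, h1⟩ := h1
    have h2 : (r : ℤ) ∣ 25 := by
      have : r ∣ 25 := dvd_trans hrE h1
      exact_mod_cast this
    refine h.prime_not_dvd hr hrM (X := 25) (k := 2) ?_ h2
    obtain ⟨t, ht⟩ := hpd
    rw [hp5] at ht
    push_cast at ht
    refine ⟨(t * (s - 1) * (s + 1) * (s ^ 2 + 1) * (s ^ 2 + s + 1) * (s ^ 2 - s + 1)) ^ 2, ?_⟩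
    have h9 : 25 * t ^ 2 = s ^ 2 := by rw [ht]; ring
    linear_combination (-(((s - 1) * (s + 1) * (s ^ 2 + 1) * (s ^ 2 + s + 1) * (s ^ 2 - s + 1)) ^ 2)) * h9

/-- the primes of `M` are at least `7` -/
lemma prime_ge (h : SixN p q s c c5 M) {r : ℕ} (hr : r.Prime) (hrM : r ∣ M) : 7 ≤ r := by
  have key : ∀ n : ℕ, n ∣ 30 → n.Prime → ¬ n ∣ M := by
    intro n hn hnp hnM
    refine h.prime_not_dvd hnp hnM (X := s * (s - 1) * (s + 1) * (s ^ 2 + 1)) (k := 1)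
      ⟨(s ^ 2 + s + 1) * (s ^ 2 - s + 1), by ring⟩ ?_
    have h1 : (30 : ℤ) ∣ s * (s - 1) * (s + 1) * (s ^ 2 + 1) := by
      have h2 : (2 : ℤ) ∣ s * (s - 1) * (s + 1) * (s ^ 2 + 1) := by
        have h3 : s % 2 = 0 ∨ s % 2 = 1 := by omega
        apply Int.dvd_of_emod_eq_zero
        rcases h3 with h3 | h3 <;> simp [Int.mul_emod, Int.sub_emod, Int.add_emod, pow_two, h3]
      have h3 : (3 : ℤ) ∣ s * (s - 1) * (s + 1) * (s ^ 2 + 1) := by
        have h3 : s % 3 = 0 ∨ s % 3 = 1 ∨ s % 3 = 2 := by omega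
        apply Int.dvd_of_emod_eq_zero
        rcases h3 with h3 | h3 | h3 <;> simp [Int.mul_emod, Int.sub_emod, Int.add_emod, pow_two, h3]
      have h5 : (5 : ℤ) ∣ s * (s - 1) * (s + 1) * (s ^ 2 + 1) := by
        have h3 : s % 5 = 0 ∨ s % 5 = 1 ∨ s % 5 = 2 ∨ s % 5 = 3 ∨ s % 5 = 4 := by omega
        apply Int.dvd_of_emod_eq_zero
        rcases h3 with h3 | h3 | h3 | h3 | h3 <;> simp [Int.mul_emod, Int.sub_emod, Int.add_emod, pow_two, h3]
      omega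
    exact (Int.natCast_dvd_natCast.2 hn).trans h1
  by_contra hlt
  have h2 := hr.two_le
  have h3 : r < 7 := by omega
  interval_cases r
  · exact key 2 (by norm_num) hr hrM
  · exact key 3 (by norm_num) hr hrM
  · exact absurd hr (by norm_num)
  · exact key 5 (by norm_num) hr hrM
  · exact absurd hr (by norm_num)

lemma M_cop (h : SixN p q s c c5 M) {n : ℕ} (hn : n ≠ 0) (hn7 : n < 7) : Nat.Coprime M n := by
  refine Nat.coprime_of_dvd fun r hr h1 h2 => ?_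
  have h3 := h.prime_ge hr h1
  have h4 := Nat.le_of_dvd (Nat.pos_of_ne_zero hn) h2
  omega

lemma M_odd (h : SixN p q s c c5 M) : M % 2 = 1 := by
  have h1 := h.M_cop (n := 2) (by norm_num) (by norm_num)
  rcases Nat.mod_two_eq_zero_or_one M with h2 | h2
  · exfalso
    have h3 : 2 ∣ Nat.gcd M 2 := Nat.dvd_gcd (by omega) dvd_rfl
    rw [h1] at h3
    norm_num at h3
  · exact h2

/-- the case `c₅ = 5` -/
lemma five (h : SixN p q s c c5 M) (h5 : c5 = 5) : s % 10 = 1 ∧ 9 ≤ q := by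
  have h4 := h.c5_dvd
  rw [h5] at h4
  push_cast at h4
  have ho := h.odd_s
  rw [Int.odd_iff] at ho
  have h6 : s % 10 = 1 := by omega
  refine ⟨h6, ?_⟩
  have hq3 := h.q3
  rcases h.hs with h7 | h7 <;> omega

/-- lower bound, natural numbers -/
lemma lo_nat (h : SixN p q s c c5 M) : (c5 = 1 ∧ (q ^ 3 + q) * (q - 1) < M) ∨ (c5 = 5 ∧ (q ^ 3 + q) * (q - 1) < 5 * M ∧ 9 ≤ q) := by
  have h1 := h.lo
  have hq3 := h.q3
  have h2 : (((q ^ 3 + q) * (q - 1) : ℕ) : ℤ) = (q : ℤ) ^ 3 * (q - 1) + q * (q - 1) := by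
    push_cast [Nat.cast_sub (show 1 ≤ q by omega)]
    ring
  rw [← h2] at h1
  rcases h.c5_or with h5 | h5
  · left
    refine ⟨h5, ?_⟩
    rw [h5] at h1
    push_cast at h1
    rw [one_mul] at h1
    exact_mod_cast h1
  · right
    refine ⟨h5, ?_, (h.five h5).2⟩
    rw [h5] at h1
    exact_mod_cast h1

end SixN

/-- the two values for `q = 3` -/
lemma SixN.three (h : SixN p q s c c5 M) (hq : q = 3) : (s = 3 ∧ M = 121) ∨ (s = -3 ∧ M = 61) := by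
  have h1 := h.phi
  rcases h.c5_or with h5 | h5
  · rw [h5] at h1
    rcases h.hs with h2 | h2
    · left
      rw [hq] at h2
      rw [h2] at h1
      norm_num at h1
      exact ⟨h2, by exact_mod_cast h1⟩
    · right
      rw [hq] at h2
      rw [h2] at h1
      norm_num at h1
      exact ⟨h2, by exact_mod_cast h1⟩
  · have := (h.five h5).2
    omega

lemma SixN.three_c (h : SixN p q s c c5 M) (hq : q = 3) : p = 3 ∧ c = 2 := by
  obtain ⟨f, hf, hqf⟩ := h.hq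
  have hp := h.hp
  constructor
  · have h1 : p ∣ 3 := by
      rw [← hq, hqf]
      exact dvd_pow_self p (by omega)
    exact (Nat.prime_dvd_prime_iff_eq hp Nat.prime_three).1 h1
  · rw [h.hc]
    rcases h.three hq with ⟨h1, -⟩ | ⟨h1, -⟩ <;> rw [h1] <;> rfl

end Cfsg.Agent.R2.Spec.X7.N6
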