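import Cfsg.Agent.R2.Spec.X7.N6.SNum

/-!
# S3435, box X7, `n = 6`, packet N6-S (helper8): two tori

* `SixN.zero_pm` : the zero cases with `β = ± 1`;
* `SixN.two_tori` : two orders `T, N = (U ± 1) / g`, `M ∣ T`: `U = 2 Φ₅(s) - 1`;
* `SixN.kill` : this is impossible if all primes of class `6` divide the order.
-/

set_option autoImplicit false
set_option maxHeartbeats 1000000

namespace Cfsg.Agent.R2.Spec.X7.N6

variable {p q : ℕ} {s : ℤ} {c c5 M : ℕ}

/-- the zero cases with `β = ± 1` -/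
theorem SixN.zero_pm (h : SixN p q s c c5 M) {N e : ℕ} {α β γ : ℤ} (hβ : β = 1 ∨ β = -1)
    (hz : Zero p s c c5 N e α β γ) :
    (c5 * γ = α * e ∧ -β * N = γ * (s * (s + 1) * (s ^ 2 + 1))) ∨
      (c5 * γ = α * e * (s ^ 2 + 2 * s + 2) ∧ ∃ j : ℤ, (N : ℤ) * j = (s ^ 3 - 1) * (s + 1) ∧
        j * γ = -(β * (s ^ 2 + 2 * s + 2))) := by
  have hββ : β * β = 1 := by rcases hβ with rfl | rfl <;> norm_num
  have hs3 := h.s_cases
  have hs1 := h.s_ne
  have nu : ¬ s ∣ 1 := by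
    intro h1
    have := Int.le_of_dvd one_pos h1
    have h2 := Int.le_of_dvd one_pos ((neg_dvd).2 h1)
    omega
  rcases hz with ⟨-, j, -, h2⟩ | ⟨-, j, -, h2⟩ | ⟨h1, j, h3, h2⟩ | h1 | ⟨-, j, -, h2⟩
  · exfalso
    have h3 : (c : ℤ) ∣ 1 := ⟨j * γ * β, by rw [← hββ, ← h2]; ring⟩
    have h4 := Int.le_of_dvd one_pos h3
    rcases h.c_or with h5 | h5 <;> rw [h5] at h4 <;> norm_num at h4
  · exfalso
    apply nu
    refine ⟨1 + β * j * γ, ?_⟩
    linear_combination (-β) * h2 + (s - 1) * hββ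
  · left
    refine ⟨h1, ?_⟩
    obtain ⟨t, ht⟩ := h.p_dvd
    have hp0 : (p : ℤ) ≠ 0 := by exact_mod_cast h.hp.ne_zero
    have h4 : t * c * j * γ = -(β * (s - 1)) := by
      refine mul_left_cancel₀ hp0 ?_
      rw [ht] at h2 ⊢
      linear_combination h2
    have h6 : t ∣ 1 := by
      refine ⟨p + β * c * j * γ, ?_⟩
      linear_combination (-β) * h4 + (s - 1) * hββ + ht
    have h7 : t * t = 1 := by
      have h8 : IsUnit t := isUnit_of_dvd_one h6
      rcases Int.isUnit_iff.1 h8 with h9 | h9 <;> rw [h9] <;> norm_num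
    refine mul_left_cancel₀ hs1 ?_
    -- `-β N (s - 1) = N (t c j γ) = γ t p (s^4 - 1)`
    linear_combination (-(N : ℤ)) * h4 + γ * t * h3 - γ * (s ^ 4 - 1) * ht
  · exact Or.inr h1
  · exfalso
    obtain ⟨t, ht⟩ := h.p_dvd
    have hp0 : (p : ℤ) ≠ 0 := by exact_mod_cast h.hp.ne_zero
    apply nu
    have h4 : s * (t * j * γ) = -(β * (s ^ 2 - 1)) := by
      refine mul_left_cancel₀ hp0 ?_
      linear_combination h2 + s * j * γ * (-ht)
    refine ⟨s + β * (t * j * γ), ?_⟩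
    linear_combination (-β) * h4 + (s ^ 2 - 1) * hββ

/-- `G = (s + 1) ^ 2 + 1` -/
lemma SixN.G_ge (h : SixN p q s c c5 M) : 5 ≤ s ^ 2 + 2 * s + 2 ∧ (c5 = 5 → 65 ≤ s ^ 2 + 2 * s + 2) := by
  constructor
  · rcases h.s_cases with h1 | h1 <;> nlinarith
  · intro h5
    have h9 : (9 : ℤ) ≤ q := by exact_mod_cast (h.five h5).2
    rcases h.hs with h1 | h1 <;> rw [h1] <;> nlinarith

/-- `Up` for `q = 3`, `s = - 3`: small orders -/
lemma not_up_three {E : ℕ} (hu : Up 3 (-3) 2 E) : E ≠ 59 ∧ E ≠ 62 ∧ E ≠ 63 ∧ E ≠ 65 ∧ E ≠ 52 ∧ E ≠ 31 := by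
  refine ⟨?_, ?_, ?_, ?_, ?_, ?_⟩ <;>
  · rintro rfl
    rcases hu with h1 | h1 | h1 | h1 | h1 | h1 | h1 | h1 | h1 <;> norm_num at h1

theorem SixN.two_tori (h : SixN p q s c c5 M) {U g T N : ℕ} {ε : ℤ} (hU : 2 ≤ U) (hε : ε = 1 ∨ ε = -1)
    (hg : (g = 1 ∧ U % 2 = 0) ∨ (g = 2 ∧ U % 2 = 1)) (hT : (g : ℤ) * T = U + ε) (hN : (g : ℤ) * N = U - ε)
    (hMT : M ∣ T) (uN : Up p s c N) : (U : ℤ) = 2 * (s ^ 4 + s ^ 3 + s ^ 2 + s + 1) - 1 := by
  obtain ⟨e, rfl⟩ := hMT
  obtain ⟨γ, hγ⟩ : ∃ γ : ℤ, γ = (M * e : ℕ) - (N : ℤ) := ⟨_, rfl⟩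
  have hgγ : (g = 1 ∧ γ = 2 * ε ∧ U % 2 = 0) ∨ (g = 2 ∧ γ = ε ∧ U % 2 = 1) := by
    rcases hg with ⟨h1, h2⟩ | ⟨h1, h2⟩
    · left
      rw [h1] at hT hN
      push_cast at hT hN
      refine ⟨h1, ?_, h2⟩
      rw [hγ]; push_cast; linarith
    · right
      rw [h1] at hT hN
      push_cast at hT hN
      refine ⟨h1, ?_, h2⟩
      rw [hγ]; push_cast; linarith
  have hγ2 : |γ| ≤ 2 := by
    rcases hgγ with ⟨-, h1, -⟩ | ⟨-, h1, -⟩ <;> rcases hε with h2 | h2 <;> rw [h1, h2] <;> norm_num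
  have hγ0 : γ ≠ 0 := by
    rcases hgγ with ⟨-, h1, -⟩ | ⟨-, h1, -⟩ <;> rcases hε with h2 | h2 <;> rw [h1, h2] <;> norm_num
  have hγ2' := abs_le.1 hγ2
  have hTpos : 0 < M * e := by
    rcases Nat.eq_zero_or_pos (M * e) with h0 | h0
    · exfalso
      rw [h0] at hT
      rcases hε with h2 | h2 <;> rw [h2] at hT <;> push_cast at hT <;> omega
    · exact h0
  have he : 0 < e := Nat.pos_of_mul_pos_left hTpos |> fun _ => by
    rcases Nat.eq_zero_or_pos e with h0 | h0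
    · rw [h0, mul_zero] at hTpos; omega
    · exact h0
  have hMT : M ≤ M * e := Nat.le_mul_of_pos_right _ he
  have hcop : Nat.Coprime N M := by
    refine Nat.coprime_of_dvd fun r hr h1 h2 => ?_
    have h3 := h.prime_ge hr h2
    have h4 : (r : ℤ) ∣ γ := by
      rw [hγ]
      exact dvd_sub (Int.natCast_dvd_natCast.2 (h2.mul_right e)) (Int.natCast_dvd_natCast.2 h1)
    have h5 := Int.le_of_dvd (abs_pos.2 hγ0) ((dvd_abs _ _).2 h4)
    omega
  have hq3 := h.q3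
  have hlo := h.lo_nat
  -- the inequalities
  have hcube : q * (3 * 3) ≤ q ^ 3 := by
    rw [show q ^ 3 = q * (q * q) by ring]
    exact Nat.mul_le_mul le_rfl (Nat.mul_le_mul hq3 hq3)
  obtain ⟨k, hk⟩ : ∃ k, q = k + 3 := ⟨q - 3, by omega⟩
  have hbig : q ^ 3 < N := by
    by_contra hcon
    push Not at hcon
    have h1 : M ≤ q ^ 3 + 2 := by omega
    rcases hlo with ⟨-, h2⟩ | ⟨-, h2, h9⟩
    · have h3 : (q ^ 3 + q) * 2 ≤ (q ^ 3 + q) * (q - 1) := Nat.mul_le_mul le_rfl (by omega)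
      omega
    · have h3 : (q ^ 3 + q) * 8 ≤ (q ^ 3 + q) * (q - 1) := Nat.mul_le_mul le_rfl (by omega)
      omega
  by_cases h3 : q = 3 ∧ N ≤ 72
  · obtain ⟨h3, hN72⟩ := h3
    obtain ⟨hp3, hc2⟩ := h.three_c h3
    have hT74 : M * e ≤ 74 := by omega
    rcases h.three h3 with ⟨hs, hM⟩ | ⟨hs, hM⟩
    · omega
    · rw [hM] at hT74 hMT hγ hT
      have he1 : e = 1 := by omega
      rw [he1] at hγ hT
      rw [hs, hc2, hp3] at uN
      have hnot := not_up_three uN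
      have hN60 : N = 60 := by
        have h4 : N = 59 ∨ N = 60 ∨ N = 62 ∨ N = 63 := by
          rcases hgγ with ⟨-, h1, -⟩ | ⟨-, h1, -⟩ <;> rcases hε with h2 | h2 <;> rw [h1, h2] at hγ <;> push_cast at hγ <;> omega
        omega
      rw [hs]
      rcases hgγ with ⟨h4, h1, h5⟩ | ⟨h4, h1, h5⟩
      · exfalso
        rw [h1, hN60] at hγ
        rcases hε with h2 | h2 <;> rw [h2] at hγ <;> norm_num at hγ
      · rw [h1, hN60] at hγ
        rw [h4] at hT
        push_cast at hγ hT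
        norm_num
        linarith
  have hq3' : q = 3 → 72 < N := by
    intro h4
    by_contra h5
    exact h3 ⟨h4, by omega⟩
  have hrel : (1 : ℤ) * (M * e : ℕ) + (-1) * N = γ := by rw [hγ]; ring
  rcases h.bracket' uN hcop hbig hq3' hrel with h1 | h1 | h1 | h1
  · exfalso
    have h2 : (N : ℤ) ≤ 2 * (c5 * (q + 1) + 1) * 2 := h1.trans (by gcongr)
    have h4 : N ≤ 2 * (c5 * (q + 1) + 1) * 2 := by exact_mod_cast h2
    rcases hlo with ⟨h5, -⟩ | ⟨h5, -, h9⟩
    · rw [h5] at h4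
      omega
    · rw [h5] at h4
      have h6 : q * (9 * 9) ≤ q ^ 3 := by
        rw [show q ^ 3 = q * (q * q) by ring]
        exact Nat.mul_le_mul le_rfl (Nat.mul_le_mul h9 h9)
      omega
  · exfalso
    rw [abs_neg, abs_one] at h1
    have h2 := h.big
    have h4 : (3 : ℤ) ≤ q := by exact_mod_cast hq3
    nlinarith
  · exfalso
    have h1 := h1.1
    rw [abs_neg, abs_one] at h1
    have h2 : M < 2 * 1 * ((q + 1) ^ 2 + 1) := by exact_mod_cast h1
    rcases hlo with ⟨h5, h6⟩ | ⟨h5, h6, h9⟩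
    · rw [hk] at h2 h6
      rw [show k + 3 - 1 = k + 2 by omega] at h6
      have h7 : ((k + 3) ^ 3 + (k + 3)) * (k + 2) = 2 * 1 * ((k + 3 + 1) ^ 2 + 1) +
        (k ^ 4 + 11 * k ^ 3 + 44 * k ^ 2 + 70 * k + 26) := by ring
      omega
    · obtain ⟨l, hl⟩ : ∃ l, q = l + 9 := ⟨q - 9, by omega⟩
      rw [hl] at h2 h6
      rw [show l + 9 - 1 = l + 8 by omega] at h6
      have h7 : ((l + 9) ^ 3 + (l + 9)) * (l + 8) = 5 * (2 * 1 * ((l + 9 + 1) ^ 2 + 1)) +
        (l ^ 4 + 35 * l ^ 3 + 450 * l ^ 2 + 2490 * l + 4894) := by ring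
      omega
  · have hG := h.G_ge
    rcases h.zero_pm (Or.inr rfl) h1 with ⟨h4, h5⟩ | ⟨h4, -⟩
    · -- `γ > 0`
      have hphi := h.phi
      have hc5 : (0 : ℤ) < c5 := by rcases h.c5_or with h6 | h6 <;> rw [h6] <;> norm_num
      have hγpos : 0 < γ := by
        have h6 : (0 : ℤ) < c5 * γ := by rw [h4]; positivity
        exact pos_of_mul_pos_right h6 hc5.le
      have hTe : ((M * e : ℕ) : ℤ) = γ * (s ^ 4 + s ^ 3 + s ^ 2 + s + 1) := by
        push_cast
        linear_combination (-(M : ℤ)) * h4 + γ * hphi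
      rcases hgγ with ⟨h7, h8, h9⟩ | ⟨h7, h8, h9⟩
      · exfalso
        rcases hε with h2 | h2
        · rw [h7, hTe, h8, h2] at hT
          push_cast at hT
          have : (U : ℤ) % 2 = 0 := by exact_mod_cast h9
          omega
        · rw [h8, h2] at hγpos
          norm_num at hγpos
      · rcases hε with h2 | h2
        · rw [h7, hTe, h8, h2] at hT
          push_cast at hT
          linarith
        · rw [h8, h2] at hγpos
          norm_num at hγpos
    · exfalso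
      have h6 : (1 : ℤ) ≤ e := by exact_mod_cast he
      rcases h.c5_or with h7 | h7
      · rw [h7] at h4
        push_cast at h4
        nlinarith [hG.1]
      · rw [h7] at h4
        push_cast at h4
        nlinarith [hG.2 h7]

/-- the primes of class 6 -/
theorem class_six {r : ℕ} (hr : r.Prime) (hr2 : r ≠ 2) (hr3 : r ≠ 3) (h : (r : ℤ) ∣ s ^ 2 - s + 1) :
    orderOf ((s : ℤ) : ZMod r) = 6 := by
  have hrf := Fact.mk hr
  have h0 : ((s : ZMod r)) ^ 2 - s + 1 = 0 := by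
    have h1 := (ZMod.intCast_zmod_eq_zero_iff_dvd (s ^ 2 - s + 1) r).2 h
    push_cast at h1
    exact h1
  have hcube : ((s : ZMod r)) ^ 3 = -1 := by linear_combination ((s : ZMod r) + 1) * h0
  have nz : ∀ n : ℕ, n.Prime → r ≠ n → ((n : ℕ) : ZMod r) ≠ 0 := by
    intro n hn hrn h1
    rw [ZMod.natCast_eq_zero_iff] at h1
    exact hrn ((Nat.prime_dvd_prime_iff_eq hr hn).1 h1)
  have n2 := nz 2 Nat.prime_two hr2
  have n3 := nz 3 Nat.prime_three hr3
  push_cast at n2 n3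
  refine orderOf_eq_of_pow_and_pow_div_prime (by norm_num) ?_ ?_
  · rw [show (6 : ℕ) = 3 * 2 by norm_num, pow_mul, hcube]
    norm_num
  · intro l hl hl6
    have hl' : l = 2 ∨ l = 3 := by
      have h1 : l ∣ 2 * 3 := by simpa using hl6
      rcases hl.dvd_mul.1 h1 with h2 | h2
      · exact Or.inl ((Nat.prime_dvd_prime_iff_eq hl Nat.prime_two).1 h2)
      · exact Or.inr ((Nat.prime_dvd_prime_iff_eq hl Nat.prime_three).1 h2)
    rcases hl' with rfl | rfl
    · rw [show 6 / 2 = 3 by norm_num, hcube]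
      intro h1
      exact n2 (by linear_combination -h1)
    · rw [show 6 / 3 = 2 by norm_num]
      intro h1
      -- `s = s ^ 2 + 1 = 2`
      have h2 : (s : ZMod r) = 2 := by linear_combination -h0 + h1
      rw [h2] at h0
      exact n3 (by linear_combination h0)

/-- the zero case -/
theorem SixN.kill (h : SixN p q s c c5 M) {v j : ℕ} (hv : v.Prime)
    (hU : ((v ^ j : ℕ) : ℤ) = 2 * (s ^ 4 + s ^ 3 + s ^ 2 + s + 1) - 1)
    (h6 : ∀ r : ℕ, r.Prime → orderOf ((s : ℤ) : ZMod r) = 6 → r = v ∨ (r : ℤ) ∣ ((v ^ j : ℕ) : ℤ) ^ 2 - 1) : False := by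
  have hodd := h.odd_s
  rw [Int.odd_iff] at hodd
  have hs3 := h.s_cases
  have hn7 : 7 ≤ s ^ 2 - s + 1 := by rcases hs3 with h1 | h1 <;> nlinarith
  have hmod2 : (s ^ 2 - s + 1) % 2 = 1 := by
    have h1 : (s ^ 2) % 2 = 1 := by rw [pow_two, Int.mul_emod, hodd]; norm_num
    omega
  obtain ⟨n, hn⟩ : ∃ n : ℕ, (n : ℤ) = s ^ 2 - s + 1 := ⟨(s ^ 2 - s + 1).toNat, Int.toNat_of_nonneg (by omega)⟩
  -- the primes of `n`
  have hprime : ∀ r : ℕ, r.Prime → r ∣ n → r = 3 ∨ r = v := by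
    intro r hr hrn
    by_cases hr3 : r = 3
    · exact Or.inl hr3
    right
    have h1 : (r : ℤ) ∣ s ^ 2 - s + 1 := by rw [← hn]; exact Int.natCast_dvd_natCast.2 hrn
    have hr2 : r ≠ 2 := by
      rintro rfl
      push_cast at h1
      omega
    rcases h6 r hr (class_six hr hr2 hr3 h1) with h2 | h2
    · exact h2
    · exfalso
      have h3 : (r : ℤ) ∣ 4 * ((s ^ 4 + s ^ 3 + s ^ 2 + s + 1) * (s * (s + 1) * (s ^ 2 + 1))) := by
        rw [hU] at h2
        refine h2.trans (dvd_of_eq ?_)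
        ring
      have hrp : Prime (r : ℤ) := Nat.prime_iff_prime_int.1 hr
      have nd1 : ¬ (r : ℤ) ∣ 1 := hrp.not_dvd_one
      rcases hrp.dvd_mul.1 h3 with h4 | h4
      · have h5 : r ∣ 2 ^ 2 := by exact_mod_cast h4
        exact hr2 ((Nat.prime_dvd_prime_iff_eq hr Nat.prime_two).1 (hr.dvd_of_dvd_pow h5))
      rcases hrp.dvd_mul.1 h4 with h5 | h5
      · have h6' : (r : ℤ) ∣ s - 1 := by
          have : s - 1 = (s ^ 4 + s ^ 3 + s ^ 2 + s + 1) - (s ^ 2 - s + 1) * (s ^ 2 + 2 * s + 2) := by ring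
          rw [this]
          exact dvd_sub h5 (h1.mul_right _)
        apply nd1
        have : (1 : ℤ) = (s ^ 2 - s + 1) - (s - 1) * s := by ring
        rw [this]
        exact dvd_sub h1 (h6'.mul_right _)
      rcases hrp.dvd_mul.1 h5 with h6' | h6'
      · rcases hrp.dvd_mul.1 h6' with h7 | h7
        · apply nd1
          have : (1 : ℤ) = (s ^ 2 - s + 1) - s * (s - 1) := by ring
          rw [this]
          exact dvd_sub h1 (h7.mul_right _)
        · have h8 : (r : ℤ) ∣ 3 := by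
            have : (3 : ℤ) = (s ^ 2 - s + 1) - (s + 1) * (s - 2) := by ring
            rw [this]
            exact dvd_sub h1 (h7.mul_right _)
          have h9 : r ∣ 3 := by exact_mod_cast h8
          exact hr3 ((Nat.prime_dvd_prime_iff_eq hr Nat.prime_three).1 h9)
      · have h7 : (r : ℤ) ∣ s := by
          have : s = (s ^ 2 + 1) - (s ^ 2 - s + 1) := by ring
          rw [this]
          exact dvd_sub h6' h1
        apply nd1
        have : (1 : ℤ) = (s ^ 2 - s + 1) - s * (s - 1) := by ring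
        rw [this]
        exact dvd_sub h1 (h7.mul_right _)
  have h9 : ¬ 9 ∣ n := by
    intro h1
    have h2 : (9 : ℤ) ∣ s ^ 2 - s + 1 := by rw [← hn]; exact_mod_cast h1
    have h3 := Int.emod_eq_zero_of_dvd h2
    have h4 : s % 9 = 0 ∨ s % 9 = 1 ∨ s % 9 = 2 ∨ s % 9 = 3 ∨ s % 9 = 4 ∨ s % 9 = 5 ∨ s % 9 = 6 ∨ s % 9 = 7 ∨ s % 9 = 8 := by
      omega
    rcases h4 with h4 | h4 | h4 | h4 | h4 | h4 | h4 | h4 | h4 <;>
      simp [pow_two, Int.add_emod, Int.sub_emod, Int.mul_emod, h4] at h3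
  -- the gcd of `v ^ j` and `n`
  have hgcd : ∀ m : ℤ, m ∣ ((v ^ j : ℕ) : ℤ) → m ∣ (n : ℤ) → m ∣ 7 := by
    intro m h1 h2
    rw [hU] at h1
    rw [hn] at h2
    have h3 : m ∣ 2 * s - 3 := by
      have : 2 * s - 3 = (2 * (s ^ 4 + s ^ 3 + s ^ 2 + s + 1) - 1) - (s ^ 2 - s + 1) * (2 * s ^ 2 + 4 * s + 4) := by ring
      rw [this]
      exact dvd_sub h1 (h2.mul_right _)
    have : (7 : ℤ) = (s ^ 2 - s + 1) * 4 - (2 * s - 3) * (2 * s + 1) := by ring
    rw [this]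
    exact dvd_sub (h2.mul_right _) (h3.mul_right _)
  have hUbig : (121 : ℤ) ≤ ((v ^ j : ℕ) : ℤ) := by
    rw [hU]
    rcases hs3 with h1 | h1
    · nlinarith [sq_nonneg (s ^ 2), mul_nonneg (show (0 : ℤ) ≤ s - 3 by omega) (show (0 : ℤ) ≤ s - 3 by omega)]
    · obtain ⟨t, ht⟩ : ∃ t : ℤ, s = -t - 3 := ⟨-s - 3, by ring⟩
      have ht0 : 0 ≤ t := by omega
      rw [ht]
      have : 2 * ((-t - 3) ^ 4 + (-t - 3) ^ 3 + (-t - 3) ^ 2 + (-t - 3) + 1) - 1 =
        121 + (2 * t ^ 4 + 22 * t ^ 3 + 92 * t ^ 2 + 172 * t) := by ring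
      rw [this]
      have h2 : 0 ≤ 2 * t ^ 4 + 22 * t ^ 3 + 92 * t ^ 2 + 172 * t := by positivity
      linarith
  have hj : 1 ≤ j := by
    by_contra hcon
    have : j = 0 := by omega
    rw [this, pow_zero] at hUbig
    norm_num at hUbig
  have h7 : v = 7 := by
    by_contra hv7
    have hvn : ¬ v ∣ n := by
      intro h1
      have h2 := hgcd v (by exact_mod_cast dvd_pow_self v (by omega)) (by exact_mod_cast h1)
      have h3 : v ∣ 7 := by exact_mod_cast h2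
      exact hv7 ((Nat.prime_dvd_prime_iff_eq hv (by norm_num)).1 h3)
    have h1 : n ∣ 3 := by
      rw [Nat.dvd_iff_prime_pow_dvd_dvd]
      intro r k hr hk
      rcases Nat.eq_zero_or_pos k with h0 | h0
      · rw [h0, pow_zero]; exact one_dvd _
      have h2 : r ∣ n := (dvd_pow_self r (by omega)).trans hk
      rcases hprime r hr h2 with h3 | h3
      · rw [h3] at hk ⊢
        rcases Nat.lt_or_ge k 2 with h4 | h4
        · rw [show k = 1 by omega, pow_one]
        · exact absurd ((pow_dvd_pow 3 h4).trans hk) h9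
      · rw [h3] at h2
        exact absurd h2 hvn
    have h2 := Nat.le_of_dvd (by norm_num) h1
    have h3 : (n : ℤ) ≤ 3 := by exact_mod_cast h2
    omega
  subst h7
  have hj3 : 3 ≤ j := by
    by_contra hcon
    have : j = 1 ∨ j = 2 := by omega
    rcases this with h1 | h1 <;> rw [h1] at hUbig <;> norm_num at hUbig
  have h49U : (49 : ℤ) ∣ ((7 ^ j : ℕ) : ℤ) := by
    have : 7 ^ 2 ∣ 7 ^ j := pow_dvd_pow 7 (by omega)
    exact_mod_cast this
  have h49 : ¬ 49 ∣ n := by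
    intro h1
    have h2 := hgcd 49 h49U (by exact_mod_cast h1)
    norm_num at h2
  have h1 : n ∣ 21 := by
    rw [Nat.dvd_iff_prime_pow_dvd_dvd]
    intro r k hr hk
    rcases Nat.eq_zero_or_pos k with h0 | h0
    · rw [h0, pow_zero]; exact one_dvd _
    have h2 : r ∣ n := (dvd_pow_self r (by omega)).trans hk
    rcases hprime r hr h2 with h3 | h3
    · rw [h3] at hk ⊢
      rcases Nat.lt_or_ge k 2 with h4 | h4
      · rw [show k = 1 by omega, pow_one]; norm_num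
      · exact absurd ((pow_dvd_pow 3 h4).trans hk) h9
    · rw [h3] at hk ⊢
      rcases Nat.lt_or_ge k 2 with h4 | h4
      · rw [show k = 1 by omega, pow_one]; norm_num
      · exact absurd ((pow_dvd_pow 7 h4).trans hk) h49
  have h2 := Nat.le_of_dvd (by norm_num) h1
  have h3 : s ^ 2 - s + 1 ≤ 21 := by rw [← hn]; exact_mod_cast h2
  have h4 : s ≤ 5 := by nlinarith
  have h5 : -4 ≤ s := by nlinarith
  have h8 : s = -3 ∨ s = 3 ∨ s = 5 := by omega
  rw [hU] at h49U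
  rcases h8 with rfl | rfl | rfl
  · norm_num at h49U
  · norm_num at h49U
  · norm_num at h49U

end Cfsg.Agent.R2.Spec.X7.N6
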