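import Cfsg.Agent.R2.Spec.X7.N6.TopFam
import Cfsg.Agent.R2.Spec.X5.TorB

/-!
# Box X7, `n = 6` (helper15, S3435): the top case, the groups
-/

set_option autoImplicit false
set_option linter.unusedSectionVars false
set_option linter.unusedVariables false

namespace Cfsg.Agent.R2.Spec.X7.N6

open Subgroup Cfsg
open Cfsg.Agent.H426.LieFam Cfsg.Agent.R2.Spec Cfsg.Agent.R2.Spec.P1 Cfsg.Agent.R2.Spec.F1
open Cfsg.Agent.H72 Cfsg.Agent.H420.QR Cfsg.Agent.R2.Spec.E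

universe u w

/-- from `x` of order `N / c`, `c ∣ 2` -/
theorem exists_quot {X : Type*} [Group X] {u m : ℕ} (hu : 2 ≤ u) (hm : 1 ≤ m)
    (h : ∃ x : X, ∃ c, c ∣ 2 ∧ orderOf x * c = u ^ m - 1) : ∃ x : X, orderOf x = (u ^ m - 1) / Nat.gcd 2 (u - 1) := by
  obtain ⟨x, c, hc, hx⟩ := h
  have e1 := pow_mod_two (u := u) hm
  have p1 : 1 < u ^ m := Nat.one_lt_pow (by omega) (by omega)
  have hpos : 0 < u ^ m - 1 := by omega
  have hox : orderOf x ≠ 0 := by
    intro h0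
    rw [h0, zero_mul] at hx
    omega
  have hc2 : c = 1 ∨ c = 2 := (Nat.dvd_prime Nat.prime_two).1 hc
  rcases Nat.mod_two_eq_zero_or_one u with hev | hod
  · have hg : Nat.gcd 2 (u - 1) = 1 := (Nat.coprime_two_left).2 (Nat.odd_iff.2 (by omega))
    rw [hg, Nat.div_one]
    rcases hc2 with rfl | rfl
    · exact ⟨x, by rw [← hx, mul_one]⟩
    · exfalso
      omega
  · have hg : Nat.gcd 2 (u - 1) = 2 := Nat.gcd_eq_left (by omega)
    rw [hg]
    rcases hc2 with rfl | rfl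
    · refine exists_dvd_order hox ?_ ⟨x, rfl⟩
      rw [mul_one] at hx
      rw [hx]
      exact Nat.div_dvd_of_dvd (by omega)
    · exact ⟨x, by omega⟩

/-- the torus of order `(u ^ m - 1) / 2` -/
theorem exists_split {t' : Fam} {v f' m : ℕ} {X : Type u} [Group X] (hv : v.Prime) (h : Fam.Is v f' X t')
    (ht : t' = .psp m ∨ t' = .oodd m) :
    ∃ x : X, orderOf x = ((v ^ f') ^ m - 1) / Nat.gcd 2 (v ^ f' - 1) := by
  rcases ht with rfl | rfl
  · obtain ⟨hm, -, F, _, _, hch, hF, ⟨E⟩⟩ := h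
    have hu : 2 ≤ v ^ f' := by rw [← hF]; exact Fintype.one_lt_card
    refine exists_quot hu (by omega) ?_
    obtain ⟨A, hA⟩ := Cfsg.Agent.H376.SpEmb.exists_minus F m (by omega)
    rw [Nat.card_eq_fintype_card, hF] at hA
    obtain ⟨x, c, hc, hx⟩ := Cfsg.Agent.R2.Spec.X5.psp_of_sp hA
    exact ⟨E.symm x, c, hc, by rw [MulEquiv.orderOf_eq, hx]⟩
  · obtain ⟨hm, hodd, F, _, _, hch, hF, ⟨E⟩⟩ := h
    have hu : 2 ≤ v ^ f' := by rw [← hF]; exact Fintype.one_lt_card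
    refine exists_quot hu (by omega) ?_
    have h2 : (2 : F) ≠ 0 := by
      intro h2
      have h3 : ((2 : ℕ) : F) = 0 := by exact_mod_cast h2
      rw [CharP.cast_eq_zero_iff F v] at h3
      have h4 := (Nat.prime_dvd_prime_iff_eq hv Nat.prime_two).1 h3
      rw [h4] at hodd
      have h5 : f' ≠ 0 := by
        rintro rfl
        simp at hu
      exact (Nat.not_even_iff_odd.2 hodd) (Nat.even_pow.2 ⟨even_two, h5⟩)
    have hel : Cfsg.Agent.H377.Elt F m 1 ((v ^ f') ^ m - 1) :=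
      Cfsg.Agent.H377.elt_tor_plus (by omega) (by rw [Nat.card_eq_fintype_card, hF])
    obtain ⟨x, c, hc, hx⟩ := Cfsg.Agent.R2.Spec.X5.odd_of_elt h2 hm le_rfl hel
    exact ⟨E.symm x, c, hc, by rw [MulEquiv.orderOf_eq, hx]⟩

variable {t : Fam} {p f : ℕ} {L : Type w} [Group L] [Finite L] {G : Type u} [Group G] [Finite G]
variable {K : Subgroup G} [K.Normal] {S : Subgroup (G ⧸ K)} [S.Normal] {t' : Fam} {v f' : ℕ} {c c5 M : ℕ}

namespace Ctx

theorem M_odd (X : Ctx t p f L G K S t' v f' c c5 M) {r : ℕ} (hr : r.Prime) (hrM : r ∣ M) : r ≠ 2 := by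
  rintro rfl
  have h1 := X.n.cop_d
  have h2 : (2 : ℤ) ∣ sg t (p ^ f) - 1 := by
    obtain ⟨k, hk⟩ := X.n.odd_s
    exact ⟨k, by rw [hk]; ring⟩
  have h3 : (2 : ℤ) ∣ M := by exact_mod_cast hrM
  have h4 := h1.isUnit_of_dvd' h3 h2
  have h5 := Int.natAbs_of_isUnit h4
  norm_num at h5

theorem rkB (X : Ctx t p f L G K S t' v f' c c5 M) (hS : BigS t') : RkB t' := by
  have hi := X.hF.is
  obtain ⟨hc, h1, h2, h3, h4⟩ := hS
  cases t' with
  | psl m =>
    have h5 : 2 ≤ m := hi.1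
    change 4 ≤ m
    rcases Nat.lt_or_ge m 4 with h6 | h6
    · exfalso
      interval_cases m
      · exact h1 rfl
      · exact h2 rfl
    · exact h6
  | psu m =>
    have h5 : 3 ≤ m := hi.1
    change 4 ≤ m
    rcases Nat.lt_or_ge m 4 with h6 | h6
    · exfalso
      interval_cases m
      exact h3 rfl
    · exact h6
  | psp m =>
    have h5 : 2 ≤ m := hi.1
    change 3 ≤ m
    rcases Nat.lt_or_ge m 3 with h6 | h6
    · exfalso
      interval_cases m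
      exact h4 rfl
    · exact h6
  | oodd m => exact hi.1
  | oplus m => exact hi.1
  | ominus m => exact hi.1
  | _ => exact hc.elim

theorem ne_v (X : Ctx t p f L G K S t' v f' c c5 M) (hS : BigS t') {r : ℕ} (hr : r.Prime) (hrM : r ∣ M) : r ≠ v := by
  have t6 := X.t6
  refine LS.iso_ne_v_aux X.h X.hR X.hF hS X.p2 X.vp.symm (X.in5 hr hrM) (t6.nap_iff.2 (by norm_num)) (a := 3) (b := 4)
    le_rfl (t6.mem_iff.2 (by norm_num)) (by norm_num) (t6.mem_iff.2 (by norm_num)) ?_ ?_ t6.n34 ?_ ?_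
  · exact t6.na_iff.2 (by decide)
  · exact t6.na_iff.2 (by decide)
  · rw [t6.nap_iff]; norm_num
  · rw [t6.nap_iff]; norm_num

/-- the data of the top case -/
theorem top_data (X : Ctx t p f L G K S t' v f' c c5 M) (hS : BigS t') {r : ℕ} (hr : r.Prime) (hrM : r ∣ M)
    (hna : ¬ ∃ g : S, orderOf g = v * r) :
    3 ≤ cls t' (v ^ f') r ∧ top t' (cls t' (v ^ f') r) ∧ ∃ e : ℕ, ttor t' (v ^ f') (cls t' (v ^ f') r) = M * e ∧
      (c * e : ℤ) ∣ c5 * (sg t (p ^ f) - 1) ∧ ∀ x : S, r ∣ orderOf x → orderOf x ∣ M * e := by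
  have hrv := X.ne_v hS hr hrM
  have hr2 := X.M_odd hr hrM
  have hrS := (X.good5 hr hrM).2
  obtain ⟨h3, hn⟩ := X.hF.v_nap hS hr hr2 hrv hrS hna
  have htop := top_of_iso X.hF.cla h3 (Frm.mem_of_dvd X.hF hr hr2 h3 hrS) hn
  have T := top_facts_all X.hF.cla X.hF.prime X.hF.is
  have hrnv : ¬ r ∣ v := fun h => hrv ((Nat.prime_dvd_prime_iff_eq hr X.hF.prime).1 h)
  obtain ⟨x, hx⟩ := X.eltM
  obtain ⟨e, he⟩ := T.ub r hr hrnv htop x (by rw [hx]; exact hrM)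
  rw [hx] at he
  refine ⟨h3, htop, e, he, ?_, fun y hy => ?_⟩
  · obtain ⟨y, hy⟩ := T.elt _ htop
    refine X.n.up_top ?_
    rw [← he, ← hy]
    exact X.upS y
  · rw [← he]
    exact T.ub r hr hrnv htop y hy

/-- **The top case for large `q`.** -/
theorem top_big (X : Ctx t p f L G K S t' v f' c c5 M) (hS : BigS t') (hq11 : 11 ≤ p ^ f) (hq41 : c5 = 5 → 41 ≤ p ^ f)
    (h4 : t' = .psl 4 ∨ t' = .psu 4 → c5 = 5 → 71 ≤ p ^ f) {i e : ℕ} (htop : top t' i) (hT : ttor t' (v ^ f') i = M * e)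
    (he : (c * e : ℤ) ∣ c5 * (sg t (p ^ f) - 1)) :
    p ^ f = p ∧ An t' i ∧ ZCase t' (v ^ f') (sg t (p ^ f)) c5 M e := by
  have T := top_facts_all X.hF.cla X.hF.prime X.hF.is
  have hf'0 : f' ≠ 0 := X.hF.f_ne
  have hu : 2 ≤ v ^ f' := (Nat.one_lt_pow hf'0 X.hF.prime.one_lt)
  have hcop : IsCoprime (sg t (p ^ f)) ((v ^ f' : ℕ) : ℤ) := by
    have h1 : Nat.Coprime (p ^ f) (v ^ f') := Nat.Coprime.pow _ _ ((Nat.coprime_primes X.h.prime X.hF.prime).2 X.vp.symm)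
    have h2 := Nat.isCoprime_iff_coprime.2 h1
    rcases X.n.hs with h3 | h3
    · rw [h3]; exact h2
    · rw [h3]; exact h2.neg_left
  have z : Z0 p (p ^ f) (sg t (p ^ f)) c c5 M (v ^ f') e := ⟨X.n, hq11, hq41, hu, hcop, he⟩
  refine TN.top_num ⟨z⟩ (X.rkB hS) h4 htop hT (fun j hj => ?_) (fun m hm => ?_)
  · obtain ⟨x, hx⟩ := T.elt j hj
    rw [← hx]
    exact X.upS x
  · obtain ⟨x, hx⟩ := exists_split X.hF.prime X.hF.is hm
    rw [← hx]
    exact X.upS x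

end Ctx

end Cfsg.Agent.R2.Spec.X7.N6
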