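import Cfsg.Agent.R2.Spec.X7.N6.TopNum
import Cfsg.Agent.R2.Spec.F1.MovCl

/-!
# Box X7, `n = 6` (helper15, S3435): the top case, the families
-/

set_option autoImplicit false
set_option linter.unusedVariables false
set_option maxHeartbeats 1000000

namespace Cfsg.Agent.R2.Spec.X7.N6

open Cfsg.Agent.H426.LieFam Cfsg.Agent.R2.Spec Cfsg.Agent.R2.Spec.P1 Cfsg.Agent.R2.Spec.F1

lemma cast_div {A g : ℕ} {z : ℤ} (h : g ∣ A) (hz : (A : ℤ) = z) : ((A / g : ℕ) : ℤ) * g = z := by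
  rw [← Nat.cast_mul, Nat.div_mul_cancel h, hz]

lemma pow_sub_one_cast {u m : ℕ} (hu : 1 ≤ u) : ((u ^ m - 1 : ℕ) : ℤ) = (u : ℤ) ^ m - 1 := by
  rw [Nat.cast_sub (Nat.one_le_pow _ _ hu)]
  push_cast
  ring

lemma g2_sub {u m : ℕ} : Nat.gcd 2 (u - 1) ∣ u ^ m - 1 := by
  have := Nat.sub_dvd_pow_sub_pow u 1 m
  rw [one_pow] at this
  exact (Nat.gcd_dvd_right 2 (u - 1)).trans this

lemma g2_add {u m : ℕ} (hu : 1 ≤ u) : Nat.gcd 2 (u - 1) ∣ u ^ m + 1 := by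
  have h1 : u ^ m + 1 = (u ^ m - 1) + 2 := by
    have := Nat.one_le_pow m u hu
    omega
  rw [h1]
  exact (Nat.dvd_add g2_sub (Nat.gcd_dvd_left _ _))

lemma g4_dvd {u a b x : ℕ} (h1 : u % 2 = 1 → 2 ∣ a ∧ 2 ∣ b) (h2 : u % 2 = 0 → x % 2 = 1) : Nat.gcd 4 x ∣ a * b := by
  rcases Nat.mod_two_eq_zero_or_one u with h | h
  · have h3 := h2 h
    have h4 : Nat.Coprime 2 x := (Nat.coprime_two_left).2 (Nat.odd_iff.2 h3)
    have h5 : Nat.Coprime 4 x := by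
      have := Nat.Coprime.pow_left 2 h4
      simpa using this
    rw [h5]
    exact one_dvd _
  · obtain ⟨h3, h4⟩ := h1 h
    exact (Nat.gcd_dvd_left _ _).trans (by simpa using Nat.mul_dvd_mul h3 h4)

lemma pow_mod_two {u : ℕ} {m : ℕ} (hm : 1 ≤ m) : (u ^ m) % 2 = u % 2 := by
  rw [Nat.pow_mod]
  rcases Nat.mod_two_eq_zero_or_one u with h | h
  · rw [h, zero_pow (by omega), Nat.zero_mod]
  · rw [h, one_pow, Nat.one_mod]

variable {p q : ℕ} {s : ℤ} {c c5 M : ℕ} {u e : ℕ}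

theorem datC_oplus {u m : ℕ} (hu : 2 ≤ u) (hm : 4 ≤ m) (hm2 : m % 2 = 1) :
    TN.DatC u m 1 (u + 1) (Nat.gcd 4 (u ^ m - 1)) (ttor (.oplus m) u m) (ttor (.oplus m) u (2 * (m - 1))) := by
  have t1 : ttor (.oplus m) u m = (u ^ m - 1) / Nat.gcd 4 (u ^ m - 1) := by rw [ttor, if_pos rfl]
  have t2 : ttor (.oplus m) u (2 * (m - 1)) = (u ^ (m - 1) + 1) * (u + 1) / Nat.gcd 4 (u ^ m - 1) := by
    rw [ttor, if_neg (by omega), if_neg (by omega), if_neg (by omega)]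
  have e1 := pow_mod_two (u := u) (m := m) (by omega)
  have e2 := pow_mod_two (u := u) (m := m - 1) (by omega)
  have p1 : 1 ≤ u ^ m := Nat.one_le_pow _ _ (by omega)
  refine ⟨hm, Or.inl rfl, by push_cast; ring, fun _ => hm2, Nat.gcd_dvd_left _ _, ?_, ?_⟩
  · rw [t1]
    exact cast_div (Nat.gcd_dvd_right _ _) (pow_sub_one_cast (by omega))
  · rw [t2]
    refine cast_div (g4_dvd (u := u) (fun h => ⟨by omega, by omega⟩) (fun h => by omega)) ?_
    push_cast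
    ring

theorem datC_ominus {u m : ℕ} (hu : 2 ≤ u) (hm : 4 ≤ m) :
    TN.DatC u m (-1) (u - 1) (Nat.gcd 4 (u ^ m + 1)) (ttor (.ominus m) u (2 * m)) (ttor (.ominus m) u (2 * (m - 1))) := by
  have t1 : ttor (.ominus m) u (2 * m) = (u ^ m + 1) / Nat.gcd 4 (u ^ m + 1) := by rw [ttor, if_pos rfl]
  have t2 : ttor (.ominus m) u (2 * (m - 1)) = (u ^ (m - 1) + 1) * (u - 1) / Nat.gcd 4 (u ^ m + 1) := by
    rw [ttor, if_neg (by omega), if_neg (by omega)]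
  have e1 := pow_mod_two (u := u) (m := m) (by omega)
  have e2 := pow_mod_two (u := u) (m := m - 1) (by omega)
  have hcast : ((u - 1 : ℕ) : ℤ) = (u : ℤ) - 1 := by rw [Nat.cast_sub (by omega)]; norm_num
  refine ⟨hm, Or.inr rfl, by rw [hcast]; ring, fun h => by norm_num at h, Nat.gcd_dvd_left _ _, ?_, ?_⟩
  · rw [t1]
    exact cast_div (Nat.gcd_dvd_right _ _) (by push_cast; ring)
  · rw [t2]
    refine cast_div (g4_dvd (u := u) (fun h => ⟨by omega, by omega⟩) (fun h => by omega)) ?_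
    rw [Nat.cast_mul, hcast]
    push_cast
    ring

/-- **The numbers of the top case.** -/
theorem TN.top_num (h : TN p q s c c5 M u e) {t' : Fam} (hr : RkB t') (h4 : t' = .psl 4 ∨ t' = .psu 4 → c5 = 5 → 71 ≤ q)
    {i : ℕ} (htop : top t' i) (hT : ttor t' u i = M * e) (hup : ∀ j, top t' j → Up p s c (ttor t' u j))
    (hup2 : ∀ m, t' = .psp m ∨ t' = .oodd m → Up p s c ((u ^ m - 1) / Nat.gcd 2 (u - 1))) :
    q = p ∧ An t' i ∧ ZCase t' u s c5 M e := by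
  have hu := h.z.u2
  -- the symplectic families
  have keyB : ∀ m : ℕ, 3 ≤ m → ∀ {j : ℕ}, (ttor t' u i = (u ^ m + 1) / Nat.gcd 2 (u - 1) ∧ Up p s c ((u ^ m - 1) / Nat.gcd 2 (u - 1))) ∨
      (ttor t' u i = (u ^ m - 1) / Nat.gcd 2 (u - 1) ∧ Up p s c ((u ^ m + 1) / Nat.gcd 2 (u - 1))) →
      q = p ∧ ttor t' u i = (u ^ m + 1) / Nat.gcd 2 (u - 1) ∧ (u : ℤ) ^ m + 1 = 2 * (s ^ 4 + s ^ 3 + s ^ 2 + s + 1) ∧ e ∣ 2 * c5 := by
    intro m hm j hj
    have a1 : (((u ^ m + 1) / Nat.gcd 2 (u - 1) : ℕ) : ℤ) * (Nat.gcd 2 (u - 1) : ℕ) = (u : ℤ) ^ m + 1 :=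
      cast_div (g2_add (by omega)) (by push_cast; ring)
    have a2 : (((u ^ m - 1) / Nat.gcd 2 (u - 1) : ℕ) : ℤ) * (Nat.gcd 2 (u - 1) : ℕ) = (u : ℤ) ^ m - 1 :=
      cast_div g2_sub (pow_sub_one_cast (by omega))
    rcases hj with ⟨h1, h2⟩ | ⟨h1, h2⟩
    · rw [h1] at hT
      obtain ⟨h3, -, h5, h6⟩ := h.caseB hm (Or.inl rfl) (Nat.gcd_dvd_left _ _) a1 a2 hT h2
      exact ⟨h3, h1, h5, h6⟩
    · rw [h1] at hT
      obtain ⟨h3, h5, -⟩ := h.caseB (ε := -1) hm (Or.inr rfl) (Nat.gcd_dvd_left _ _) (by rw [a2]; ring) (by rw [a1]; ring) hT h2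
      norm_num at h5
  cases t' with
  | psl m =>
    have hm : 4 ≤ m := hr
    have h4' : m = 4 → c5 = 5 → 71 ≤ q := fun hh => h4 (Or.inl (by rw [hh]))
    obtain ⟨d, w, D⟩ := datA_psl hu hm
    obtain ⟨h3, h5⟩ := htop
    rcases h5 with rfl | h5
    · obtain ⟨h6, h7, h8⟩ := h.caseA1 hm D h4' hT (hup (i - 1) ⟨by omega, Or.inr (by omega)⟩)
      exact ⟨h6, rfl, Or.inl ⟨i, rfl, hm, h7, h8⟩⟩
    · obtain rfl : i = m - 1 := by omega
      obtain ⟨h6, h7, h8, h9, -⟩ := h.caseA2 hm D h4' hT (hup m ⟨by omega, Or.inl rfl⟩)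
      rw [h7] at h9
      norm_num at h9
  | psu m =>
    have hm : 4 ≤ m := hr
    have h4' : m = 4 → c5 = 5 → 71 ≤ q := fun hh => h4 (Or.inr (by rw [hh]))
    obtain ⟨d, w, D⟩ := datA_psu hu hm
    obtain ⟨h3, h5⟩ := htop
    rcases h5 with rfl | h5
    · obtain ⟨h6, h7, h8⟩ := h.caseA1 hm D h4' hT (hup (i - 1) ⟨by omega, Or.inr (by omega)⟩)
      have hu' : (2 : ℤ) ≤ u := by exact_mod_cast hu
      have hX : (1 : ℤ) ≤ (u : ℤ) ^ i := one_le_pow₀ (by linarith)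
      have hphi : 0 < s ^ 4 + s ^ 3 + s ^ 2 + s + 1 := by nlinarith [sq_nonneg (s ^ 2 + s), sq_nonneg (s + 1), sq_nonneg s]
      rcases Nat.even_or_odd i with hev | hod
      · exfalso
        rw [hev.neg_pow] at h7
        nlinarith
      · rw [hod.neg_pow] at h7
        refine ⟨h6, ⟨Nat.odd_iff.1 hod, Or.inl rfl⟩, Or.inr (Or.inl ⟨i, rfl, hm, Nat.odd_iff.1 hod, by linarith, h8⟩)⟩
    · obtain rfl : i = m - 1 := by omega
      obtain ⟨h6, h7, h8, h9, h10, h11, h12⟩ := h.caseA2 hm D h4' hT (hup m ⟨by omega, Or.inl rfl⟩)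
      exact ⟨h6, ⟨by omega, Or.inr (by omega)⟩, Or.inr (Or.inr (Or.inl ⟨m, rfl, hm, h10, h7, h8, h11, h12⟩))⟩
  | psp m =>
    have hm : 3 ≤ m := hr
    have t1 : ttor (.psp m) u (2 * m) = (u ^ m + 1) / Nat.gcd 2 (u - 1) := by rw [ttor, if_pos rfl]
    have t2 : ttor (.psp m) u m = (u ^ m - 1) / Nat.gcd 2 (u - 1) := by rw [ttor, if_neg (by omega)]
    have hN1 : Up p s c ((u ^ m + 1) / Nat.gcd 2 (u - 1)) := by
      rw [← t1]
      exact hup _ (Or.inl rfl)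
    have hN2 := hup2 m (Or.inl rfl)
    rcases htop with h5 | ⟨h5, h6⟩
    · obtain ⟨a1, a2, a3, a4⟩ := keyB m hm (j := 0) (Or.inl ⟨by rw [h5, t1], hN2⟩)
      exact ⟨a1, h5, Or.inr (Or.inr (Or.inr ⟨m, Or.inl rfl, hm, a3, a4⟩))⟩
    · exfalso
      obtain ⟨a1, a2, a3, a4⟩ := keyB m hm (j := 0) (Or.inr ⟨by rw [h5, t2], hN1⟩)
      rw [h5, t2] at a2
      have h7 := congrArg (fun z : ℕ => (z : ℤ) * (Nat.gcd 2 (u - 1) : ℕ)) a2
      beta_reduce at h7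
      rw [cast_div g2_sub (pow_sub_one_cast (by omega)), cast_div (g2_add (by omega)) (show ((u ^ m + 1 : ℕ) : ℤ) = (u : ℤ) ^ m + 1 by
        push_cast; ring)] at h7
      linarith
  | oodd m =>
    have hm : 3 ≤ m := hr
    have t1 : ttor (.oodd m) u (2 * m) = (u ^ m + 1) / Nat.gcd 2 (u - 1) := by rw [ttor, if_pos rfl]
    have t2 : ttor (.oodd m) u m = (u ^ m - 1) / Nat.gcd 2 (u - 1) := by rw [ttor, if_neg (by omega)]
    have hN1 : Up p s c ((u ^ m + 1) / Nat.gcd 2 (u - 1)) := by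
      rw [← t1]
      exact hup _ (Or.inl rfl)
    have hN2 := hup2 m (Or.inr rfl)
    rcases htop with h5 | ⟨h5, h6⟩
    · obtain ⟨a1, a2, a3, a4⟩ := keyB m hm (j := 0) (Or.inl ⟨by rw [h5, t1], hN2⟩)
      exact ⟨a1, h5, Or.inr (Or.inr (Or.inr ⟨m, Or.inr (Or.inl rfl), hm, a3, a4⟩))⟩
    · exfalso
      obtain ⟨a1, a2, a3, a4⟩ := keyB m hm (j := 0) (Or.inr ⟨by rw [h5, t2], hN1⟩)
      rw [h5, t2] at a2
      have h7 := congrArg (fun z : ℕ => (z : ℤ) * (Nat.gcd 2 (u - 1) : ℕ)) a2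
      beta_reduce at h7
      rw [cast_div g2_sub (pow_sub_one_cast (by omega)), cast_div (g2_add (by omega)) (show ((u ^ m + 1 : ℕ) : ℤ) = (u : ℤ) ^ m + 1 by
        push_cast; ring)] at h7
      linarith
  | oplus m =>
    have hm : 4 ≤ m := hr
    by_cases hm2 : m % 2 = 1
    · have D := datC_oplus hu hm hm2
      exfalso
      rcases htop with ⟨h5, -⟩ | h5 | ⟨h5, h6⟩
      · subst h5
        exact h.caseC1 D hT (hup _ (Or.inr (Or.inl rfl)))
      · subst h5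
        exact h.caseC2 D hT (hup _ (Or.inl ⟨rfl, hm2⟩))
      · omega
    · have t1 : ttor (.oplus m) u (2 * (m - 1)) = (u ^ (m - 1) + 1) / Nat.gcd 2 (u - 1) := by
        rw [ttor, if_neg (by omega), if_neg (by omega), if_pos (by omega)]
      have t2 : ttor (.oplus m) u (m - 1) = (u ^ (m - 1) - 1) / Nat.gcd 2 (u - 1) := by
        rw [ttor, if_neg (by omega), if_pos rfl]
      have hN1 : Up p s c ((u ^ (m - 1) + 1) / Nat.gcd 2 (u - 1)) := by
        rw [← t1]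
        exact hup _ (Or.inr (Or.inl rfl))
      have hN2 : Up p s c ((u ^ (m - 1) - 1) / Nat.gcd 2 (u - 1)) := by
        rw [← t2]
        exact hup _ (Or.inr (Or.inr ⟨rfl, by omega⟩))
      rcases htop with ⟨h5, h6⟩ | h5 | ⟨h5, h6⟩
      · omega
      · obtain ⟨a1, a2, a3, a4⟩ := keyB (m - 1) (by omega) (j := 0) (Or.inl ⟨by rw [h5, t1], hN2⟩)
        refine ⟨a1, ?_, Or.inr (Or.inr (Or.inr ⟨m - 1, Or.inr (Or.inr (by rw [Nat.sub_add_cancel (by omega)])), by omega, a3, a4⟩))⟩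
        change i + 2 = 2 * m
        omega
      · exfalso
        obtain ⟨a1, a2, a3, a4⟩ := keyB (m - 1) (by omega) (j := 0) (Or.inr ⟨by rw [h5, t2], hN1⟩)
        rw [h5, t2] at a2
        have h7 := congrArg (fun z : ℕ => (z : ℤ) * (Nat.gcd 2 (u - 1) : ℕ)) a2
        beta_reduce at h7
        rw [cast_div g2_sub (pow_sub_one_cast (by omega)), cast_div (g2_add (by omega))
          (show ((u ^ (m - 1) + 1 : ℕ) : ℤ) = (u : ℤ) ^ (m - 1) + 1 by push_cast; ring)] at h7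
        linarith
  | ominus m =>
    have hm : 4 ≤ m := hr
    have D := datC_ominus hu hm
    exfalso
    rcases htop with h5 | h5 | ⟨h5, h6⟩
    · subst h5
      exact h.caseC1 D hT (hup _ (Or.inr (Or.inl rfl)))
    · subst h5
      exact h.caseC2 D hT (hup _ (Or.inl rfl))
    · subst h5
      have t2 : ttor (.ominus m) u (m - 1) = (u ^ (m - 1) - 1) * (u + 1) / Nat.gcd 4 (u ^ m + 1) := by
        rw [ttor, if_neg (by omega), if_pos rfl]
      have e1 := pow_mod_two (u := u) (m := m) (by omega)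
      have e2 := pow_mod_two (u := u) (m := m - 1) (by omega)
      have p1 : 1 ≤ u ^ (m - 1) := Nat.one_le_pow _ _ (by omega)
      have a2 : ((ttor (.ominus m) u (m - 1) : ℕ) : ℤ) * (Nat.gcd 4 (u ^ m + 1) : ℕ) = ((u : ℤ) ^ (m - 1) - 1) * (u + 1) := by
        rw [t2]
        refine cast_div (g4_dvd (u := u) (fun h => ⟨by omega, by omega⟩) (fun h => by omega)) ?_
        rw [Nat.cast_mul, pow_sub_one_cast (by omega)]
        push_cast
        ring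
      exact h.caseC3 hm h6 (Nat.gcd_dvd_left _ _) (by rw [D.e1]; ring) a2 hT (hup _ (Or.inl rfl))
  | _ => exact absurd hr (by simp [RkB])

end Cfsg.Agent.R2.Spec.X7.N6
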