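import Cfsg.Agent.R2.Spec.X7.N6.Tor
import Cfsg.Agent.R2.Spec.X7.N6.ZeroN

/-!
# Box X7, `n = 6` (helper15, S3435): the top case, numbers
-/

set_option autoImplicit false
set_option linter.unusedVariables false
set_option maxHeartbeats 1000000

namespace Cfsg.Agent.R2.Spec.X7.N6

open Cfsg.Agent.H426.LieFam Cfsg.Agent.R2.Spec Cfsg.Agent.R2.Spec.P1 Cfsg.Agent.R2.Spec.F1

/-- the ranks of the big classical groups -/
def RkB : Fam → Prop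
  | .psl m => 4 ≤ m
  | .psu m => 4 ≤ m
  | .psp m => 3 ≤ m
  | .oodd m => 3 ≤ m
  | .oplus m => 4 ≤ m
  | .ominus m => 4 ≤ m
  | _ => False

/-- the zero cases -/
def ZCase (t' : Fam) (u : ℕ) (s : ℤ) (c5 M e : ℕ) : Prop :=
  (∃ m, t' = .psl m ∧ 4 ≤ m ∧ ((u : ℤ) - 1) * (s ^ 4 + s ^ 3 + s ^ 2 + s + 1) = (u : ℤ) ^ m - 1 ∧ e ∣ c5) ∨
  (∃ m, t' = .psu m ∧ 4 ≤ m ∧ m % 2 = 1 ∧ ((u : ℤ) + 1) * (s ^ 4 + s ^ 3 + s ^ 2 + s + 1) = (u : ℤ) ^ m + 1 ∧ e ∣ c5) ∨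
  (∃ m, t' = .psu m ∧ 4 ≤ m ∧ m % 2 = 0 ∧ u = 5 ∧ c5 = 5 ∧ (5 : ℤ) ^ (m - 1) + 1 = 6 * M ∧ e ∣ 6) ∨
  (∃ k, (t' = .psp k ∨ t' = .oodd k ∨ t' = .oplus (k + 1)) ∧ 3 ≤ k ∧
    (u : ℤ) ^ k + 1 = 2 * (s ^ 4 + s ^ 3 + s ^ 2 + s + 1) ∧ e ∣ 2 * c5)

variable {p q : ℕ} {s : ℤ} {c c5 M : ℕ} {u e : ℕ}

/-- the hypotheses on the numbers -/
structure TN (p q : ℕ) (s : ℤ) (c c5 M u e : ℕ) : Prop where
  z : Z0 p q s c c5 M u e

namespace TN

theorem big (h : TN p q s c c5 M u e) : (c5 = 1 ∧ 11 ≤ q) ∨ (c5 = 5 ∧ 41 ≤ q) := by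
  rcases h.z.h.c5_or with h1 | h1
  · exact Or.inl ⟨h1, h.z.q11⟩
  · exact Or.inr ⟨h1, h.z.q41 h1⟩

theorem M_odd (h : TN p q s c c5 M u e) {r : ℕ} (hr : r.Prime) (hrM : r ∣ M) : r ≠ 2 := by
  rintro rfl
  have h1 := h.z.h.cop_d
  have h2 : (2 : ℤ) ∣ s - 1 := by
    obtain ⟨k, hk⟩ := h.z.h.odd_s
    exact ⟨k, by rw [hk]; ring⟩
  have h3 : (2 : ℤ) ∣ M := by exact_mod_cast hrM
  have h4 := h1.isUnit_of_dvd' h3 h2
  have h5 := Int.natAbs_of_isUnit h4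
  norm_num at h5

theorem dvd_two_false (h : TN p q s c c5 M u e) {r : ℕ} (hr : r.Prime) (hrM : r ∣ M) (h2 : (r : ℤ) ∣ 2) : False := by
  have h3 : r ∣ 2 := by exact_mod_cast h2
  exact h.M_odd hr hrM ((Nat.prime_dvd_prime_iff_eq hr Nat.prime_two).1 h3)

/-- the symplectic type relation -/
theorem copB (h : TN p q s c c5 M u e) {T N g D : ℕ} {ε : ℤ} (hMT : M ∣ T) (h1 : (T : ℤ) * g = (u : ℤ) ^ D + ε)
    (h2 : (N : ℤ) * g = (u : ℤ) ^ D - ε) (hε : ε = 1 ∨ ε = -1) : Nat.Coprime N M := by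
  refine Nat.coprime_of_dvd fun r hr hrN hrM => ?_
  have h3 : (r : ℤ) ∣ (T : ℤ) * g := Dvd.dvd.mul_right (by exact_mod_cast hrM.trans hMT) _
  have h4 : (r : ℤ) ∣ (N : ℤ) * g := Dvd.dvd.mul_right (by exact_mod_cast hrN) _
  have h5 : (r : ℤ) ∣ 2 * ε := by
    have := dvd_sub h3 h4
    rw [h1, h2] at this
    rwa [show ((u : ℤ) ^ D + ε) - (u ^ D - ε) = 2 * ε by ring] at this
  refine h.dvd_two_false hr hrM ?_
  rcases hε with rfl | rfl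
  · rwa [mul_one] at h5
  · rwa [mul_neg, mul_one, dvd_neg] at h5

/-- the orthogonal type relation: `X g = u ^ m - ε`, `b = u + ε'` -/
theorem copC (h : TN p q s c c5 M u e) {T N : ℕ} {α β γ : ℤ} {X g m : ℕ} {b : ℤ} (hMT : M ∣ T)
    (hrel : α * T + β * N = γ) (hγ : γ * g = b ^ 2 ∨ γ * g = - b ^ 2) (hX : X = T ∨ X = N)
    (hmod : b ∣ (X : ℤ) * g - 2 ∨ b ∣ (X : ℤ) * g + 2) : Nat.Coprime N M := by
  refine Nat.coprime_of_dvd fun r hr hrN hrM => ?_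
  have hrT : (r : ℤ) ∣ T := by exact_mod_cast hrM.trans hMT
  have hrN' : (r : ℤ) ∣ N := by exact_mod_cast hrN
  have h3 : (r : ℤ) ∣ γ := by
    rw [← hrel]
    exact dvd_add (hrT.mul_left _) (hrN'.mul_left _)
  have hrp : Prime (r : ℤ) := Nat.prime_iff_prime_int.1 hr
  have h4 : (r : ℤ) ∣ b := by
    have h5 : (r : ℤ) ∣ b ^ 2 := by
      rcases hγ with h6 | h6
      · rw [← h6]; exact h3.mul_right _
      · rw [← dvd_neg, ← h6]; exact h3.mul_right _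
    exact hrp.dvd_of_dvd_pow h5
  have h5 : (r : ℤ) ∣ (X : ℤ) * g := by
    rcases hX with rfl | rfl
    · exact hrT.mul_right _
    · exact hrN'.mul_right _
  refine h.dvd_two_false hr hrM ?_
  rcases hmod with h6 | h6
  · have := dvd_sub h5 (h4.trans h6)
    rwa [show (X : ℤ) * g - (X * g - 2) = 2 by ring] at this
  · have := dvd_sub (h4.trans h6) h5
    rwa [show (X : ℤ) * g + 2 - X * g = 2 by ring] at this

/-! ### kind A -/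

theorem kindA (h : TN p q s c c5 M u e) {m : ℕ} (hm : 4 ≤ m) {y σ : ℤ} {d : ℕ} {w : ℤ} {T1 T2 : ℕ} (D : DatA u m y σ d w T1 T2)
    (h4 : m = 4 → c5 = 5 → 71 ≤ q) {β : ℤ} (hβ : |β| ≤ u + 1) : Kind c5 q u (m - 1) d β w := by
  left
  have h1 := D.gam h.z.u2
  have h2 := Nat.le_of_dvd (by omega) D.dm
  exact ⟨h1, hβ, by omega, fun h3 h5 => h4 (by omega) h5⟩

theorem caseA1 (h : TN p q s c c5 M u e) {m : ℕ} (hm : 4 ≤ m) {y σ : ℤ} {d : ℕ} {w : ℤ} {T1 T2 : ℕ} (D : DatA u m y σ d w T1 T2)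
    (h4 : m = 4 → c5 = 5 → 71 ≤ q) (hT : T1 = M * e) (hN : Up p s c T2) :
    q = p ∧ (y - 1) * (s ^ 4 + s ^ 3 + s ^ 2 + s + 1) = y ^ m - 1 ∧ e ∣ c5 := by
  have z := h.z
  have b1 := D.tb1 z.u2 hm
  have b2 := D.tb2 z.u2 hm
  have hcop : Nat.Coprime T2 M := (D.cop.coprime_dvd_left (by rw [hT]; exact dvd_mul_right _ _)).symm
  have hz := z.h.big_zero h.big z.u2 (by omega : 3 ≤ m - 1) D.d1 b1.lo b1.up b2.lo (h.kindA hm D h4 D.bet1) hT z.he hN hcop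
    (D.rel (by omega))
  obtain ⟨h1, h2⟩ := z.zeroA1 D.hy D.hσ D.hσ D.d1 D.hw D.dm (by omega) D.e1 hT hz
  refine ⟨h1, h2, ?_⟩
  have h3 := D.e1
  rw [← h2, ← z.h.phi, hT] at h3
  push_cast at h3
  have hy1 : y - 1 ≠ 0 := by
    have hu : (2 : ℤ) ≤ u := by exact_mod_cast z.u2
    rcases D.hy with h5 | h5 <;> rw [h5] <;> intro h6 <;> linarith
  have hM0 : (M : ℤ) ≠ 0 := by have := z.h.M_pos; positivity
  have h5 : (c5 : ℤ) = e * (σ * d) := by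
    refine mul_left_cancel₀ (mul_ne_zero hy1 hM0) ?_
    linear_combination -h3
  have h6 : (e : ℤ) ∣ c5 := ⟨_, h5⟩
  exact_mod_cast h6

theorem caseA2 (h : TN p q s c c5 M u e) {m : ℕ} (hm : 4 ≤ m) {y σ : ℤ} {d : ℕ} {w : ℤ} {T1 T2 : ℕ} (D : DatA u m y σ d w T1 T2)
    (h4 : m = 4 → c5 = 5 → 71 ≤ q) (hT : T2 = M * e) (hN : Up p s c T1) :
    q = p ∧ u = 5 ∧ c5 = 5 ∧ y = -5 ∧ m % 2 = 0 ∧ (5 : ℤ) ^ (m - 1) + 1 = 6 * M ∧ e ∣ 6 := by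
  have z := h.z
  have b1 := D.tb1 z.u2 hm
  have b2 := D.tb2 z.u2 hm
  have hcop : Nat.Coprime T1 M := D.cop.coprime_dvd_right (by rw [hT]; exact dvd_mul_right _ _)
  have hrel : -(σ * y) * (T2 : ℤ) + σ * (y - 1) * T1 = w := by
    have := D.rel (m := m) (by omega)
    linarith
  have hz := z.h.big_zero h.big z.u2 (by omega : 3 ≤ m - 1) D.d1 b2.lo b2.up b1.lo (h.kindA hm D h4 (D.bet2 z.u2)) hT z.he hN hcop
    hrel
  obtain ⟨h1, h2, h3, h5, h6, h7⟩ := z.zeroA2 D.hy D.hσ D.hσ D.d1 D.hw (by omega : 1 ≤ m - 1) D.e2 hT hz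
  refine ⟨h1, h2, h3, h5, by omega, h7, ?_⟩
  have h8 := D.e2
  rw [hT, h5] at h8
  have hod : Odd (m - 1) := Nat.odd_iff.mpr h6
  rw [hod.neg_pow] at h8
  push_cast at h8
  have hM0 : (M : ℤ) ≠ 0 := by have := z.h.M_pos; positivity
  have h9 : (6 : ℤ) = e * (-(σ * d)) := by
    refine mul_left_cancel₀ hM0 ?_
    linear_combination -h7 + h8
  have h10 : (e : ℤ) ∣ 6 := ⟨_, h9⟩
  exact_mod_cast h10

/-! ### kind B -/

theorem caseB (h : TN p q s c c5 M u e) {D : ℕ} (hD : 3 ≤ D) {T N g : ℕ} {ε : ℤ} (hε : ε = 1 ∨ ε = -1) (hg : g ∣ 2)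
    (h1 : (T : ℤ) * g = (u : ℤ) ^ D + ε) (h2 : (N : ℤ) * g = (u : ℤ) ^ D - ε) (hT : T = M * e) (hN : Up p s c N) :
    q = p ∧ ε = 1 ∧ (u : ℤ) ^ D + 1 = 2 * (s ^ 4 + s ^ 3 + s ^ 2 + s + 1) ∧ e ∣ 2 * c5 := by
  have z := h.z
  have hg0 : 1 ≤ g := Nat.pos_of_dvd_of_pos hg (by norm_num)
  have hgle := Nat.le_of_dvd (by norm_num) hg
  obtain ⟨γ, hγ⟩ : ∃ γ : ℕ, γ * g = 2 := by
    obtain ⟨k, hk⟩ := hg
    exact ⟨k, by rw [hk]; ring⟩
  have hγ' : (γ : ℤ) * g = 2 := by exact_mod_cast hγ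
  have b1 : TB u D g T := by
    rcases hε with rfl | rfl
    · exact TB.plus z.u2 (by omega) h1
    · exact TB.minus z.u2 (by omega) (by rw [h1]; ring)
  have b2 : TB u D g N := by
    rcases hε with rfl | rfl
    · exact TB.minus z.u2 (by omega) h2
    · exact TB.plus z.u2 (by omega) (by rw [h2]; ring)
  have hrel : ε * (T : ℤ) + -ε * N = γ := by
    have hg' : (g : ℤ) ≠ 0 := by positivity
    refine mul_right_cancel₀ hg' ?_
    have hεε : ε * ε = 1 := by rcases hε with rfl | rfl <;> norm_num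
    linear_combination ε * h1 - ε * h2 + 2 * hεε - hγ'
  have hk : Kind c5 q u D g (-ε) γ := by
    right; left
    constructor
    · rw [abs_of_nonneg (by positivity), hγ']
    · rcases hε with rfl | rfl <;> norm_num
  have hcop : Nat.Coprime N M := h.copB (by rw [hT]; exact dvd_mul_right _ _) h1 h2 hε
  have hz := z.h.big_zero h.big z.u2 hD hg0 b1.lo b1.up b2.lo hk hT z.he hN hcop hrel
  obtain ⟨h3, h4, h5⟩ := z.zeroB hε hγ' hT hz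
  subst h4
  rw [h1] at h5
  refine ⟨h3, rfl, h5, ?_⟩
  rw [← z.h.phi, ← h1, hT] at h5
  push_cast at h5
  have hM0 : (M : ℤ) ≠ 0 := by have := z.h.M_pos; positivity
  have h9 : ((2 * c5 : ℕ) : ℤ) = e * g := by
    refine mul_left_cancel₀ hM0 ?_
    push_cast
    linear_combination -h5
  have h10 : (e : ℤ) ∣ ((2 * c5 : ℕ) : ℤ) := ⟨_, h9⟩
  exact_mod_cast h10

/-! ### kind C -/

theorem kindC (h : TN p q s c c5 M u e) {D g : ℕ} (hD : 4 ≤ D) (hg : g ∣ 4) {β γ b : ℤ} (hb : |b| ≤ u + 1) (hβ : |β| ≤ u + 1)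
    (hγ : γ * g = b ^ 2 ∨ γ * g = - b ^ 2) : Kind c5 q u D g β γ := by
  right; right
  refine ⟨hD, ?_, hβ, Nat.le_of_dvd (by norm_num) hg⟩
  have h1 : |γ| * g = |γ * g| := by rw [abs_mul, abs_of_nonneg (by positivity : (0 : ℤ) ≤ g)]
  have h2 : |γ * g| = |b| ^ 2 := by
    rcases hγ with h3 | h3
    · rw [h3, abs_pow]
    · rw [h3, abs_neg, abs_pow]
  rw [h1, h2]
  exact pow_le_pow_left₀ (abs_nonneg _) hb 2

/-- the data: `X g = u ^ m - ε`, `Y g = (u ^ (m - 1) + 1) b`, `b = u + ε` -/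
structure DatC (u m : ℕ) (ε : ℤ) (b g X Y : ℕ) : Prop where
  hm : 4 ≤ m
  hε : ε = 1 ∨ ε = -1
  hb : (b : ℤ) = u + ε
  par : ε = 1 → m % 2 = 1
  g4 : g ∣ 4
  e1 : (X : ℤ) * g = (u : ℤ) ^ m - ε
  e2 : (Y : ℤ) * g = ((u : ℤ) ^ (m - 1) + 1) * b

theorem DatC.rel {m : ℕ} {ε : ℤ} {b g X Y : ℕ} (D : DatC u m ε b g X Y) :
    ∃ γ : ℤ, γ * g = (b : ℤ) ^ 2 ∧ -(b : ℤ) * X + u * Y = γ := by
  refine ⟨_, ?_, rfl⟩
  have h1 : (u : ℤ) ^ m = u * u ^ (m - 1) := by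
    rw [← pow_succ']
    congr 1
    have := D.hm
    omega
  have h2 := D.e1
  rw [h1] at h2
  linear_combination u * D.e2 - b * h2 - b * D.hb

theorem DatC.g1 {m : ℕ} {ε : ℤ} {b g X Y : ℕ} (D : DatC u m ε b g X Y) : 1 ≤ g := Nat.pos_of_dvd_of_pos D.g4 (by norm_num)

theorem DatC.mod {m : ℕ} {ε : ℤ} {b g X Y : ℕ} (D : DatC u m ε b g X Y) :
    (b : ℤ) ∣ (X : ℤ) * g - 2 ∨ (b : ℤ) ∣ (X : ℤ) * g + 2 := by
  rw [D.e1, D.hb]
  rcases D.hε with h | h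
  · right
    have h1 := D.par h
    rw [h]
    have hod : Odd m := Nat.odd_iff.mpr h1
    have := hod.add_dvd_pow_add_pow (u : ℤ) 1
    rw [one_pow] at this
    rwa [show (u : ℤ) ^ m - 1 + 2 = u ^ m + 1 by ring]
  · left
    rw [h]
    have := sub_dvd_pow_sub_pow (u : ℤ) 1 m
    rw [one_pow] at this
    rwa [show (u : ℤ) ^ m - -1 - 2 = u ^ m - 1 by ring, show (u : ℤ) + -1 = u - 1 by ring]

theorem DatC.b1 {m : ℕ} {ε : ℤ} {b g X Y : ℕ} (D : DatC u m ε b g X Y) (hu : 2 ≤ u) : 1 ≤ b := by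
  have h1 := D.hb
  rcases D.hε with h | h <;> rw [h] at h1 <;> omega

theorem DatC.ble {m : ℕ} {ε : ℤ} {b g X Y : ℕ} (D : DatC u m ε b g X Y) : |(b : ℤ)| ≤ u + 1 := by
  rw [abs_of_nonneg (by positivity)]
  have h1 := D.hb
  rcases D.hε with h | h <;> rw [h] at h1 <;> linarith

theorem DatC.tbX {m : ℕ} {ε : ℤ} {b g X Y : ℕ} (D : DatC u m ε b g X Y) (hu : 2 ≤ u) : TB u m g X := by
  have hm := D.hm
  rcases D.hε with h | h
  · exact TB.minus hu (by omega) (by rw [D.e1, h])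
  · exact TB.plus hu (by omega) (by rw [D.e1, h]; ring)

theorem DatC.tbY {m : ℕ} {ε : ℤ} {b g X Y : ℕ} (D : DatC u m ε b g X Y) (hu : 2 ≤ u) : TB u m g Y := by
  have hm := D.hm
  have h2 : m = m - 1 + 1 := by omega
  rw [h2]
  rcases D.hε with h | h
  · exact TB.prod hu (by omega) (Or.inl (by rw [D.e2, D.hb, h]))
  · exact TB.prod hu (by omega) (Or.inr (Or.inl (by rw [D.e2, D.hb, h]; ring)))

theorem caseC1 (h : TN p q s c c5 M u e) {m : ℕ} {ε : ℤ} {b g X Y : ℕ} (D : DatC u m ε b g X Y) (hT : X = M * e) (hN : Up p s c Y) :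
    False := by
  have z := h.z
  obtain ⟨γ, h1, h2⟩ := D.rel
  have hu1 : |(u : ℤ)| ≤ u + 1 := by rw [abs_of_nonneg (by positivity)]; linarith
  have hcop : Nat.Coprime Y M := h.copC (m := m) (by rw [hT]; exact dvd_mul_right _ _) h2 (Or.inl h1) (Or.inl rfl) D.mod
  have hz := z.h.big_zero h.big z.u2 (by have := D.hm; omega : 3 ≤ m) D.g1 (D.tbX z.u2).lo (D.tbX z.u2).up (D.tbY z.u2).lo
    (h.kindC D.hm D.g4 D.ble hu1 (Or.inl h1)) hT z.he hN hcop h2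
  exact z.zeroC1 D.g4 D.g1 (D.b1 z.u2) h1 hz

theorem caseC2 (h : TN p q s c c5 M u e) {m : ℕ} {ε : ℤ} {b g X Y : ℕ} (D : DatC u m ε b g X Y) (hT : Y = M * e) (hN : Up p s c X) :
    False := by
  have z := h.z
  obtain ⟨γ, h1, h2⟩ := D.rel
  have hrel : (u : ℤ) * Y + -(b : ℤ) * X = γ := by linarith
  have hbb : |-(b : ℤ)| ≤ u + 1 := by rw [abs_neg]; exact D.ble
  have hcop : Nat.Coprime X M := h.copC (m := m) (by rw [hT]; exact dvd_mul_right _ _) hrel (Or.inl h1) (Or.inr rfl) D.mod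
  have hz := z.h.big_zero h.big z.u2 (by have := D.hm; omega : 3 ≤ m) D.g1 (D.tbY z.u2).lo (D.tbY z.u2).up (D.tbX z.u2).lo
    (h.kindC D.hm D.g4 D.ble hbb (Or.inl h1)) hT z.he hN hcop hrel
  have hb : b = u + 1 ∨ b + 1 = u := by
    have h3 := D.hb
    rcases D.hε with h4 | h4 <;> rw [h4] at h3 <;> omega
  obtain ⟨h3, h4, h5, h6⟩ := z.zeroC2 D.g4 D.g1 hb h1 hz
  have h7 := D.e2
  rw [hT] at h7
  push_cast at h7
  have hM0 : (M : ℤ) ≠ 0 := by have := z.h.M_pos; positivity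
  have hb0 : (b : ℤ) ≠ 0 := by have := D.b1 z.u2; positivity
  have h8 : (u : ℤ) ^ (m - 1) + 1 = M * b := by
    refine mul_right_cancel₀ hb0 ?_
    linear_combination -h7 - M * h6
  subst h4
  rcases D.hε with h9 | h9
  · have h10 := D.hb
    rw [h9] at h10
    have h11 : (b : ℤ) = 6 := by rw [h10]; norm_num
    have h12 := D.par h9
    rw [h11] at h8
    have hev : Even (m - 1) := Nat.even_iff.mpr (by have := D.hm; omega)
    -- mod 3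
    have h13 : (3 : ℤ) ∣ (5 : ℤ) ^ (m - 1) + 1 := ⟨M * 2, by push_cast at h8; rw [h8]; ring⟩
    obtain ⟨k, hk⟩ := hev
    have h14 : (3 : ℤ) ∣ (5 : ℤ) ^ (m - 1) - 1 := by
      rw [hk, ← two_mul, pow_mul]
      have := sub_dvd_pow_sub_pow ((5 : ℤ) ^ 2) 1 k
      rw [one_pow] at this
      exact (by norm_num : (3 : ℤ) ∣ 5 ^ 2 - 1).trans this
    have h15 := dvd_sub h13 h14
    rw [show (5 : ℤ) ^ (m - 1) + 1 - (5 ^ (m - 1) - 1) = 2 by ring] at h15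
    norm_num at h15
  · have h10 := D.hb
    rw [h9] at h10
    have h11 : (b : ℤ) = 4 := by rw [h10]; norm_num
    rw [h11] at h8
    have h13 : (4 : ℤ) ∣ (5 : ℤ) ^ (m - 1) + 1 := ⟨M, by push_cast at h8; rw [h8]; ring⟩
    have h14 : (4 : ℤ) ∣ (5 : ℤ) ^ (m - 1) - 1 := by
      have := sub_dvd_pow_sub_pow (5 : ℤ) 1 (m - 1)
      rw [one_pow] at this
      exact (by norm_num : (4 : ℤ) ∣ 5 - 1).trans this
    have h15 := dvd_sub h13 h14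
    rw [show (5 : ℤ) ^ (m - 1) + 1 - (5 ^ (m - 1) - 1) = 2 by ring] at h15
    norm_num at h15

/-- `T'' = (u ^ (m - 1) - 1) (u + 1) / g`, `m` even -/
theorem caseC3 (h : TN p q s c c5 M u e) {m g X Y : ℕ} (hm : 4 ≤ m) (hm2 : m % 2 = 0) (hg : g ∣ 4)
    (e1 : (X : ℤ) * g = (u : ℤ) ^ m + 1) (e2 : (Y : ℤ) * g = ((u : ℤ) ^ (m - 1) - 1) * (u + 1)) (hT : Y = M * e) (hN : Up p s c X) :
    False := by
  have z := h.z
  have hg1 : 1 ≤ g := Nat.pos_of_dvd_of_pos hg (by norm_num)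
  obtain ⟨γ, h1, h2⟩ : ∃ γ : ℤ, γ * g = -((u : ℤ) + 1) ^ 2 ∧ (u : ℤ) * Y + -((u : ℤ) + 1) * X = γ := by
    refine ⟨_, ?_, rfl⟩
    have h1 : (u : ℤ) ^ m = u * u ^ (m - 1) := by
      rw [← pow_succ']
      congr 1
      omega
    rw [h1] at e1
    linear_combination u * e2 - ((u : ℤ) + 1) * e1
  have hbb : |-((u : ℤ) + 1)| ≤ u + 1 := by rw [abs_neg, abs_of_nonneg (by positivity)]
  have hbb' : |((u : ℤ) + 1)| ≤ u + 1 := by rw [abs_of_nonneg (by positivity)]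
  have hmod : ((u : ℤ) + 1) ∣ (X : ℤ) * g - 2 ∨ ((u : ℤ) + 1) ∣ (X : ℤ) * g + 2 := by
    left
    rw [e1]
    obtain ⟨k, hk⟩ := Nat.even_iff.mpr hm2
    rw [hk, ← two_mul, pow_mul]
    have := sub_dvd_pow_sub_pow ((u : ℤ) ^ 2) 1 k
    rw [one_pow] at this
    have h3 : ((u : ℤ) + 1) ∣ (u : ℤ) ^ 2 - 1 := ⟨u - 1, by ring⟩
    rw [show ((u : ℤ) ^ 2) ^ k + 1 - 2 = ((u : ℤ) ^ 2) ^ k - 1 by ring]
    exact h3.trans this
  have hcop : Nat.Coprime X M := h.copC (m := m) (by rw [hT]; exact dvd_mul_right _ _) h2 (Or.inr h1) (Or.inr rfl) hmod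
  have bX : TB u m g X := TB.plus z.u2 (by omega) e1
  have bY : TB u m g Y := by
    have h2 : m = m - 1 + 1 := by omega
    rw [h2]
    exact TB.prod z.u2 (by omega) (Or.inr (Or.inr e2))
  have hz := z.h.big_zero h.big z.u2 (by omega : 3 ≤ m) hg1 bY.lo bY.up bX.lo
    (h.kindC hm hg hbb' hbb (Or.inr h1)) hT z.he hN hcop h2
  exact z.zeroC3 hg hg1 h1 hz

end TN

end Cfsg.Agent.R2.Spec.X7.N6
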