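import Cfsg.Agent.R2.Spec.X7.N6.Ctx
import Cfsg.Agent.R2.Spec.X7.N6.Num
import Cfsg.Agent.R2.Spec.F1.TtorCop

/-!
# Box X7, `n = 6` (helper15, S3435): the numbers of the tori
-/

set_option autoImplicit false
set_option linter.unusedVariables false
set_option maxHeartbeats 1000000

namespace Cfsg.Agent.R2.Spec.X7.N6

open Cfsg.Agent.H426.LieFam Cfsg.Agent.R2.Spec Cfsg.Agent.R2.Spec.P1 Cfsg.Agent.R2.Spec.F1

/-- the bounds for a torus number `T` with denominator `g` and degree `D` -/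
structure TB (u D g T : ℕ) : Prop where
  lo : (u - 1) * u ^ (D - 1) ≤ T * g
  up : T * g * (u - 1) ≤ u ^ (D + 1)

lemma pow_pred_le {u m : ℕ} (hu : 2 ≤ u) (hm : 1 ≤ m) : (u - 1) * u ^ (m - 1) + 1 ≤ u ^ m := by
  obtain ⟨k, rfl⟩ := Nat.exists_eq_add_of_le hm
  obtain ⟨w, rfl⟩ := Nat.exists_eq_add_of_le hu
  have h1 : 1 ≤ (2 + w) ^ k := Nat.one_le_pow _ _ (by omega)
  have h2 : (2 + w) ^ (1 + k) = (2 + w) * (2 + w) ^ k := by rw [pow_add, pow_one]
  rw [show 1 + k - 1 = k by omega, show 2 + w - 1 = 1 + w by omega, h2]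
  nlinarith

/-- `T g = u ^ m - 1` -/
lemma TB.minus {u m g T : ℕ} (hu : 2 ≤ u) (hm : 1 ≤ m) (h : (T : ℤ) * g = (u : ℤ) ^ m - 1) : TB u m g T := by
  have h1 : T * g + 1 = u ^ m := by
    have : ((T * g + 1 : ℕ) : ℤ) = ((u ^ m : ℕ) : ℤ) := by push_cast; linarith
    exact_mod_cast this
  have h2 := pow_pred_le hu hm
  refine ⟨by omega, ?_⟩
  calc T * g * (u - 1) ≤ u ^ m * u := Nat.mul_le_mul (by omega) (by omega)
    _ = u ^ (m + 1) := (pow_succ _ _).symm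

/-- `T g = u ^ m + 1` -/
lemma TB.plus {u m g T : ℕ} (hu : 2 ≤ u) (hm : 1 ≤ m) (h : (T : ℤ) * g = (u : ℤ) ^ m + 1) : TB u m g T := by
  have h1 : T * g = u ^ m + 1 := by
    have : ((T * g : ℕ) : ℤ) = ((u ^ m + 1 : ℕ) : ℤ) := by push_cast; linarith
    exact_mod_cast this
  have h2 := pow_pred_le hu hm
  have h3 : u ≤ u ^ m := Nat.le_self_pow (by omega) u
  refine ⟨by omega, ?_⟩
  obtain ⟨w, rfl⟩ := Nat.exists_eq_add_of_le hu
  rw [h1, pow_succ, show 2 + w - 1 = 1 + w by omega]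
  nlinarith

/-- `T g (u - 1) = u ^ (m + 1) - 1` -/
lemma TB.quo {u m g T : ℕ} (hu : 2 ≤ u) (hm : 1 ≤ m) (h : (T : ℤ) * g * (u - 1) = (u : ℤ) ^ (m + 1) - 1) : TB u m g T := by
  obtain ⟨w, rfl⟩ := Nat.exists_eq_add_of_le hu
  have h1 : T * g * (1 + w) + 1 = (2 + w) ^ (m + 1) := by
    have : ((T * g * (1 + w) + 1 : ℕ) : ℤ) = (((2 + w) ^ (m + 1) : ℕ) : ℤ) := by push_cast at h ⊢; linarith
    exact_mod_cast this
  refine ⟨?_, by rw [show 2 + w - 1 = 1 + w by omega]; omega⟩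
  have h2 := pow_pred_le hu hm
  have h3 := pow_pred_le hu (show 1 ≤ m + 1 by omega)
  rw [show m + 1 - 1 = m by omega, show 2 + w - 1 = 1 + w by omega] at h3
  rw [show 2 + w - 1 = 1 + w by omega] at h2 ⊢
  have h4 : (1 + w) * (2 + w) ^ m ≤ (1 + w) * (T * g) := by
    have : (1 + w) * (2 + w) ^ m ≤ T * g * (1 + w) := by omega
    linarith
  have h5 : (2 + w) ^ m ≤ T * g := Nat.le_of_mul_le_mul_left h4 (by omega)
  omega

/-- `T g (u + 1) = u ^ (m + 1) ± 1` -/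
lemma TB.quo' {u m g T : ℕ} (hu : 2 ≤ u) (hm : 1 ≤ m)
    (h : (T : ℤ) * g * (u + 1) = (u : ℤ) ^ (m + 1) + 1 ∨ (T : ℤ) * g * (u + 1) = (u : ℤ) ^ (m + 1) - 1) : TB u m g T := by
  obtain ⟨k, rfl⟩ := Nat.exists_eq_add_of_le hm
  have hu' : (2 : ℤ) ≤ u := by exact_mod_cast hu
  have hX : (1 : ℤ) ≤ (u : ℤ) ^ k := one_le_pow₀ (by linarith)
  have hle : (T : ℤ) * g * (u + 1) ≤ (u : ℤ) ^ (1 + k + 1) + 1 := by rcases h with h | h <;> linarith
  have hge : (u : ℤ) ^ (1 + k + 1) - 1 ≤ (T : ℤ) * g * (u + 1) := by rcases h with h | h <;> linarith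
  have e1 : (u : ℤ) ^ (1 + k + 1) = u ^ 2 * u ^ k := by ring
  rw [e1] at hle hge
  have hcast : ((u - 1 : ℕ) : ℤ) = (u : ℤ) - 1 := by rw [Nat.cast_sub (by omega)]; norm_num
  constructor
  · have h1 : ((u : ℤ) - 1) * u ^ k * (u + 1) ≤ (T * g) * (u + 1) := by nlinarith
    have h2 := le_of_mul_le_mul_right h1 (by linarith)
    have h3 : (((u - 1) * u ^ (1 + k - 1) : ℕ) : ℤ) ≤ ((T * g : ℕ) : ℤ) := by
      rw [show 1 + k - 1 = k by omega]
      push_cast [hcast]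
      exact h2
    exact_mod_cast h3
  · have h1 : ((T : ℤ) * g * (u - 1)) * (u + 1) ≤ (u ^ 2 * u ^ k) * (u + 1) := by
      have h2 : ((T : ℤ) * g * (u - 1)) * (u + 1) = ((T : ℤ) * g * (u + 1)) * (u - 1) := by ring
      rw [h2]
      have h3 : ((T : ℤ) * g * (u + 1)) * (u - 1) ≤ (u ^ 2 * u ^ k + 1) * (u - 1) :=
        mul_le_mul_of_nonneg_right hle (by linarith)
      nlinarith
    have h2 := le_of_mul_le_mul_right h1 (by linarith)
    have h3 : ((T * g * (u - 1) : ℕ) : ℤ) ≤ ((u ^ (1 + k + 1) : ℕ) : ℤ) := by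
      push_cast [hcast]
      rw [show (u : ℤ) ^ (1 + k + 1) = u ^ 2 * u ^ k by ring]
      exact h2
    exact_mod_cast h3

/-- `T g = (u ^ k + 1) (u ± 1)` or `(u ^ k - 1) (u + 1)` -/
lemma TB.prod {u k g T : ℕ} (hu : 2 ≤ u) (hk : 2 ≤ k)
    (h : (T : ℤ) * g = ((u : ℤ) ^ k + 1) * (u + 1) ∨ (T : ℤ) * g = ((u : ℤ) ^ k + 1) * (u - 1) ∨
      (T : ℤ) * g = ((u : ℤ) ^ k - 1) * (u + 1)) : TB u (k + 1) g T := by
  have hu' : (2 : ℤ) ≤ u := by exact_mod_cast hu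
  have hX2 : (u : ℤ) ^ 2 ≤ (u : ℤ) ^ k := pow_le_pow_right₀ (by linarith) hk
  have hX : (4 : ℤ) ≤ (u : ℤ) ^ k := by nlinarith
  have hcast : ((u - 1 : ℕ) : ℤ) = (u : ℤ) - 1 := by rw [Nat.cast_sub (by omega)]; norm_num
  constructor
  · have h3 : (((u - 1) * u ^ (k + 1 - 1) : ℕ) : ℤ) ≤ ((T * g : ℕ) : ℤ) := by
      rw [show k + 1 - 1 = k by omega]
      push_cast [hcast]
      rcases h with h | h | h <;> rw [h] <;> nlinarith
    exact_mod_cast h3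
  · have h3 : ((T * g * (u - 1) : ℕ) : ℤ) ≤ ((u ^ (k + 1 + 1) : ℕ) : ℤ) := by
      push_cast [hcast]
      rw [show (u : ℤ) ^ (k + 1 + 1) = u ^ 2 * u ^ k by ring]
      rcases h with h | h | h <;> rw [h] <;> nlinarith
    exact_mod_cast h3

/-! ### the families -/

/-- the data of the linear and unitary families; `y = ± u` -/
structure DatA (u m : ℕ) (y σ : ℤ) (d : ℕ) (w : ℤ) (T1 T2 : ℕ) : Prop where
  hy : y = u ∨ y = -(u : ℤ)
  hσ : σ = 1 ∨ σ = -1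
  d1 : 1 ≤ d
  dm : d ∣ m
  hw : (d : ℤ) * w = y - 1
  e1 : σ * T1 * (d * (y - 1)) = y ^ m - 1
  e2 : σ * T2 * d = y ^ (m - 1) - 1
  cop : Nat.Coprime T1 T2

theorem datA_psl {u m : ℕ} (hu : 2 ≤ u) (hm : 4 ≤ m) :
    ∃ d w, DatA u m (u : ℤ) 1 d w (ttor (.psl m) u m) (ttor (.psl m) u (m - 1)) := by
  have e0 : ((u : ℤ) - 1).natAbs = u - 1 := by omega
  have hcast : ((u - 1 : ℕ) : ℤ) = (u : ℤ) - 1 := by rw [Nat.cast_sub (by omega)]; norm_num
  have hdpos : 0 < Nat.gcd m (u - 1) := Nat.gcd_pos_of_pos_left _ (by omega)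
  have hd1 : Nat.gcd m (u - 1) ∣ u - 1 := Nat.gcd_dvd_right _ _
  have t1 : ttor (.psl m) u m = (u ^ m - 1) / ((u - 1) * Nat.gcd m (u - 1)) := by rw [ttor, if_pos rfl]
  have t2 : ttor (.psl m) u (m - 1) = (u ^ (m - 1) - 1) / Nat.gcd m (u - 1) := by rw [ttor, if_neg (by omega)]
  obtain ⟨w, hw⟩ := hd1
  have h1 := gcd_mul_dvd_ua (s := (u : ℤ)) (n := m) e0
  rw [ua_plus (by omega) m] at h1
  have h2 : Nat.gcd m (u - 1) ∣ u ^ (m - 1) - 1 := by
    have := Nat.sub_dvd_pow_sub_pow u 1 (m - 1)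
    rw [one_pow] at this
    exact (Nat.gcd_dvd_right m (u - 1)).trans this
  have p1 : 1 ≤ u ^ m := Nat.one_le_pow _ _ (by omega)
  have p2 : 1 ≤ u ^ (m - 1) := Nat.one_le_pow _ _ (by omega)
  refine ⟨Nat.gcd m (u - 1), (w : ℤ), ⟨Or.inl rfl, Or.inl rfl, hdpos, Nat.gcd_dvd_left _ _, ?_, ?_, ?_, ?_⟩⟩
  · rw [← hcast, ← Nat.cast_mul, ← hw]
  · have h3 : ttor (.psl m) u m * (Nat.gcd m (u - 1) * (u - 1)) = u ^ m - 1 := by
      rw [t1, mul_comm (u - 1)]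
      exact Nat.div_mul_cancel h1
    have h4 : ((ttor (.psl m) u m * (Nat.gcd m (u - 1) * (u - 1)) : ℕ) : ℤ) = ((u ^ m - 1 : ℕ) : ℤ) := by rw [h3]
    rw [Nat.cast_sub p1] at h4
    push_cast [hcast] at h4
    linarith
  · have h3 : ttor (.psl m) u (m - 1) * Nat.gcd m (u - 1) = u ^ (m - 1) - 1 := by
      rw [t2]
      exact Nat.div_mul_cancel h2
    have h4 : ((ttor (.psl m) u (m - 1) * Nat.gcd m (u - 1) : ℕ) : ℤ) = ((u ^ (m - 1) - 1 : ℕ) : ℤ) := by rw [h3]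
    rw [Nat.cast_sub p2] at h4
    push_cast at h4
    linarith
  · rw [t1, t2]
    exact cop_psl (by omega) hu

theorem datA_psu {u m : ℕ} (hu : 2 ≤ u) (hm : 4 ≤ m) :
    ∃ d w, DatA u m (-(u : ℤ)) (if m % 2 = 0 then -1 else 1) d w (ttor (.psu m) u m) (ttor (.psu m) u (m - 1)) := by
  have e0 : (-(u : ℤ) - 1).natAbs = u + 1 := by omega
  have hdpos : 0 < Nat.gcd m (u + 1) := Nat.gcd_pos_of_pos_left _ (by omega)
  obtain ⟨w, hw⟩ : Nat.gcd m (u + 1) ∣ u + 1 := Nat.gcd_dvd_right _ _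
  have h1 := gcd_mul_dvd_ua (s := -(u : ℤ)) (n := m) e0
  have t2 : ttor (.psu m) u (m - 1) = (if m % 2 = 0 then u ^ (m - 1) + 1 else u ^ (m - 1) - 1) / Nat.gcd m (u + 1) := by
    rw [ttor, if_neg (by omega)]
  have t1 : ttor (.psu m) u m = (if m % 2 = 0 then u ^ m - 1 else u ^ m + 1) / ((u + 1) * Nat.gcd m (u + 1)) := by
    rw [ttor, if_pos rfl]
  have p1 : 1 ≤ u ^ m := Nat.one_le_pow _ _ (by omega)
  have p2 : 1 ≤ u ^ (m - 1) := Nat.one_le_pow _ _ (by omega)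
  have hwz : ((Nat.gcd m (u + 1) : ℕ) : ℤ) * (-(w : ℤ)) = -(u : ℤ) - 1 := by
    have : ((u + 1 : ℕ) : ℤ) = ((Nat.gcd m (u + 1) * w : ℕ) : ℤ) := by rw [← hw]
    push_cast at this
    linarith
  by_cases hm2 : m % 2 = 0
  · rw [if_pos hm2] at t1 t2
    have hev : Even m := Nat.even_iff.mpr hm2
    have hod : Odd (m - 1) := Nat.odd_iff.mpr (by omega)
    have hua : ua (-(u : ℤ)) m = u ^ m - 1 := ua_minus_even (by omega) hev
    rw [hua] at h1
    have h2 : Nat.gcd m (u + 1) ∣ u ^ (m - 1) + 1 := by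
      have := hod.nat_add_dvd_pow_add_pow u 1
      rw [one_pow] at this
      exact (Nat.gcd_dvd_right m (u + 1)).trans this
    refine ⟨Nat.gcd m (u + 1), -(w : ℤ), ⟨Or.inr rfl, by rw [if_pos hm2]; right; rfl, hdpos, Nat.gcd_dvd_left _ _, hwz, ?_, ?_, ?_⟩⟩
    · rw [if_pos hm2, hev.neg_pow]
      have h3 : ttor (.psu m) u m * (Nat.gcd m (u + 1) * (u + 1)) = u ^ m - 1 := by
        rw [t1, mul_comm (u + 1)]
        exact Nat.div_mul_cancel h1
      have h4 : ((ttor (.psu m) u m * (Nat.gcd m (u + 1) * (u + 1)) : ℕ) : ℤ) = ((u ^ m - 1 : ℕ) : ℤ) := by rw [h3]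
      rw [Nat.cast_sub p1] at h4
      push_cast at h4
      linarith
    · rw [if_pos hm2, hod.neg_pow]
      have h3 : ttor (.psu m) u (m - 1) * Nat.gcd m (u + 1) = u ^ (m - 1) + 1 := by
        rw [t2]
        exact Nat.div_mul_cancel h2
      have h4 : ((ttor (.psu m) u (m - 1) * Nat.gcd m (u + 1) : ℕ) : ℤ) = ((u ^ (m - 1) + 1 : ℕ) : ℤ) := by rw [h3]
      push_cast at h4
      linarith
    · rw [t1, t2]
      refine cop_psu (by omega) hu ?_ ?_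
      · rw [Nat.cast_sub p1, hev.neg_one_pow, hev.neg_pow]
        push_cast
        ring
      · rw [hod.neg_one_pow, hod.neg_pow]
        push_cast
        ring
  · rw [if_neg hm2] at t1 t2
    have hod : Odd m := Nat.odd_iff.mpr (by omega)
    have hev : Even (m - 1) := Nat.even_iff.mpr (by omega)
    have hua : ua (-(u : ℤ)) m = u ^ m + 1 := ua_minus_odd hod
    rw [hua] at h1
    have h2 : Nat.gcd m (u + 1) ∣ u ^ (m - 1) - 1 := by
      obtain ⟨k, hk⟩ := hev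
      have h3 : u ^ (m - 1) - 1 = (u ^ 2) ^ k - 1 ^ k := by rw [← pow_mul, one_pow, hk]; ring_nf
      rw [h3]
      have h4 : u + 1 ∣ u ^ 2 - 1 := by
        have h5 : u ^ 2 - 1 = (u + 1) * (u - 1) := by
          have := Nat.sq_sub_sq u 1
          rw [one_pow] at this
          exact this
        rw [h5]
        exact dvd_mul_right _ _
      exact (Nat.gcd_dvd_right m (u + 1)).trans (h4.trans (Nat.sub_dvd_pow_sub_pow _ _ _))
    refine ⟨Nat.gcd m (u + 1), -(w : ℤ), ⟨Or.inr rfl, by rw [if_neg hm2]; left; rfl, hdpos, Nat.gcd_dvd_left _ _, hwz, ?_, ?_, ?_⟩⟩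
    · rw [if_neg hm2, hod.neg_pow]
      have h3 : ttor (.psu m) u m * (Nat.gcd m (u + 1) * (u + 1)) = u ^ m + 1 := by
        rw [t1, mul_comm (u + 1)]
        exact Nat.div_mul_cancel h1
      have h4 : ((ttor (.psu m) u m * (Nat.gcd m (u + 1) * (u + 1)) : ℕ) : ℤ) = ((u ^ m + 1 : ℕ) : ℤ) := by rw [h3]
      push_cast at h4
      linarith
    · rw [if_neg hm2, hev.neg_pow]
      have h3 : ttor (.psu m) u (m - 1) * Nat.gcd m (u + 1) = u ^ (m - 1) - 1 := by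
        rw [t2]
        exact Nat.div_mul_cancel h2
      have h4 : ((ttor (.psu m) u (m - 1) * Nat.gcd m (u + 1) : ℕ) : ℤ) = ((u ^ (m - 1) - 1 : ℕ) : ℤ) := by rw [h3]
      rw [Nat.cast_sub p2] at h4
      push_cast at h4
      linarith
    · rw [t1, t2]
      refine cop_psu (by omega) hu ?_ ?_
      · rw [hod.neg_one_pow, hod.neg_pow]
        push_cast
        ring
      · rw [Nat.cast_sub p2, hev.neg_one_pow, hev.neg_pow]
        push_cast
        ring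

namespace DatA

variable {u m : ℕ} {y σ : ℤ} {d : ℕ} {w : ℤ} {T1 T2 : ℕ}

theorem rel (h : DatA u m y σ d w T1 T2) (hm : 1 ≤ m) : σ * (y - 1) * T1 + -(σ * y) * T2 = w := by
  have hd : (d : ℤ) ≠ 0 := by have := h.d1; positivity
  refine mul_left_cancel₀ hd ?_
  have h1 : y ^ m = y * y ^ (m - 1) := by
    rw [← pow_succ']
    congr 1
    omega
  have h2 := h.e1
  rw [h1] at h2
  linear_combination h2 - y * h.e2 - h.hw

theorem gam (h : DatA u m y σ d w T1 T2) (hu : 2 ≤ u) : |w| * d ≤ u + 1 := by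
  have h1 : |w| * d = |y - 1| := by
    rw [← h.hw, abs_mul, abs_of_nonneg (by positivity : (0 : ℤ) ≤ d), mul_comm]
  rw [h1]
  have hu' : (2 : ℤ) ≤ u := by exact_mod_cast hu
  rcases h.hy with h2 | h2
  · rw [h2, abs_of_nonneg (by linarith)]; linarith
  · rw [h2, show -(u : ℤ) - 1 = -(u + 1) by ring, abs_neg, abs_of_nonneg (by linarith)]

theorem bet1 (h : DatA u m y σ d w T1 T2) : |-(σ * y)| ≤ u + 1 := by
  rw [abs_neg, abs_mul]
  have h1 : |σ| = 1 := by rcases h.hσ with h | h <;> rw [h] <;> norm_num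
  rw [h1, one_mul]
  rcases h.hy with h2 | h2
  · rw [h2, abs_of_nonneg (by positivity)]; linarith
  · rw [h2, abs_neg, abs_of_nonneg (by positivity)]; linarith

theorem bet2 (h : DatA u m y σ d w T1 T2) (hu : 2 ≤ u) : |σ * (y - 1)| ≤ u + 1 := by
  rw [abs_mul]
  have h1 : |σ| = 1 := by rcases h.hσ with h | h <;> rw [h] <;> norm_num
  rw [h1, one_mul]
  have hu' : (2 : ℤ) ≤ u := by exact_mod_cast hu
  rcases h.hy with h2 | h2
  · rw [h2, abs_of_nonneg (by linarith)]; linarith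
  · rw [h2, show -(u : ℤ) - 1 = -(u + 1) by ring, abs_neg, abs_of_nonneg (by linarith)]

theorem abs_e1 (h : DatA u m y σ d w T1 T2) : (T1 : ℤ) * d * |y - 1| = |y ^ m - 1| := by
  rw [← h.e1, abs_mul, abs_mul, abs_mul]
  have h1 : |σ| = 1 := by rcases h.hσ with h | h <;> rw [h] <;> norm_num
  rw [h1, abs_of_nonneg (by positivity : (0 : ℤ) ≤ T1), abs_of_nonneg (by positivity : (0 : ℤ) ≤ d)]
  ring

theorem abs_e2 (h : DatA u m y σ d w T1 T2) : (T2 : ℤ) * d = |y ^ (m - 1) - 1| := by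
  rw [← h.e2, abs_mul, abs_mul]
  have h1 : |σ| = 1 := by rcases h.hσ with h | h <;> rw [h] <;> norm_num
  rw [h1, abs_of_nonneg (by positivity : (0 : ℤ) ≤ T2), abs_of_nonneg (by positivity : (0 : ℤ) ≤ d)]
  ring

theorem abs_pow_cases {u : ℕ} {y : ℤ} (hu : 2 ≤ u) (hy : y = u ∨ y = -(u : ℤ)) {m : ℕ} (hm : 1 ≤ m) :
    |y ^ m - 1| = (u : ℤ) ^ m - 1 ∨ (y = -(u : ℤ) ∧ |y ^ m - 1| = (u : ℤ) ^ m + 1) := by
  have hu' : (2 : ℤ) ≤ u := by exact_mod_cast hu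
  have h1 : (1 : ℤ) ≤ (u : ℤ) ^ m := one_le_pow₀ (by linarith)
  rcases hy with h | h
  · left
    rw [h, abs_of_nonneg (by linarith)]
  · rcases Nat.even_or_odd m with hev | hod
    · left
      rw [h, hev.neg_pow, abs_of_nonneg (by linarith)]
    · right
      refine ⟨h, ?_⟩
      rw [h, hod.neg_pow, show -(u : ℤ) ^ m - 1 = -((u : ℤ) ^ m + 1) by ring, abs_neg, abs_of_nonneg (by linarith)]

theorem tb1 (h : DatA u m y σ d w T1 T2) (hu : 2 ≤ u) (hm : 4 ≤ m) : TB u (m - 1) d T1 := by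
  have hu' : (2 : ℤ) ≤ u := by exact_mod_cast hu
  have h1 := h.abs_e1
  have hmm : m - 1 + 1 = m := by omega
  rcases h.hy with h2 | h2
  · have h3 : |y - 1| = (u : ℤ) - 1 := by rw [h2, abs_of_nonneg (by linarith)]
    rcases abs_pow_cases hu h.hy (m := m) (by omega) with h4 | ⟨h5, h4⟩
    · refine TB.quo hu (by omega) ?_
      rw [hmm, ← h4, ← h1, h3]
    · exfalso; linarith
  · have h3 : |y - 1| = (u : ℤ) + 1 := by
      rw [h2, show -(u : ℤ) - 1 = -(u + 1) by ring, abs_neg, abs_of_nonneg (by linarith)]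
    rcases abs_pow_cases hu h.hy (m := m) (by omega) with h4 | ⟨h5, h4⟩
    · refine TB.quo' hu (by omega) (Or.inr ?_)
      rw [hmm, ← h4, ← h1, h3]
    · refine TB.quo' hu (by omega) (Or.inl ?_)
      rw [hmm, ← h4, ← h1, h3]

theorem tb2 (h : DatA u m y σ d w T1 T2) (hu : 2 ≤ u) (hm : 4 ≤ m) : TB u (m - 1) d T2 := by
  have h1 := h.abs_e2
  rcases abs_pow_cases hu h.hy (m := m - 1) (by omega) with h4 | ⟨h5, h4⟩
  · exact TB.minus hu (by omega) (by rw [h1, h4])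
  · exact TB.plus hu (by omega) (by rw [h1, h4])

end DatA

end Cfsg.Agent.R2.Spec.X7.N6
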